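import Groth.Agent.EtFound.ConstStalk
import Groth.Agent.EtFound.Stalk
import Groth.Prelude.Def_EtCore
import Mathlib.CategoryTheory.Abelian.Basic
import Mathlib.CategoryTheory.Limits.Shapes.Pullback.HasPullback

/-! Morphisms out of constant sheaves given by global sections, and short exact sequences from pushouts. -/

set_option autoImplicit false
set_option linter.style.haveILetI false
set_option backward.isDefEq.respectTransparency.types false

universe u

open CategoryTheory CategoryTheory.Limits AlgebraicGeometry Opposite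

namespace Groth.Agent.Cd58

section abelian

variable {C : Type*} [Category C] [Abelian C] {A B E D : C} {f : A ⟶ B} {g : B ⟶ D} {w : f ≫ g = 0}

/-- A pushout of a short exact sequence. -/
theorem shortExact_of_isPushout (h : (ShortComplex.mk f g w).ShortExact) {a : A ⟶ E} {P : C} {i : B ⟶ P} {k : E ⟶ P}
    (sq : IsPushout f a i k) {q : P ⟶ D} (hi : i ≫ q = g) (hk : k ≫ q = 0) :
    (ShortComplex.mk k q hk).ShortExact := by
  haveI : Mono f := h.mono_f
  haveI : Epi g := h.epi_g
  haveI : Epi q := by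
    haveI : Epi (i ≫ q) := by rw [hi]; infer_instance
    exact epi_of_epi i q
  haveI : Mono k := by
    rw [← sq.inr_isoPushout_inv]
    infer_instance
  refine ShortComplex.ShortExact.mk' ?_ (inferInstanceAs (Mono k)) ‹Epi q›
  have hw : ∀ {T : C} (m : P ⟶ T), k ≫ m = 0 → f ≫ i ≫ m = 0 := fun m hm => by
    rw [← Category.assoc, sq.w, Category.assoc, hm, comp_zero]
  refine ShortComplex.exact_of_g_is_cokernel _ (CokernelCofork.IsColimit.ofπ _ _
    (fun {T} m hm => (CokernelCofork.IsColimit.desc' h.gIsCokernel (i ≫ m) (hw m hm)).1)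
    (fun {T} m hm => ?_) fun {T} m hm e he => ?_)
  · refine sq.hom_ext ?_ ?_
    · rw [← Category.assoc, hi]
      exact (CokernelCofork.IsColimit.desc' h.gIsCokernel (i ≫ m) (hw m hm)).2
    · rw [← Category.assoc, hk, zero_comp]
      exact hm.symm
  · rw [← cancel_epi g]
    refine Eq.trans ?_ (CokernelCofork.IsColimit.desc' h.gIsCokernel (i ≫ m) (hw m hm)).2.symm
    rw [← he]
    show g ≫ e = i ≫ q ≫ e
    rw [← Category.assoc, hi]

end abelian

variable {X : Scheme.{u}} {G : EtCoh.Ab X} {ℓ : ℕ}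

/-- The morphism out of the constant sheaf given by a global section killed by `ℓ`. -/
noncomputable def constHom (g : G.obj.obj (op (EtCoh.top X))) (hg : ℓ • g = 0) : EtCoh.const X (ZMod ℓ) ⟶ G :=
  ⟨sheafifyLift _
    { app := fun U => AddCommGrpCat.ofHom
        (((G.obj.map ((EtCore.topIsTerminal _).from U.unop).op).hom.comp
          (ZMod.lift ℓ ⟨zmultiplesHom _ g, by
            show ((ℓ : ℕ) : ℤ) • g = 0
            rw [natCast_zsmul]; exact hg⟩)).comp AddEquiv.ulift.toAddMonoidHom)
      naturality := fun U V f => by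
        refine AddCommGrpCat.ext fun m => ?_
        show G.obj.map ((EtCore.topIsTerminal _).from V.unop).op _ =
          G.obj.map f (G.obj.map ((EtCore.topIsTerminal _).from U.unop).op _)
        rw [(EtCore.topIsTerminal _).hom_ext ((EtCore.topIsTerminal _).from V.unop)
          (f.unop ≫ (EtCore.topIsTerminal _).from U.unop), op_comp, Quiver.Hom.op_unop, G.obj.map_comp]
        rfl } G.property⟩

/-- If the image of the germ of the section does not vanish, the composite is injective on that stalk. -/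
theorem constHom_stalk_eq_zero [hℓ : Fact ℓ.Prime] (g : G.obj.obj (op (EtCoh.top X))) (hg : ℓ • g = 0)
    {G' : EtCoh.Ab X} (d : G ⟶ G') {Ω : Type u} [Field Ω] [IsSepClosed Ω] (ξ : Spec (CommRingCat.of Ω) ⟶ X)
    (p : (Scheme.pointSmallEtale ξ).fiber.obj (EtCoh.top X))
    (hne : (EtCoh.stalk ξ).map d ((Scheme.pointSmallEtale ξ).toPresheafFiber _ p G.obj g) ≠ 0)
    (z : (EtCoh.stalk ξ).obj (EtCoh.const X (ZMod ℓ)))
    (hz : (EtCoh.stalk ξ).map d ((EtCoh.stalk ξ).map (constHom g hg) z) = 0) :
    z = 0 := by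
  let P := Scheme.pointSmallEtale ξ
  let C : X.Etaleᵒᵖ ⥤ AddCommGrpCat.{u + 1} :=
    (Functor.const X.Etaleᵒᵖ).obj (AddCommGrpCat.of (ULift.{u + 1} (ZMod ℓ)))
  let c : ULift.{u + 1} (ZMod ℓ) → (EtCoh.stalk ξ).obj (EtCoh.const X (ZMod ℓ)) := fun m =>
    P.toPresheafFiber (EtCoh.top X) p (sheafify X.smallEtaleTopology C)
      ((toSheafify X.smallEtaleTopology C).app (op (EtCoh.top X)) m)
  obtain ⟨m, rfl⟩ := (show Function.Bijective c from EtFound.toSheafify_const_germ_bijective ξ
    AddCommGrpCat.{u + 1} (AddCommGrpCat.of (ULift.{u + 1} (ZMod ℓ))) (EtCoh.top X) p).2 z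
  haveI : NeZero ℓ := ⟨hℓ.out.ne_zero⟩
  have hval : (EtCoh.stalk ξ).map (constHom g hg) (c m) = m.down.val • P.toPresheafFiber _ p G.obj g := by
    refine (P.toPresheafFiber_naturality_apply (constHom g hg).hom (EtCoh.top X) p _).trans ?_
    rw [← map_nsmul]
    refine congrArg _ ?_
    refine (ConcreteCategory.congr_hom (congr_app (toSheafify_sheafifyLift (P := C) X.smallEtaleTopology _ G.property)
      (op (EtCoh.top X))) (m : C.obj (op (EtCoh.top X)))).trans ?_
    show G.obj.map ((EtCore.topIsTerminal X).from (EtCoh.top X)).op (ZMod.lift ℓ _ m.down) = _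
    rw [(EtCore.topIsTerminal X).hom_ext ((EtCore.topIsTerminal X).from _) (𝟙 _), op_id, G.obj.map_id]
    refine (ConcreteCategory.id_apply _).trans ?_
    conv_lhs => rw [← ZMod.natCast_zmod_val m.down]
    rw [show ((m.down.val : ℕ) : ZMod ℓ) = ((m.down.val : ℤ) : ZMod ℓ) from (Int.cast_natCast _).symm, ZMod.lift_coe]
    exact natCast_zsmul g _
  rw [hval] at hz
  replace hz := (map_nsmul ((EtCoh.stalk ξ).map d).hom _ _).symm.trans hz
  have hord : addOrderOf ((EtCoh.stalk ξ).map d (P.toPresheafFiber _ p G.obj g)) = ℓ := by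
    refine addOrderOf_eq_prime ?_ hne
    rw [← map_nsmul]
    refine (congrArg _ ?_).trans (map_zero _)
    exact (map_nsmul _ _ _).symm.trans ((congrArg _ hg).trans (map_zero _))
  have hdvd : ℓ ∣ m.down.val := (dvd_of_eq hord.symm).trans (addOrderOf_dvd_of_nsmul_eq_zero hz)
  have hm : m = 0 := ULift.ext _ _
    ((ZMod.val_eq_zero m.down).1 (Nat.eq_zero_of_dvd_of_lt hdvd (ZMod.val_lt m.down)))
  rw [hm]
  show c 0 = 0
  simp only [c, map_zero]
  rfl

end Groth.Agent.Cd58
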