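import Groth.Agent.DixBrauer.CohTriv.Seq
import Groth.Agent.EtMVLib.ExtTools

/-! Cohomology of a cyclic extension of prime degree embedded in a cyclic extension of the square degree:
vanishing in high degrees descends. -/

set_option autoImplicit false
set_option linter.style.haveILetI false
set_option backward.isDefEq.respectTransparency.types false

universe w v u

open CategoryTheory CategoryTheory.Limits CategoryTheory.Abelian

namespace Groth.Agent.Cd58

section abstract

variable {C : Type u} [Category.{v} C] [Abelian C] [HasExt.{w} C]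

theorem mk₀_nsmul_id_comp {A B : C} {n : ℕ} (x : Ext A B n) (m : ℕ) :
    (Ext.mk₀ (m • 𝟙 A)).comp x (zero_add n) = m • x := by
  induction m with
  | zero => simp
  | succ m ih => rw [succ_nsmul, succ_nsmul, Ext.mk₀_add, Ext.add_comp, ih, Ext.mk₀_id_comp]

theorem comp_mk₀_nsmul_id {A B : C} {n : ℕ} (x : Ext A B n) (m : ℕ) :
    x.comp (Ext.mk₀ (m • 𝟙 B)) (add_zero n) = m • x := by
  induction m with
  | zero => simp
  | succ m ih => rw [succ_nsmul, succ_nsmul, Ext.mk₀_add, Ext.comp_add, ih, Ext.comp_mk₀_id]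

/-- If the periodicity class `A ∘ B` is `ℓ` times a class, vanishing descends. -/
theorem subsingleton_ext_of_period {A B A' B' : ShortComplex C} (hA : A.ShortExact) (hB : B.ShortExact)
    (hA' : A'.ShortExact) (hB' : B'.ShortExact) (a : A' ⟶ A) (b : B' ⟶ B)
    (e₂ : A.X₁ ≅ B.X₃) (e₂' : A'.X₁ ≅ B'.X₃)
    (hcomm : a.τ₁ ≫ e₂.hom = e₂'.hom ≫ b.τ₃) [IsIso a.τ₃]
    (e : B'.X₁ ≅ B.X₁) (ℓ : ℕ) (hb : b.τ₁ = ℓ • e.hom) (Y : C) (hY : ℓ • 𝟙 Y = 0) (d : ℕ)
    (hA₂ : ∀ q, d < q → Subsingleton (Ext A.X₂ Y q)) (hB₂ : ∀ q, d < q → Subsingleton (Ext B.X₂ Y q))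
    (q : ℕ) (hq : d < q) : Subsingleton (Ext B.X₁ Y q) := by
  have kill : ∀ {Z : C} {n : ℕ} (x : Ext Z Y n), ℓ • x = 0 := fun x => by
    rw [← comp_mk₀_nsmul_id, hY, Ext.mk₀_zero, Ext.comp_zero]
  have high : ∀ m, d < m → ∀ z : Ext A.X₃ Y (1 + (1 + m)), z = 0 := by
    intro m hm z
    haveI := hA₂ (1 + (1 + m)) (by omega)
    obtain ⟨w, hw⟩ := Ext.contravariant_sequence_exact₃ hA Y z (Subsingleton.elim _ _) rfl
    haveI := hB₂ (1 + m) (by omega)
    obtain ⟨x, hx⟩ := Ext.contravariant_sequence_exact₃ hB Y ((Ext.mk₀ e₂.inv).comp w (zero_add _))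
      (Subsingleton.elim _ _) rfl
    have hw' : w = (Ext.mk₀ e₂.hom).comp (hB.extClass.comp x rfl) (zero_add _) := by
      rw [hx, Ext.mk₀_comp_mk₀_assoc, Iso.hom_inv_id, Ext.mk₀_id_comp]
    have hz : (Ext.mk₀ a.τ₃).comp z (zero_add _) = 0 := by
      rw [← hw, ← Ext.comp_assoc (Ext.mk₀ a.τ₃) hA.extClass w (zero_add 1) rfl (by omega),
        ← ShortComplex.ShortExact.extClass_naturality hA' hA a,
        Ext.comp_assoc_of_second_deg_zero, hw', Ext.mk₀_comp_mk₀_assoc, hcomm,
        ← Ext.mk₀_comp_mk₀_assoc]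
      have hb' : (Ext.mk₀ b.τ₃).comp (hB.extClass.comp x rfl) (zero_add _) = 0 := by
        rw [← Ext.comp_assoc (Ext.mk₀ b.τ₃) hB.extClass x (zero_add 1) rfl (by omega),
          ← ShortComplex.ShortExact.extClass_naturality hB' hB b, Ext.comp_assoc_of_second_deg_zero, hb,
          show ℓ • e.hom = (ℓ • 𝟙 B'.X₁) ≫ e.hom by rw [Preadditive.nsmul_comp, Category.id_comp],
          ← Ext.mk₀_comp_mk₀_assoc, mk₀_nsmul_id_comp, kill, Ext.comp_zero]
      rw [hb', Ext.comp_zero, Ext.comp_zero]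
    have h := congrArg (fun t => (Ext.mk₀ (inv a.τ₃)).comp t (zero_add _)) hz
    simpa only [Ext.mk₀_comp_mk₀_assoc, IsIso.inv_hom_id, Ext.mk₀_id_comp, Ext.comp_zero] using h
  have low : ∀ x : Ext B.X₃ Y (1 + q), x = 0 := fun x => by
    haveI := hA₂ (1 + q) (by omega)
    obtain ⟨y, hy⟩ := Ext.contravariant_sequence_exact₁ hA Y ((Ext.mk₀ e₂.hom).comp x (zero_add _))
      rfl (high q hq _)
    rw [Subsingleton.elim y 0, Ext.comp_zero] at hy
    have h := congrArg (fun t => (Ext.mk₀ e₂.inv).comp t (zero_add _)) hy.symm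
    simpa only [Ext.mk₀_comp_mk₀_assoc, Iso.inv_hom_id, Ext.mk₀_id_comp, Ext.comp_zero] using h
  haveI := hB₂ q hq
  refine subsingleton_of_forall_eq 0 fun x => ?_
  obtain ⟨y, hy⟩ := Ext.contravariant_sequence_exact₁ hB Y x rfl (low _)
  rw [← hy, Subsingleton.elim y 0, Ext.comp_zero]

end abstract

section concrete

open AlgebraicGeometry Groth.Agent.DixBrauer Groth.Agent.DixBrauer.GalCover Opposite

variable (E L M : Type u) [Field E] [Field L] [Field M] [Algebra E L] [Algebra E M] [Algebra L M]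
  [IsScalarTower E L M] [FiniteDimensional E L] [FiniteDimensional E M] [IsGalois E L] [IsGalois E M]

/-- The quotient by the trace. -/
noncomputable abbrev seqB : ShortComplex (EtCoh.Ab (Spec (CommRingCat.of E))) :=
  ShortComplex.mk (CohTriv.trace (K := E) E L L) (cokernel.π _) (cokernel.condition _)

theorem shortExact_seqB : (seqB E L).ShortExact :=
  ShortComplex.ShortExact.mk' (ShortComplex.exact_of_g_is_cokernel _ (cokernelIsCokernel _))
    CohTriv.mono_trace (inferInstanceAs (Epi (cokernel.π _)))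

/-- The quotient by the trace maps onto the augmentation kernel. -/
noncomputable abbrev dbar (σ : L ≃ₐ[E] L) : (seqB E L).X₃ ⟶ CohTriv.P (K := E) L :=
  cokernel.desc _ (CohTriv.dd E E L σ) (CohTriv.trace_dd E L σ)

theorem dbar_iota (σ : L ≃ₐ[E] L) : dbar E L σ ≫ CohTriv.iota E E L = 0 := by
  rw [← cancel_epi (cokernel.π (CohTriv.trace (K := E) E L L)), cokernel.π_desc_assoc, CohTriv.dd_iota, comp_zero]

/-- The augmentation sequence. -/
noncomputable abbrev seqA (σ : L ≃ₐ[E] L) : ShortComplex (EtCoh.Ab (Spec (CommRingCat.of E))) :=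
  ShortComplex.mk (dbar E L σ) (CohTriv.iota E E L) (dbar_iota E L σ)

theorem shortExact_seqA (σ : L ≃ₐ[E] L) (hσ : ∀ τ : L ≃ₐ[E] L, τ ∈ Subgroup.zpowers σ) :
    (seqA E L σ).ShortExact := by
  refine ShortComplex.ShortExact.mk' ?_ ((CohTriv.exact_trace_dd hσ).mono_cokernelDesc) CohTriv.epi_iota
  let φ : ShortComplex.mk _ _ (CohTriv.dd_iota (K := E) E L σ) ⟶ seqA E L σ :=
    { τ₁ := cokernel.π (CohTriv.trace (K := E) E L L)
      τ₂ := 𝟙 _
      τ₃ := 𝟙 _
      comm₁₂ := by simp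
      comm₂₃ := by simp }
  haveI : Epi φ.τ₁ := inferInstanceAs (Epi (cokernel.π _))
  haveI : IsIso φ.τ₂ := inferInstanceAs (IsIso (𝟙 _))
  haveI : Mono φ.τ₃ := inferInstanceAs (Mono (𝟙 _))
  exact (ShortComplex.exact_iff_of_epi_of_isIso_of_mono φ).1 (CohTriv.exact_dd_iota hσ)

/-- The inclusion of free sheaves. -/
noncomputable abbrev incl : CohTriv.P (K := E) M ⟶ CohTriv.P (K := E) L :=
  GalDual.repMap (IsScalarTower.toAlgHom E L M)

theorem incl_iota : incl E L M ≫ CohTriv.iota E E L = CohTriv.iota E E M :=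
  (CohTriv.repMap_comp _ _).trans (congrArg GalDual.repMap (AlgHom.ext fun x =>
    (IsScalarTower.algebraMap_apply E L M x).symm))

theorem dd_incl (σ : M ≃ₐ[E] M) :
    CohTriv.dd E E M σ ≫ incl E L M = incl E L M ≫ CohTriv.dd E E L (σ.restrictNormal L) := by
  rw [Preadditive.sub_comp, Preadditive.comp_sub, Category.id_comp, Category.comp_id, CohTriv.repMap_comp,
    CohTriv.repMap_comp]
  refine congrArg (fun f => GalDual.repMap f - incl E L M) (AlgHom.ext fun x => ?_)
  exact (AlgEquiv.restrictNormal_commutes σ L x).symm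

theorem trace_incl :
    CohTriv.trace (K := E) E M M ≫ incl E L M = Module.finrank L M • CohTriv.trace (K := E) E L L := by
  classical
  apply GalDual.hom_ext_sec
  rw [CohTriv.secOf_nsmul]
  apply CohTriv.rs_injective_down (E := E) (L := M)
  rw [map_nsmul, CohTriv.secOf_trace_comp]
  have h : (IsScalarTower.toAlgHom E L M).comp (IsScalarTower.toAlgHom E E L) = IsScalarTower.toAlgHom E E M :=
    AlgHom.ext fun x => (IsScalarTower.algebraMap_apply E L M x).symm
  have hd : CohTriv.down E E M = GalDual.objMap (IsScalarTower.toAlgHom E L M) ≫ CohTriv.down E E L := by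
    rw [CohTriv.objMap_comp]
    exact congrArg GalDual.objMap h.symm
  conv_rhs => rw [hd, ← rs_comp, ← Category.comp_id (CohTriv.trace (K := E) E L L),
    CohTriv.secOf_trace_comp, map_sum]
  conv_lhs => rw [← Category.comp_id (incl E L M), CohTriv.secOf_repMap]
  simp only [rs_comp, CohTriv.objMap_comp]
  let G := fun f : L →ₐ[E] M =>
    rs (CohTriv.P (K := E) L) (GalDual.objMap f) (GalDual.secOf (GalDual.fieldMap E L) _ (𝟙 _))
  show ∑ τ : M →ₐ[E] M, G ((τ.restrictScalars E).comp (IsScalarTower.toAlgHom E L M)) =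
    Module.finrank L M • ∑ x : L →ₐ[E] L, G ((IsScalarTower.toAlgHom E L M).comp (x.restrictScalars E))
  let eM : (M ≃ₐ[E] M) ≃ (M →ₐ[E] M) := (algEquivEquivAlgHom E M).toEquiv
  let eL : (L ≃ₐ[E] L) ≃ (L →ₐ[E] L) := (algEquivEquivAlgHom E L).toEquiv
  rw [← eM.sum_comp, ← eL.sum_comp, Finset.smul_sum]
  let r : (M ≃ₐ[E] M) →* (L ≃ₐ[E] L) := AlgEquiv.restrictNormalHom L
  have hr : Function.Surjective r := AlgEquiv.restrictNormalHom_surjective M
  haveI : IsGalois L M := IsGalois.tower_top_of_isGalois E L M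
  have hker : Nat.card r.ker = Module.finrank L M := by
    have h1 := r.ker.card_mul_index
    rw [Subgroup.index_ker, MonoidHom.range_eq_top.2 hr, Subgroup.card_top,
      IsGalois.card_aut_eq_finrank, IsGalois.card_aut_eq_finrank, ← Module.finrank_mul_finrank E L M,
      mul_comm] at h1
    exact Nat.eq_of_mul_eq_mul_left Module.finrank_pos h1
  rw [← Finset.sum_fiberwise Finset.univ r]
  refine Finset.sum_congr rfl fun x _ => ?_
  rw [Finset.sum_congr rfl (g := fun _ => G ((IsScalarTower.toAlgHom E L M).comp ((eL x).restrictScalars E)))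
    fun τ hτ => ?_, Finset.sum_const]
  · congr 1
    rw [MonoidHom.card_fiber_eq_of_mem_range r (hr x) ⟨1, map_one r⟩, ← hker, Nat.card_eq_fintype_card,
      Fintype.card_subtype]
    simp [MonoidHom.mem_ker]
  · obtain rfl : r τ = x := (Finset.mem_filter.1 hτ).2
    exact congrArg G (AlgHom.ext fun z => (AlgEquiv.restrictNormal_commutes τ L z).symm)

/-- Vanishing on a cyclic extension of degree `ℓ` inside a cyclic extension of degree `ℓ²` descends. -/
theorem subsingleton_ext_P (σ : M ≃ₐ[E] M) (hσ : ∀ τ : M ≃ₐ[E] M, τ ∈ Subgroup.zpowers σ)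
    (Y : EtCoh.Ab (Spec (CommRingCat.of E))) (ℓ : ℕ) (hℓ : Module.finrank L M = ℓ) (hY : ℓ • 𝟙 Y = 0) (d : ℕ)
    (hL : ∀ q, d < q → Subsingleton (Ext (CohTriv.P (K := E) L) Y q)) (q : ℕ) (hq : d < q) :
    Subsingleton (Ext (CohTriv.P (K := E) E) Y q) := by
  let σ' := σ.restrictNormal L
  have hσ' : ∀ τ : L ≃ₐ[E] L, τ ∈ Subgroup.zpowers σ' := fun τ => by
    obtain ⟨τ, rfl⟩ := AlgEquiv.restrictNormalHom_surjective (F := E) (K₁ := L) M τ
    obtain ⟨i, rfl⟩ := Subgroup.mem_zpowers_iff.1 (hσ τ)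
    exact Subgroup.mem_zpowers_iff.2 ⟨i, (map_zpow (AlgEquiv.restrictNormalHom L) σ i).symm⟩
  let t := cokernel.map (CohTriv.trace (K := E) E M M) (CohTriv.trace (K := E) E L L) (ℓ • 𝟙 _) (incl E L M)
    (by rw [trace_incl, hℓ, Preadditive.nsmul_comp, Category.id_comp])
  let b : seqB E M ⟶ seqB E L :=
    { τ₁ := ℓ • 𝟙 _
      τ₂ := incl E L M
      τ₃ := t
      comm₁₂ := by
        show (ℓ • 𝟙 _) ≫ CohTriv.trace (K := E) E L L = CohTriv.trace (K := E) E M M ≫ incl E L M
        rw [trace_incl, hℓ, Preadditive.nsmul_comp, Category.id_comp]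
      comm₂₃ := (cokernel.π_desc _ _ _).symm }
  let a : seqA E M σ ⟶ seqA E L σ' :=
    { τ₁ := t
      τ₂ := incl E L M
      τ₃ := 𝟙 _
      comm₁₂ := by
        show t ≫ dbar E L σ' = dbar E M σ ≫ incl E L M
        rw [← cancel_epi (cokernel.π (CohTriv.trace (K := E) E M M)), cokernel.π_desc_assoc,
          cokernel.π_desc_assoc, Category.assoc, cokernel.π_desc]
        exact (dd_incl E L M σ).symm
      comm₂₃ := by
        show incl E L M ≫ CohTriv.iota E E L = CohTriv.iota E E M ≫ 𝟙 _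
        rw [incl_iota, Category.comp_id] }
  exact subsingleton_ext_of_period (shortExact_seqA E L σ' hσ') (shortExact_seqB E L) (shortExact_seqA E M σ hσ)
    (shortExact_seqB E M) a b (Iso.refl _) (Iso.refl _) (by simp [a, b]) (Iso.refl _) ℓ rfl Y hY d
    hL hL q hq

end concrete

end Groth.Agent.Cd58
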