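import Groth.Agent.Cd58.Lower
import Groth.Agent.DixBrauer.HenselUnits.Algebra
import Groth.Agent.CurvFam16.Gonal.Normal
import Groth.Agent.GalCd.BrauerNorm
import Groth.Agent.GalCd.Bridge
import Groth.Agent.S0103

/-! From the residue field of a henselian discrete valuation ring to its finite separable extensions. -/

set_option autoImplicit false
set_option linter.style.haveILetI false
set_option backward.isDefEq.respectTransparency.types false

universe u

open CategoryTheory CategoryTheory.Limits AlgebraicGeometry Opposite IsLocalRing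
open scoped TensorProduct Polynomial

namespace Groth.Agent.Cd58

open Groth.Agent.CdLib Groth.Agent.DixBrauer

/-- Cohomology of a constant sheaf moves along isomorphisms of fields. -/
theorem subsingleton_H_of_ringEquiv {E E' : Type u} [Field E] [Field E'] (e : E ≃+* E') {M : Type} [AddCommGroup M]
    {q : ℕ} (h : Subsingleton (EtCoh.H (Spec (CommRingCat.of E)) (EtCoh.const (Spec (CommRingCat.of E)) M) q)) :
    Subsingleton (EtCoh.H (Spec (CommRingCat.of E')) (EtCoh.const (Spec (CommRingCat.of E')) M) q) := by
  let ε : Spec (CommRingCat.of E') ≅ Spec (CommRingCat.of E) := Scheme.Spec.mapIso e.toCommRingCatIso.op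
  haveI : IsIntegralHom ε.hom := inferInstance
  haveI : Surjective ε.hom := inferInstance
  haveI : UniversallyInjective ε.hom := inferInstance
  haveI := EtFound.pull_preservesFiniteLimits ε.hom
  haveI := h
  exact ExtVanish.ext_of_iso (EtCore.pullConst ε.hom M) _ q
    (S0642.result ε.hom (EtCoh.const (Spec (CommRingCat.of E)) M) q).2.subsingleton

variable (R : Type u) [CommRing R] [IsDomain R] [IsDiscreteValuationRing R] [HenselianLocalRing R]
  (K : Type u) [Field K] [Algebra R K] [IsFractionRing R K]

/-- A finite separable extension of the residue field is the residue field of an unramified extension. -/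
theorem exists_unramified (M : Type u) [Field M] [Algebra (ResidueField R) M]
    [FiniteDimensional (ResidueField R) M] [Algebra.IsSeparable (ResidueField R) M] :
    ∃ (B : Type u) (_ : CommRing B) (_ : Algebra R B) (_ : Module.Finite R B) (_ : IsDomain B)
      (_ : IsDiscreteValuationRing B) (_ : HenselianLocalRing B) (L : Type u) (_ : Field L) (_ : Algebra B L)
      (_ : IsFractionRing B L) (_ : Algebra K L) (_ : Algebra.IsAlgebraic K L) (e : ResidueField B ≃+* M),
      (∀ r : R, algebraMap K L (algebraMap R K r) = algebraMap B L (algebraMap R B r)) ∧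
      Function.Injective (algebraMap R B) ∧
      (∀ π : R, Irreducible π → maximalIdeal B = Ideal.span {algebraMap R B π}) ∧
      ∀ r : R, e (residue B (algebraMap R B r)) = algebraMap (ResidueField R) M (residue R r) := by
  obtain ⟨B, _, _, _, hfin, het, e, hsurj, hker⟩ := HenselUnits.exists_lift (R := R) (M := M)
  haveI := hfin
  haveI := het
  let ρ : B →+* M := e.toAlgHom.toRingHom.comp
    (Algebra.TensorProduct.includeRight (R := R) (A := ResidueField R) (B := B)).toRingHom
  have hρR : ∀ r : R, ρ (algebraMap R B r) = algebraMap (ResidueField R) M (residue R r) := fun r => by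
    show e (1 ⊗ₜ[R] algebraMap R B r) = _
    rw [show (1 : ResidueField R) ⊗ₜ[R] algebraMap R B r = residue R r ⊗ₜ[R] (1 : B) from by
      rw [Algebra.algebraMap_eq_smul_one, ← TensorProduct.smul_tmul, Algebra.smul_def, mul_one]
      rfl]
    exact e.commutes (residue R r)
  haveI : IsLocalHom (algebraMap R B) := ⟨fun r hr => by
    by_contra hu
    have h0 : residue R r = 0 := (residue_eq_zero_iff r).2 hu
    have := hr.map ρ
    rw [hρR, h0, map_zero, isUnit_zero_iff] at this
    exact zero_ne_one this⟩
  haveI : Module.FaithfullyFlat R B := Module.FaithfullyFlat.of_flat_of_isLocalHom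
  have hinj : Function.Injective (algebraMap R B) := FaithfulSMul.algebraMap_injective R B
  haveI : IsNoetherianRing B := IsNoetherianRing.of_finite R B
  have hmax : ∀ π : R, Irreducible π → maximalIdeal B = Ideal.span {algebraMap R B π} := by
    intro π hπ
    refine le_antisymm (fun b hb => ?_) ?_
    · have h1 : (1 : ResidueField R) ⊗ₜ[R] b = 0 := e.injective (((hker b).2 hb).trans (map_zero e).symm)
      have h2 : b ∈ (maximalIdeal R).map (algebraMap R B) := by
        let q : (B ⧸ (maximalIdeal R).map (algebraMap R B)) ≃ₐ[R] ResidueField R ⊗[R] B :=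
          ((Algebra.TensorProduct.quotIdealMapEquivTensorQuot B (maximalIdeal R)).restrictScalars R).trans
            (Algebra.TensorProduct.comm R B (R ⧸ maximalIdeal R))
        have hq : q (Ideal.Quotient.mk _ b) = (1 : ResidueField R) ⊗ₜ b := by simp [q]; rfl
        exact Ideal.Quotient.eq_zero_iff_mem.1 (q.injective (hq.trans (h1.trans (map_zero q).symm)))
      rwa [hπ.maximalIdeal_eq, Ideal.map_span, Set.image_singleton] at h2
    · rw [Ideal.span_le, Set.singleton_subset_iff]
      exact map_nonunit (algebraMap R B) π hπ.not_isUnit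
  obtain ⟨π, hπ⟩ := IsDiscreteValuationRing.exists_irreducible R
  obtain ⟨hdom, -⟩ := CurvFam16.Gonal.isDomain_of_principal (hmax π hπ) (fun ⟨n, hn⟩ => by
    rw [← map_pow] at hn
    exact pow_ne_zero n hπ.ne_zero (hinj (hn.trans (map_zero _).symm)))
  haveI := hdom
  have hnf : ¬ IsField B := by
    rw [IsLocalRing.isField_iff_maximalIdeal_eq, hmax π hπ, Ideal.span_singleton_eq_bot]
    exact fun h => hπ.ne_zero (hinj (h.trans (map_zero _).symm))
  haveI : IsDiscreteValuationRing B := (((IsDiscreteValuationRing.TFAE B hnf).out 4 0 :) :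
    (maximalIdeal B).IsPrincipal ↔ IsDiscreteValuationRing B).1 ⟨⟨_, hmax π hπ⟩⟩
  let L := FractionRing B
  have hRL : Function.Injective ((algebraMap B L).comp (algebraMap R B)) := fun x y h =>
    hinj (IsFractionRing.injective B L h)
  letI : Algebra K L := (IsFractionRing.lift (K := K) hRL).toAlgebra
  have hKL : ∀ r : R, algebraMap K L (algebraMap R K r) = algebraMap B L (algebraMap R B r) := fun r =>
    IsFractionRing.lift_algebraMap hRL r
  haveI : Algebra.IsAlgebraic K L := ⟨fun z => by
    obtain ⟨a, b, -, rfl⟩ := IsFractionRing.div_surjective B z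
    have h : ∀ c : B, IsIntegral K (algebraMap B L c) := fun c => by
      obtain ⟨p, hp, hpc⟩ := Algebra.IsIntegral.isIntegral (R := R) c
      refine ⟨p.map (algebraMap R K), hp.map _, ?_⟩
      rw [Polynomial.eval₂_map, show (algebraMap K L).comp (algebraMap R K) =
        (algebraMap B L).comp (algebraMap R B) from RingHom.ext hKL, ← Polynomial.hom_eval₂, hpc, map_zero]
    rw [div_eq_mul_inv]
    exact (h a).isAlgebraic.mul (h b).isAlgebraic.inv⟩
  let e' : ResidueField B ≃+* M :=
    (Ideal.quotEquivOfEq (show maximalIdeal B = RingHom.ker ρ from Ideal.ext fun b => (hker b).symm)).trans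
      (RingHom.quotientKerEquivOfSurjective hsurj)
  exact ⟨B, inferInstance, inferInstance, hfin, hdom, inferInstance, inferInstance, L, inferInstance, inferInstance,
    inferInstance, inferInstance, inferInstance, e', hKL, hinj, hmax, fun r => hρR r⟩

/-- No cyclic extensions of degree `p` of the residue field in residue characteristic `p` when `cd_p K ≤ 1`. -/
theorem not_galois_of_cd_le_one (p : ℕ) [hp : Fact p.Prime] (hpK : (p : K) ≠ 0)
    (hd : Dix.CohDimLEAt (Spec (CommRingCat.of K)) p 1) (M : Type u) [Field M] [Algebra (ResidueField R) M]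
    [FiniteDimensional (ResidueField R) M] [IsGalois (ResidueField R) M]
    (hM : Module.finrank (ResidueField R) M = p) : False := by
  classical
  obtain ⟨B, _, _, _, _, _, _, L, _, _, _, _, _, e, hKL, hinj, hmax, he⟩ := exists_unramified R K M
  obtain ⟨θ, hθ⟩ := Field.exists_primitive_element (ResidueField R) M
  have hint : IsIntegral (ResidueField R) θ := Algebra.IsIntegral.isIntegral θ
  obtain ⟨g, hg, hdeg, hmon⟩ := Polynomial.lifts_and_degree_eq_and_monic
    (f := residue R) (p := minpoly (ResidueField R) θ)
    (Polynomial.mem_lifts_of_surjective residue_surjective _)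
    (minpoly.monic hint)
  have hdp : (minpoly (ResidueField R) θ).natDegree = p := by
    rw [← IntermediateField.adjoin.finrank hint, hθ, IntermediateField.finrank_top', hM]
  have hgdeg : g.natDegree = p := by rw [← hdp]; exact Polynomial.natDegree_eq_natDegree hdeg
  have hgK : Irreducible (g.map (algebraMap R K)) := by
    refine (hmon.irreducible_iff_irreducible_map_fraction_map).1 ?_
    exact hmon.irreducible_of_irreducible_map (residue R) g (by rw [hg]; exact minpoly.irreducible hint)
  -- all roots lift
  let ē : B →+* M := (e : ResidueField B →+* M).comp (residue B)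
  have hēsurj : Function.Surjective ē := e.surjective.comp residue_surjective
  have hbar : (g.map (algebraMap R B)).map ē = (minpoly (ResidueField R) θ).map (algebraMap (ResidueField R) M) := by
    rw [← hg, Polynomial.map_map, Polynomial.map_map]
    exact congrArg (fun f => g.map f) (RingHom.ext he)
  have hlift : ∀ t ∈ (minpoly (ResidueField R) θ).rootSet M, ∃ b : B, (g.map (algebraMap R B)).IsRoot b ∧ ē b = t := by
    intro t ht
    have ht0 : Polynomial.aeval t (minpoly (ResidueField R) θ) = 0 := (Polynomial.mem_rootSet.1 ht).2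
    obtain ⟨b₀, rfl⟩ := hēsurj t
    have h0 : (g.map (algebraMap R B)).eval b₀ ∈ maximalIdeal B := by
      rw [← residue_eq_zero_iff, ← map_eq_zero_iff e e.injective]
      show ē _ = 0
      rw [← Polynomial.eval_map_apply, hbar, Polynomial.eval_map_algebraMap]
      exact ht0
    have hsep : IsUnit ((g.map (algebraMap R B)).derivative.eval b₀) := by
      rw [← IsLocalRing.residue_ne_zero_iff_isUnit, ← map_ne_zero_iff e e.injective]
      show ē _ ≠ 0
      rw [← Polynomial.eval_map_apply, ← Polynomial.derivative_map, hbar, Polynomial.derivative_map,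
        Polynomial.eval_map_algebraMap]
      exact (Algebra.IsSeparable.isSeparable (ResidueField R) θ).aeval_derivative_ne_zero ht0
    obtain ⟨b, hb, hbb⟩ := HenselianLocalRing.is_henselian _ (hmon.map _) b₀ h0 hsep
    refine ⟨b, hb, ?_⟩
    rw [← sub_eq_zero, ← map_sub]
    show e (residue B (b - b₀)) = 0
    rw [(residue_eq_zero_iff _).2 hbb, map_zero]
  choose root hroot hrootθ using fun t : (minpoly (ResidueField R) θ).rootSet M => hlift t t.2
  letI : Algebra R L := ((algebraMap B L).comp (algebraMap R B)).toAlgebra
  haveI : IsScalarTower R B L := IsScalarTower.of_algebraMap_eq fun _ => rfl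
  haveI : IsScalarTower R K L := IsScalarTower.of_algebraMap_eq fun r => (hKL r).symm
  let f := g.map (algebraMap R K)
  have hfL : ∀ b : B, Polynomial.aeval (algebraMap B L b) f = algebraMap B L ((g.map (algebraMap R B)).eval b) :=
    fun b => by
    rw [Polynomial.aeval_map_algebraMap, Polynomial.aeval_algebraMap_apply, Polynomial.eval_map_algebraMap]
  -- the extension is generated by one root
  have hθmem : θ ∈ (minpoly (ResidueField R) θ).rootSet M :=
    Polynomial.mem_rootSet.2 ⟨minpoly.ne_zero hint, minpoly.aeval _ _⟩
  let β : B := root ⟨θ, hθmem⟩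
  have hgenB : ∀ b : B, b ∈ (Polynomial.aeval (R := R) β).range := by
    suffices (⊤ : Submodule R B) ≤ Subalgebra.toSubmodule (Polynomial.aeval (R := R) β).range from
      fun b => this (Submodule.mem_top (x := b))
    refine Submodule.le_of_le_smul_of_le_jacobson_bot (I := maximalIdeal R) (Module.Finite.fg_top)
      (IsLocalRing.maximalIdeal_le_jacobson _) fun b _ => ?_
    obtain ⟨q, hq⟩ : ∃ q : (ResidueField R)[X], Polynomial.aeval θ q = ē b := by
      have hb : ē b ∈ IntermediateField.adjoin (ResidueField R) {θ} := hθ ▸ IntermediateField.mem_top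
      rw [← IntermediateField.mem_toSubalgebra, IntermediateField.adjoin_simple_toSubalgebra_of_isAlgebraic
        hint.isAlgebraic, Algebra.adjoin_singleton_eq_range_aeval] at hb
      exact hb
    obtain ⟨q', rfl⟩ := Polynomial.map_surjective _ residue_surjective q
    obtain ⟨π, hπ⟩ := IsDiscreteValuationRing.exists_irreducible R
    have hmem : b - Polynomial.aeval β q' ∈ maximalIdeal B := by
      rw [← residue_eq_zero_iff, ← map_eq_zero_iff e e.injective]
      show ē _ = 0
      have hβθ : ē β = θ := hrootθ ⟨θ, hθmem⟩
      rw [map_sub, sub_eq_zero, ← hq, Polynomial.aeval_def, Polynomial.aeval_def, Polynomial.eval₂_map,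
        Polynomial.hom_eval₂, hβθ]
      exact congrArg (fun φ => Polynomial.eval₂ φ θ q') (RingHom.ext he).symm
    rw [hmax π hπ, Ideal.mem_span_singleton] at hmem
    obtain ⟨c, hc⟩ := hmem
    refine Submodule.mem_sup.2 ⟨Polynomial.aeval β q', ⟨q', rfl⟩, π • c,
      Submodule.smul_mem_smul (hπ.maximalIdeal_eq ▸ Ideal.mem_span_singleton_self π) Submodule.mem_top, ?_⟩
    rw [Algebra.smul_def, ← hc, add_sub_cancel]
  let α : L := algebraMap B L β
  have hαf : Polynomial.aeval α f = 0 := by rw [hfL, hroot, map_zero]
  have hmin : minpoly K α = f :=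
    (minpoly.eq_of_irreducible_of_monic hgK hαf (hmon.map _)).symm
  have hαint : IsIntegral K α := ⟨f, hmon.map _, hαf⟩
  have htop : IntermediateField.adjoin K {α} = ⊤ := by
    refine eq_top_iff.2 fun z _ => ?_
    have hmem : ∀ b : B, algebraMap B L b ∈ IntermediateField.adjoin K {α} := fun b => by
      obtain ⟨q, rfl⟩ := hgenB b
      show algebraMap B L (Polynomial.aeval β q) ∈ _
      rw [← Polynomial.aeval_algebraMap_apply, ← Polynomial.aeval_map_algebraMap K]
      exact IntermediateField.algebra_adjoin_le_adjoin K _ (Polynomial.aeval_mem_adjoin_singleton K _)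
    obtain ⟨a, b, -, rfl⟩ := IsFractionRing.div_surjective B z
    exact div_mem (hmem a) (hmem b)
  have hLp : Module.finrank K L = p := by
    rw [← IntermediateField.finrank_top', ← htop, IntermediateField.adjoin.finrank hαint, hmin,
      hmon.natDegree_map, hgdeg]
  haveI : FiniteDimensional K L := Module.finite_of_finrank_pos (by rw [hLp]; exact hp.out.pos)
  -- the extension is Galois
  have hinjroot : Function.Injective fun t => algebraMap B L (root t) := fun t t' h => by
    have := congrArg ē (IsFractionRing.injective B L h)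
    rw [hrootθ, hrootθ] at this
    exact Subtype.ext this
  have hcard : Fintype.card ((minpoly (ResidueField R) θ).rootSet M) = p := by
    rw [Polynomial.card_rootSet_eq_natDegree (Algebra.IsSeparable.isSeparable _ θ) (Normal.splits inferInstance θ), hdp]
  haveI : IsGalois K L := by
    have hfdeg : f.natDegree = p := by rw [hmon.natDegree_map, hgdeg]
    have hrs : Fintype.card (f.rootSet L) ≤ (f.map (algebraMap K L)).roots.card := by
      simp only [Polynomial.rootSet_def, Finset.coe_sort_coe, Fintype.card_coe]
      exact Multiset.toFinset_card_le _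
    have hp_le : p ≤ Fintype.card (f.rootSet L) := by
      rw [← hcard]
      exact Fintype.card_le_of_injective
        (fun t => ⟨algebraMap B L (root t), Polynomial.mem_rootSet.2
          ⟨(hmon.map _).ne_zero, by rw [hfL, hroot, map_zero]⟩⟩)
        fun t t' h => hinjroot (congrArg Subtype.val h)
    have hub : (f.map (algebraMap K L)).roots.card ≤ p := by
      rw [← hfdeg, ← f.natDegree_map (algebraMap K L)]
      exact Polynomial.card_roots' _
    have hroots : Fintype.card (f.rootSet L) = p := le_antisymm (hrs.trans hub) hp_le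
    have hle : (f.map (algebraMap K L)).natDegree ≤ (f.map (algebraMap K L)).roots.card := by
      rw [Polynomial.natDegree_map, hfdeg]
      exact hp_le.trans hrs
    have hsplit : (f.map (algebraMap K L)).Splits :=
      Polynomial.splits_iff_card_roots.2 (le_antisymm (Polynomial.card_roots' _) hle)
    have hsep : f.Separable :=
      (Polynomial.card_rootSet_eq_natDegree_iff_of_splits (hmon.map _).ne_zero hsplit).1 (hroots.trans hfdeg.symm)
    haveI : Polynomial.IsSplittingField K L f := by
      refine ⟨hsplit, eq_top_iff.2 ?_⟩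
      rw [← IntermediateField.top_toSubalgebra, ← htop,
        IntermediateField.adjoin_simple_toSubalgebra_of_isAlgebraic hαint.isAlgebraic]
      exact Algebra.adjoin_mono (Set.singleton_subset_iff.2 (Polynomial.mem_rootSet.2 ⟨(hmon.map _).ne_zero, hαf⟩))
    exact IsGalois.of_separable_splitting_field (p := f) hsep
  -- norms
  obtain ⟨σ, hσ⟩ : ∃ σ : L ≃ₐ[K] L, ∀ τ, τ ∈ Subgroup.zpowers σ := by
    haveI : IsCyclic (L ≃ₐ[K] L) := isCyclic_of_prime_card (p := p) (by rw [IsGalois.card_aut_eq_finrank, hLp])
    exact IsCyclic.exists_generator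
  have hBr := GalCd.brNoTors_of_cd K p hpK fun F hF q hq x hx =>
    GalCd.eq_zero_of_cohDimLEAt F p hd hF q hq x hx
  obtain ⟨π, hπ⟩ := IsDiscreteValuationRing.exists_irreducible R
  have hπK : algebraMap R K π ≠ 0 := (map_ne_zero_iff _ (IsFractionRing.injective R K)).2 hπ.ne_zero
  obtain ⟨y, hy⟩ := GalCd.exists_norm_of_brauer hσ (fun x hx => hBr x ⟨1, by rw [pow_one, ← hLp]; exact hx⟩)
    (algebraMap R K π) hπK
  have hy0 : y ≠ 0 := fun h => hπK (by rw [← hy, h, Algebra.norm_zero])
  have hirrB : Irreducible (algebraMap R B π) :=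
    (IsDiscreteValuationRing.irreducible_iff_uniformizer _).2 (hmax π hπ)
  obtain ⟨m, v, hv⟩ := exists_eq_unit_mul_zpow hirrB (K := L) hy0
  -- norms of units are units
  have hnorm : ∀ w : Bˣ, ∃ w' : Rˣ, Algebra.norm K (algebraMap B L w) = algebraMap R K w' := by
    intro w
    have hw : ∀ c : B, ∃ r : R, algebraMap R K r = Algebra.norm K (algebraMap B L c) := fun c =>
      IsIntegrallyClosed.isIntegral_iff.1 (Algebra.isIntegral_norm K
        ((Algebra.IsIntegral.isIntegral (R := R) c).algebraMap))
    obtain ⟨a, ha⟩ := hw w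
    obtain ⟨b, hb⟩ := hw (↑w⁻¹ : B)
    have hab : a * b = 1 := IsFractionRing.injective R K (by
      rw [map_mul, ha, hb, ← map_mul, ← map_mul, Units.mul_inv, map_one, map_one, map_one])
    exact ⟨Units.mkOfMulEqOne a b hab, ha.symm⟩
  obtain ⟨w, hw⟩ := hnorm v
  have hpi : Algebra.norm K (algebraMap B L (algebraMap R B π)) = algebraMap R K π ^ p := by
    rw [← hKL, Algebra.norm_algebraMap, hLp]
  have hzp : Algebra.norm K (algebraMap B L (algebraMap R B π) ^ m) = (algebraMap R K π ^ p) ^ m := by
    have h0 : algebraMap B L (algebraMap R B π) ≠ 0 :=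
      (map_ne_zero_iff _ (IsFractionRing.injective B L)).2 hirrB.ne_zero
    have h := congrArg Units.val (map_zpow (Units.map (Algebra.norm K : L →* K)) (Units.mk0 _ h0) m)
    rw [Units.coe_map, Units.val_zpow_eq_zpow_val, Units.val_zpow_eq_zpow_val, Units.coe_map] at h
    exact h.trans (congrArg (· ^ m) hpi)
  rw [hv, map_mul, hw, hzp, ← zpow_natCast (algebraMap R K π) p, ← zpow_mul] at hy
  have hw' : algebraMap R K w = algebraMap R K π ^ (1 - (p : ℤ) * m) := by
    rw [zpow_sub₀ hπK, zpow_one, eq_div_iff (zpow_ne_zero _ hπK)]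
    exact hy
  obtain ⟨j, hj⟩ := Int.eq_nat_or_neg (1 - (p : ℤ) * m)
  have hj0 : j ≠ 0 := fun h0 => by
    have h1 : (p : ℤ) * m = 1 := by rcases hj with hj | hj <;> simp [h0] at hj <;> omega
    exact hp.out.one_lt.ne' (Nat.dvd_one.1 (Int.natCast_dvd_natCast.1 ⟨m, h1.symm⟩))
  rcases hj with hj | hj <;> rw [hj] at hw'
  · rw [zpow_natCast, ← map_pow] at hw'
    exact hπ.not_isUnit ((isUnit_pow_iff hj0).1 (IsFractionRing.injective R K hw' ▸ w.isUnit))
  · rw [zpow_neg, zpow_natCast, ← map_pow] at hw'
    have h1 : algebraMap R K (w : R) * algebraMap R K (π ^ j) = 1 := by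
      rw [hw', inv_mul_cancel₀]
      rw [map_pow]
      exact pow_ne_zero _ hπK
    rw [← map_mul, ← map_one (algebraMap R K)] at h1
    exact hπ.not_isUnit ((isUnit_pow_iff hj0).1 (IsUnit.of_mul_eq_one_right _ (IsFractionRing.injective R K h1)))

end Groth.Agent.Cd58
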