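import Groth.Agent.Cd58.Main
import Groth.Agent.CdField.StrictLocal
import Groth.Agent.KrullAkiExt.Basic

/-! The cohomological dimension of the generic point bounds the dimension. -/

set_option autoImplicit false
set_option linter.style.haveILetI false
set_option backward.isDefEq.respectTransparency.types false

universe u

open CategoryTheory CategoryTheory.Limits AlgebraicGeometry Opposite IsLocalRing

namespace Groth.Agent.Cd58

/-- A discrete valuation ring dominating a one-dimensional Noetherian local domain in a finite extension of its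
field of fractions, with finite residue extension. -/
theorem exists_dvr_dominating (A : Type u) [CommRing A] [IsDomain A] [IsNoetherianRing A] [IsLocalRing A]
    [Ring.KrullDimLE 1 A] (hA : ¬ IsField A) (K : Type u) [Field K] [Algebra A K] [IsFractionRing A K]
    (L : Type u) [Field L] [Algebra K L] [FiniteDimensional K L] [Algebra A L] [IsScalarTower A K L] :
    ∃ (V : Type u) (_ : CommRing V) (_ : IsDomain V) (_ : IsDiscreteValuationRing V) (_ : Algebra A V)
      (_ : IsLocalHom (algebraMap A V)) (_ : Algebra V L) (_ : IsFractionRing V L),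
      Module.Finite (ResidueField A) (ResidueField V) := by
  let C := integralClosure A L
  have hC : Function.Injective (algebraMap C L) := Subtype.val_injective
  haveI : IsNoetherianRing C := KrullAkiExt.isNoetherianRing_of_injective (R := A) (K := K) L C hC
  haveI : IsFractionRing C L := integralClosure.isFractionRing_of_finite_extension K L
  haveI : IsIntegrallyClosed C := integralClosure.isIntegrallyClosedOfFiniteExtension K
  haveI : Algebra.IsIntegral A C := ⟨integralClosure.isIntegral⟩
  have hm0 : maximalIdeal A ≠ ⊥ := fun h => hA (IsLocalRing.isField_iff_maximalIdeal_eq.2 h)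
  haveI : IsDedekindDomain C :=
    { maximalOfPrime := fun {P} hP0 hP => by
        haveI := hP
        refine Ideal.isMaximal_of_isIntegral_of_isMaximal_comap (R := A) P ?_
        obtain ⟨a, ha, haP⟩ := KrullAkiExt.exists_ne_zero_mem (R := A) (K := K) L C hC hP0
        exact Ring.krullDimLE_one_iff_of_noZeroDivisors.1 inferInstance _
          (fun h => ha (by
            have : a ∈ P.comap (algebraMap A C) := haP
            rwa [h, Ideal.mem_bot] at this)) inferInstance }
  have hAC : Function.Injective (algebraMap A C) := fun x y h => IsFractionRing.injective A K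
    ((algebraMap K L).injective (by
      rw [← IsScalarTower.algebraMap_apply, ← IsScalarTower.algebraMap_apply, IsScalarTower.algebraMap_apply A C L, h,
        ← IsScalarTower.algebraMap_apply]))
  obtain ⟨Q, -, hQp, hQ⟩ := Ideal.exists_ideal_over_prime_of_isIntegral (maximalIdeal A) (⊥ : Ideal C)
    (by rw [Ideal.comap_bot_of_injective _ hAC]; exact bot_le)
  haveI := hQp
  have hQ0 : Q ≠ ⊥ := fun h => hm0 (by rw [← hQ, h, Ideal.comap_bot_of_injective _ hAC])
  haveI : Q.IsMaximal := hQp.isMaximal hQ0
  let V := Localization.AtPrime Q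
  haveI : IsDiscreteValuationRing V := IsLocalization.AtPrime.isDiscreteValuationRing_of_dedekind_domain C hQ0 V
  letI : Algebra V L := (IsLocalization.lift (M := Q.primeCompl) (S := V) (g := algebraMap C L) fun y =>
    isUnit_iff_ne_zero.2 fun h => y.2 (by
      rw [show (y : C) = 0 from hC (h.trans (map_zero _).symm)]
      exact Q.zero_mem)).toAlgebra
  haveI : IsScalarTower C V L := IsScalarTower.of_algebraMap_eq fun c => (IsLocalization.lift_eq _ c).symm
  haveI : IsFractionRing V L := IsFractionRing.isFractionRing_of_isDomain_of_isLocalization Q.primeCompl V L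
  have hcm : (maximalIdeal V).comap (algebraMap C V) = Q := IsLocalization.AtPrime.comap_maximalIdeal V Q
  haveI hloc : IsLocalHom (algebraMap A V) := ((IsLocalRing.local_hom_TFAE (algebraMap A V)).out 0 4).2 (by
    rw [IsScalarTower.algebraMap_eq A C V, ← Ideal.comap_comap, hcm, hQ])
  refine ⟨V, inferInstance, inferInstance, inferInstance, inferInstance, hloc, inferInstance, inferInstance, ?_⟩
  obtain ⟨a, ha, haQ⟩ := KrullAkiExt.exists_ne_zero_mem (R := A) (K := K) L C hC hQ0
  obtain ⟨_, -⟩ := isFiniteLength_iff_isNoetherian_isArtinian.1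
    (KrullAkiExt.isArtinian_quotient (R := A) (K := K) L C hC ha haQ)
  haveI : Module.Finite A (C ⧸ Q) := inferInstance
  let g : C ⧸ Q →ₐ[A] ResidueField V := Ideal.Quotient.liftₐ Q (IsScalarTower.toAlgHom A C (ResidueField V))
    fun x hx => by
      show residue V (algebraMap C V x) = 0
      rw [residue_eq_zero_iff, ← Ideal.mem_comap, hcm]
      exact hx
  have hg : Function.Surjective g := fun z => by
    obtain ⟨y, rfl⟩ := residue_surjective z
    obtain ⟨c, s, rfl⟩ := IsLocalization.exists_mk'_eq Q.primeCompl y
    letI := Ideal.Quotient.field Q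
    obtain ⟨t, ht⟩ := Ideal.Quotient.mk_surjective (I := Q) (Ideal.Quotient.mk Q c * (Ideal.Quotient.mk Q s)⁻¹)
    have hts : Ideal.Quotient.mk Q (t * s) = Ideal.Quotient.mk Q c := by
      rw [map_mul, ht, inv_mul_cancel_right₀ (fun h => s.2 (Ideal.Quotient.eq_zero_iff_mem.1 h))]
    refine ⟨Ideal.Quotient.mk Q t, ?_⟩
    have hs : residue V (algebraMap C V s) ≠ 0 :=
      (residue_ne_zero_iff_isUnit _).2 (IsLocalization.map_units V s)
    refine mul_right_cancel₀ hs ?_
    conv_rhs => rw [← map_mul, IsLocalization.mk'_spec]
    show residue V (algebraMap C V t) * _ = _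
    rw [← map_mul, ← map_mul]
    exact congrArg g hts
  haveI : Module.Finite A (ResidueField V) := Module.Finite.of_surjective g.toLinearMap hg
  exact Module.Finite.of_restrictScalars_finite A _ _

/-- If the cohomological dimension at the generic point of a finite extension is at most `d`, then so is the
dimension. -/
theorem le_of_cohDimLEAt (ℓ : ℕ) [hℓ : Fact ℓ.Prime] : ∀ (n d : ℕ) (A : Type u) [CommRing A] [IsDomain A]
    [IsNoetherianRing A] (_ : IsUnit (ℓ : A)) (K : Type u) [Field K] [Algebra A K] [IsFractionRing A K]
    (L : Type u) [Field L] [Algebra K L] [FiniteDimensional K L],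
    (n : WithBot ℕ∞) ≤ ringKrullDim A → Dix.CohDimLEAt (Spec (CommRingCat.of L)) ℓ d → n ≤ d := by
  intro n
  induction n with
  | zero => exact fun d _ _ _ _ _ _ _ _ _ _ _ _ _ _ _ => Nat.zero_le d
  | succ m ih =>
    intro d A _ _ _ hℓA K _ _ _ L _ _ _ hdim hd
    obtain ⟨c, hc⟩ := (Order.le_krullDim_iff (α := PrimeSpectrum A)).1 hdim
    have hlen : 1 < c.length + 1 := by omega
    let P₁ := (c ⟨1, hlen⟩).asIdeal
    have hP₁ : P₁ ≠ ⊥ := fun h => by
      have h01 : (c ⟨0, Nat.succ_pos _⟩).asIdeal < P₁ := c.strictMono (show (⟨0, _⟩ : Fin _) < ⟨1, hlen⟩ from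
        Nat.zero_lt_one)
      exact not_lt_bot (h ▸ h01)
    -- a prime of height one below it
    obtain ⟨a, ha, ha0⟩ := Submodule.exists_mem_ne_zero_of_ne_bot hP₁
    obtain ⟨q, hq, hqP⟩ := Ideal.exists_minimalPrimes_le (J := P₁) (I := Ideal.span {a})
      ((Ideal.span_singleton_le_iff_mem _).2 ha)
    haveI : q.IsPrime := hq.1.1
    have hq0 : q ≠ ⊥ := fun h => ha0 (by
      have := hq.1.2 (Ideal.mem_span_singleton_self a)
      rwa [h, Ideal.mem_bot] at this)
    have hqh : q.height ≤ 1 := by
      exact Ideal.height_le_one_of_isPrincipal_of_mem_minimalPrimes (Ideal.span {a}) q hq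
    let Aq := Localization.AtPrime q
    haveI : Ring.KrullDimLE 1 Aq := Ring.krullDimLE_iff.2
      ((IsLocalization.AtPrime.ringKrullDim_eq_height q Aq).trans_le (by exact_mod_cast hqh))
    have hAqf : ¬ IsField Aq := fun h => hq0 (by
      have hm := IsLocalRing.isField_iff_maximalIdeal_eq.1 h
      have hcq : (maximalIdeal Aq).comap (algebraMap A Aq) = q := IsLocalization.AtPrime.comap_maximalIdeal Aq q
      rw [← hcq, hm, Ideal.comap_bot_of_injective]
      exact IsLocalization.injective Aq q.primeCompl_le_nonZeroDivisors)
    letI : Algebra Aq K := (IsLocalization.lift (M := q.primeCompl) (S := Aq) (g := algebraMap A K) fun y =>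
      isUnit_iff_ne_zero.2 fun h => y.2 (by
        rw [show (y : A) = 0 from IsFractionRing.injective A K (h.trans (map_zero _).symm)]
        exact q.zero_mem)).toAlgebra
    haveI : IsScalarTower A Aq K := IsScalarTower.of_algebraMap_eq fun c => (IsLocalization.lift_eq _ c).symm
    haveI : IsFractionRing Aq K := IsFractionRing.isFractionRing_of_isDomain_of_isLocalization q.primeCompl Aq K
    letI : Algebra Aq L := ((algebraMap K L).comp (algebraMap Aq K)).toAlgebra
    haveI : IsScalarTower Aq K L := IsScalarTower.of_algebraMap_eq fun _ => rfl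
    obtain ⟨V, _, _, _, _, _, _, _, hfin⟩ := exists_dvr_dominating Aq hAqf K L
    have hℓV : (ℓ : ResidueField V) ≠ 0 := by
      have h := ((hℓA.map (algebraMap A Aq)).map (algebraMap Aq V)).map (residue V)
      rw [map_natCast, map_natCast, map_natCast] at h
      exact h.ne_zero
    -- henselization
    let W := Hensel.LocalHenz V
    have hlike := Hensel.isHenzLike_of_isHenselization V W
    obtain ⟨_, _⟩ := (S9262.result V W (Hensel.StrictHenz V)).1.1 ⟨inferInstance, inferInstance⟩
    haveI := hlike.faithfullyFlat
    let F := FractionRing W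
    have hVF : Function.Injective ((algebraMap W F).comp (algebraMap V W)) := fun x y h =>
      FaithfulSMul.algebraMap_injective V W (IsFractionRing.injective W F h)
    letI : Algebra L F := (IsFractionRing.lift (K := L) hVF).toAlgebra
    haveI : IsScalarTower V L F := IsScalarTower.of_algebraMap_eq fun v => by
      rw [IsScalarTower.algebraMap_apply V W F]
      exact (IsFractionRing.lift_algebraMap hVF v).symm
    haveI : Algebra.IsAlgebraic L F := ⟨fun z => by
      obtain ⟨x, y, -, rfl⟩ := IsFractionRing.div_surjective W z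
      have h : ∀ w : W, IsAlgebraic L (algebraMap W F w) :=
        CdField.isAlgebraic_of_henzLike hlike L F (IsScalarTower.toAlgHom V W F)
      rw [div_eq_mul_inv]
      exact (h x).mul (h y).inv⟩
    let eW : ResidueField W ≃+* ResidueField V := (Hensel.residueFieldEquiv (R := V) (L := ResidueField V)).toRingEquiv
    have hℓW : (ℓ : ResidueField W) ≠ 0 := fun h => hℓV (by rw [← map_natCast eW, h, map_zero])
    have hℓF : (ℓ : F) ≠ 0 := fun h => hℓW (by
      have h0 : (ℓ : W) = 0 := IsFractionRing.injective W F (by rw [map_natCast, h, map_zero])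
      rw [← map_natCast (residue W), h0, map_zero])
    have hF := CdField.cohDimLEAt_of_isAlgebraic L F hd
    cases d with
    | zero => exact absurd hF (not_cohDimLEAt_zero F W ℓ hℓF)
    | succ d' =>
      have hk := cohDimLEAt_residue W F ℓ hℓF d' hF
      letI : Algebra (ResidueField W) (ResidueField V) := eW.toRingHom.toAlgebra
      haveI : Algebra.IsAlgebraic (ResidueField W) (ResidueField V) :=
        ⟨fun x => by obtain ⟨y, rfl⟩ := eW.surjective x; exact isAlgebraic_algebraMap y⟩
      have hkV := CdField.cohDimLEAt_of_isAlgebraic (ResidueField W) (ResidueField V) hk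
      -- the quotient by the prime
      letI : Algebra (A ⧸ q) (ResidueField Aq) := (Ideal.Quotient.lift q ((residue Aq).comp (algebraMap A Aq))
        fun x hx => (residue_eq_zero_iff _).2 ((IsLocalization.AtPrime.to_map_mem_maximal_iff Aq q x).2 hx)).toAlgebra
      haveI : IsFractionRing (A ⧸ q) (ResidueField Aq) := by
        haveI : FaithfulSMul (A ⧸ q) (ResidueField Aq) := (faithfulSMul_iff_algebraMap_injective _ _).2
          ((injective_iff_map_eq_zero _).2 fun x hx => by
            obtain ⟨x, rfl⟩ := Ideal.Quotient.mk_surjective x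
            exact Ideal.Quotient.eq_zero_iff_mem.2
              ((IsLocalization.AtPrime.to_map_mem_maximal_iff Aq q x).1 ((residue_eq_zero_iff _).1 hx)))
        refine IsFractionRing.of_field _ _ fun z => ?_
        obtain ⟨y, rfl⟩ := residue_surjective z
        obtain ⟨x, s, rfl⟩ := IsLocalization.exists_mk'_eq q.primeCompl y
        refine ⟨Ideal.Quotient.mk q x, Ideal.Quotient.mk q s, ?_⟩
        show residue Aq (IsLocalization.mk' Aq x s) = residue Aq (algebraMap A Aq x) / residue Aq (algebraMap A Aq s)
        rw [eq_div_iff ((residue_ne_zero_iff_isUnit _).2 (IsLocalization.map_units Aq s)), ← map_mul,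
          IsLocalization.mk'_spec]
      haveI := hfin
      have hm : (m : WithBot ℕ∞) ≤ ringKrullDim (A ⧸ q) := by
        rw [ringKrullDim_quotient]
        let c' : LTSeries (PrimeSpectrum.zeroLocus (q : Set A)) :=
          ⟨m, fun i => ⟨c ⟨i + 1, by omega⟩, le_trans hqP (c.strictMono.monotone (show (⟨1, hlen⟩ : Fin _) ≤
              ⟨i + 1, by omega⟩ from Nat.le_add_left 1 i))⟩,
            fun i => c.strictMono (show (⟨_, _⟩ : Fin _) < ⟨_, _⟩ from Nat.lt_succ_self _)⟩
        exact le_iSup_of_le c' le_rfl
      exact Nat.succ_le_succ (ih d' (A ⧸ q) (by rw [← map_natCast (Ideal.Quotient.mk q)]; exact hℓA.map _)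
        (ResidueField Aq) (ResidueField V) hm hkV)

end Groth.Agent.Cd58
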