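import Groth.Agent.Cd58.StrictCd
import Groth.Agent.EtLimCore.StrictHens
import Groth.Agent.S3491
import Groth.Agent.S0642
import Groth.Agent.S9262
import Groth.Agent.Hensel.HenselizationProps

/-! Stalks of higher direct images from the generic point of a discrete valuation ring. -/

set_option autoImplicit false
set_option linter.style.haveILetI false
set_option backward.isDefEq.respectTransparency.types false

universe u

open CategoryTheory CategoryTheory.Limits AlgebraicGeometry Opposite IsLocalRing

namespace Groth.Agent.Cd58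

open Groth.Agent.CdLib Groth.Agent.EtFound

/-- A sheaf has no support at a point at which one geometric stalk vanishes. -/
theorem notMem_supp_of_stalk {X : Scheme.{u}} (F : EtCoh.Ab X) {Ω : Type u} [Field Ω] [IsSepClosed Ω]
    (ξ' : Spec (CommRingCat.of Ω) ⟶ X) (h : Subsingleton ((EtCoh.stalk ξ').obj F)) :
    ξ'.base (closedPoint Ω) ∉ EtPBC.supp F := by
  intro hy
  refine S3491.not_subsingleton_stalk F _ hy ?_
  obtain ⟨g, hg⟩ : ∃ g : X.residueField (ξ'.base (closedPoint Ω)) ⟶ CommRingCat.of Ω,
      Spec.map g ≫ X.fromSpecResidueField _ = ξ' :=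
    ⟨_, Scheme.descResidueField_stalkClosedPointTo_fromSpecResidueField Ω X ξ'⟩
  letI : Algebra (X.residueField (ξ'.base (closedPoint Ω))) Ω := g.hom.toAlgebra
  let l : SeparableClosure (X.residueField (ξ'.base (closedPoint Ω))) →ₐ[X.residueField (ξ'.base (closedPoint Ω))] Ω :=
    IsSepClosed.lift
  have hl : Spec.map (CommRingCat.ofHom l.toRingHom) ≫ EtaleStrictHens.ξ (ξ'.base (closedPoint Ω)) = ξ' := by
    rw [EtaleStrictHens.ξ, ← Category.assoc, ← Spec.map_comp,
      show CommRingCat.ofHom (algebraMap (X.residueField (ξ'.base (closedPoint Ω)))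
        (SeparableClosure (X.residueField (ξ'.base (closedPoint Ω))))) ≫ CommRingCat.ofHom l.toRingHom = g
        from CommRingCat.hom_ext l.comp_algebraMap, hg]
  let e := ((EtFound.stalkExtIso AddCommGrpCat.{u + 1} (EtaleStrictHens.ξ (ξ'.base (closedPoint Ω)))
    (Spec.map (CommRingCat.ofHom l.toRingHom))).app F).addCommGroupIsoToAddEquiv
  have h' : Subsingleton ((EtCoh.stalk
      (Spec.map (CommRingCat.ofHom l.toRingHom) ≫ EtaleStrictHens.ξ (ξ'.base (closedPoint Ω)))).obj F) := by
    rw [hl]
    exact h
  first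
    | exact @Equiv.subsingleton _ _ e.toEquiv h'
    | exact @Equiv.subsingleton _ _ e.symm.toEquiv h'

/-- Cohomology groups move along isomorphisms of schemes. -/
theorem nonempty_H_pull_equiv {X Y Z : Scheme.{u}} (e : Y ≅ Z) (π : Y ⟶ X) (π' : Z ⟶ X) (h : e.hom ≫ π' = π)
    (F : EtCoh.Ab X) (q : ℕ) :
    Nonempty (EtCoh.H Z ((EtCoh.pull π').obj F) q ≃+ EtCoh.H Y ((EtCoh.pull π).obj F) q) := by
  subst h
  haveI : IsIntegralHom e.hom := inferInstance
  haveI : Surjective e.hom := inferInstance
  haveI : UniversallyInjective e.hom := inferInstance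
  haveI := EtFound.pull_preservesFiniteLimits e.hom
  exact ⟨(AddEquiv.ofBijective _ (S0642.result e.hom ((EtCoh.pull π').obj F) q)).trans
    (((EtCoh.HF Y q).mapIso ((pullCompAb e.hom π').symm.app F)).addCommGroupIsoToAddEquiv)⟩

variable (R : Type u) [CommRing R] (K : Type u) [Field K] [Algebra R K]

/-- The inclusion of the generic point. -/
noncomputable abbrev genPt : Spec (CommRingCat.of K) ⟶ Spec (CommRingCat.of R) :=
  Spec.map (CommRingCat.ofHom (algebraMap R K))

variable [IsDomain R] [IsFractionRing R K]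

/-- Stalks of the higher direct images at the point of a strict henselization. -/
theorem nonempty_stalk_equiv (s : Spec (CommRingCat.of R)) (T : Type u) [CommRing T] [IsLocalRing T]
    [Algebra ((Spec (CommRingCat.of R)).presheaf.stalk s) T]
    [IsLocalHom (algebraMap ((Spec (CommRingCat.of R)).presheaf.stalk s) T)]
    [Hensel.IsStrictHenselization ((Spec (CommRingCat.of R)).presheaf.stalk s) T]
    [IsSepClosed (ResidueField T)]
    [Algebra R T] (hT : ∀ r : R, algebraMap R T r =
      algebraMap ((Spec (CommRingCat.of R)).presheaf.stalk s) T ((StructureSheaf.toStalk R s).hom r))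
    (L : Type u) [Field L] [Algebra T L] [IsFractionRing T L] [Algebra K L]
    (hRL : ∀ r : R, algebraMap T L (algebraMap R T r) = algebraMap K L (algebraMap R K r))
    (hinj : Function.Injective (algebraMap R T))
    (hdiv : ∀ b : T, b ≠ 0 → ∃ c : T, ∃ r : R, r ≠ 0 ∧ b * c = algebraMap R T r)
    (n : ℕ) (G : EtCoh.Ab (Spec (CommRingCat.of K))) :
    Nonempty ((EtCoh.stalk (Hens2.geomPt (Spec (CommRingCat.of R)) s T)).obj ((EtCoh.Rpush (genPt R K) n).obj G) ≃+
      EtCoh.H (Spec (CommRingCat.of L))
        ((EtCoh.pull (Spec.map (CommRingCat.ofHom (algebraMap K L)))).obj G) n) := by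
  haveI : IsDomain T := (IsFractionRing.injective T L).isDomain
  let S := Spec (CommRingCat.of R)
  haveI : IsLocalization ((nonZeroDivisors R).map (algebraMap R T)) L := by
    refine (isLocalization_iff _ _).2 ⟨fun y => ?_, fun z => ?_, fun {x y} hxy => ⟨1, ?_⟩⟩
    · obtain ⟨r, hr, hry⟩ := y.2
      rw [← hry, isUnit_iff_ne_zero, map_ne_zero_iff _ (IsFractionRing.injective T L), map_ne_zero_iff _ hinj]
      exact nonZeroDivisors.ne_zero hr
    · obtain ⟨a, b, hb, rfl⟩ := IsFractionRing.div_surjective T z
      obtain ⟨c, r, hr, hbc⟩ := hdiv b (nonZeroDivisors.ne_zero hb)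
      refine ⟨⟨a * c, ⟨algebraMap R T r, r, mem_nonZeroDivisors_of_ne_zero hr, rfl⟩⟩, ?_⟩
      show _ * algebraMap T L (algebraMap R T r) = algebraMap T L (a * c)
      rw [← hbc, map_mul, map_mul, ← mul_assoc, div_mul_cancel₀]
      exact (map_ne_zero_iff _ (IsFractionRing.injective T L)).2 (nonZeroDivisors.ne_zero hb)
    · rw [IsFractionRing.injective T L hxy]
  have hpo := CommRingCat.isPushout_of_isLocalization (algebraMap R T) (algebraMap K L)
    (RingHom.ext fun r => (hRL r).symm) (nonZeroDivisors R)
  have hspec : Hens2.specOf S s T = Spec.map (CommRingCat.ofHom (algebraMap R T)) := by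
    show Spec.map _ ≫ (Spec (CommRingCat.of R)).fromSpecStalk s = _
    rw [Spec.fromSpecStalk_eq']
    exact (Spec.map_comp _ _).symm.trans
      (congrArg Spec.map (CommRingCat.hom_ext (RingHom.ext fun r => (hT r).symm)))
  have hpb : IsPullback (Spec.map (CommRingCat.ofHom (algebraMap K L)))
      (Spec.map (CommRingCat.ofHom (algebraMap T L))) (genPt R K) (Hens2.specOf S s T) := by
    rw [hspec]
    exact isPullback_SpecMap_of_isPushout _ _ _ _ hpo.flip
  obtain ⟨E⟩ := EtLimCore.nonempty_stalk_Rpush_iso_strictHenselization (genPt R K) s T n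
  obtain ⟨e⟩ := nonempty_H_pull_equiv hpb.isoPullback _ _ hpb.isoPullback_hom_fst G n
  exact ⟨((E.app G).addCommGroupIsoToAddEquiv).trans e⟩

variable [IsDiscreteValuationRing R]

/-- The local rings of a discrete valuation ring. -/
theorem exists_strictHenz (s : Spec (CommRingCat.of R)) :
    ∃ (T : Type u) (_ : CommRing T) (_ : IsLocalRing T)
      (_ : Algebra ((Spec (CommRingCat.of R)).presheaf.stalk s) T)
      (_ : IsLocalHom (algebraMap ((Spec (CommRingCat.of R)).presheaf.stalk s) T))
      (_ : Hensel.IsStrictHenselization ((Spec (CommRingCat.of R)).presheaf.stalk s) T)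
      (_ : Algebra R T),
      (∀ r : R, algebraMap R T r =
        algebraMap ((Spec (CommRingCat.of R)).presheaf.stalk s) T ((StructureSheaf.toStalk R s).hom r)) ∧
      Function.Injective (algebraMap R T) ∧
      (s.asIdeal = ⊥ → IsField T) ∧
      (s.asIdeal ≠ ⊥ → ∃ (_ : IsDomain T), IsDiscreteValuationRing T ∧
        ∀ π : R, Irreducible π → Irreducible (algebraMap R T π)) := by
  let A := (Spec (CommRingCat.of R)).presheaf.stalk s
  letI : Algebra R A := (StructureSheaf.toStalk R s).hom.toAlgebra
  haveI : IsLocalization.AtPrime A s.asIdeal :=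
    StructureSheaf.IsLocalization.to_stalk R s
  haveI : IsDomain A := IsLocalization.isDomain_of_atPrime A s.asIdeal
  haveI : IsNoetherianRing A := IsLocalization.isNoetherianRing s.asIdeal.primeCompl A inferInstance
  let T := Groth.Agent.Hensel.StrictHenz A
  have hlike := Groth.Agent.Hensel.isHenzLike_of_isStrictHenselization A T
  haveI := hlike.faithfullyFlat
  letI : Algebra R T := ((algebraMap A T).comp (algebraMap R A)).toAlgebra
  refine ⟨T, inferInstance, inferInstance, inferInstance, inferInstance, inferInstance, inferInstance,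
    fun r => rfl, ?_, fun hs => ?_, fun hs => ?_⟩
  · exact (FaithfulSMul.algebraMap_injective A T).comp
      (IsLocalization.injective A s.asIdeal.primeCompl_le_nonZeroDivisors)
  · refine IsLocalRing.isField_iff_maximalIdeal_eq.2 ?_
    rw [← hlike.map_maximalIdeal, ← IsLocalization.AtPrime.map_eq_maximalIdeal s.asIdeal A, hs, Ideal.map_bot,
      Ideal.map_bot]
  · have hA : IsDiscreteValuationRing A :=
      IsLocalization.AtPrime.isDiscreteValuationRing_of_dedekind_domain R hs A
    obtain ⟨hd, hdvr⟩ := (S9262.result A (Groth.Agent.Hensel.LocalHenz A) T).2.1 ⟨inferInstance, hA⟩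
    refine ⟨hd, hdvr, fun π hπ => ?_⟩
    have hmax : maximalIdeal T = Ideal.span {algebraMap R T π} := by
      rw [← hlike.map_maximalIdeal, ← IsLocalization.AtPrime.map_eq_maximalIdeal s.asIdeal A,
        Ideal.map_map]
      rw [show s.asIdeal = maximalIdeal R from IsLocalRing.eq_maximalIdeal
        (IsPrime.to_maximal_ideal hs), hπ.maximalIdeal_eq, Ideal.map_span, Set.image_singleton]
      rfl
    exact (IsDiscreteValuationRing.irreducible_iff_uniformizer _).2 hmax

end Groth.Agent.Cd58
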