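import Groth.Agent.Cd58.SerreSteps
import Mathlib.FieldTheory.KummerExtension
import Mathlib.NumberTheory.Cyclotomic.Gal
import Mathlib.RingTheory.ZMod.UnitsCyclic
import Mathlib.FieldTheory.Galois.Basic

/-! Cyclic extensions of prime degree inside cyclic extensions of the square degree. -/

set_option autoImplicit false
set_option linter.style.haveILetI false

universe u

open Polynomial IntermediateField

namespace Groth.Agent.Cd58

variable {ℓ d : ℕ}

theorem isPrimitiveRoot_root {F : Type u} [CommMonoid F] (p k : ℕ) [Fact p.Prime] {ζ β : F}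
    (hζ : IsPrimitiveRoot ζ (p ^ (k + 1))) (hβ : β ^ p = ζ) : IsPrimitiveRoot β (p ^ (k + 2)) := by
  rw [IsPrimitiveRoot.iff_orderOf]
  refine orderOf_eq_prime_pow ?_ ?_
  · rw [pow_succ', pow_mul, hβ]
    exact hζ.pow_ne_one_of_pos_of_lt (pow_ne_zero k (Fact.out : p.Prime).ne_zero)
      (Nat.pow_lt_pow_right (Fact.out : p.Prime).one_lt (Nat.lt_succ_self k))
  · rw [pow_succ', pow_mul, hβ, hζ.pow_eq_one]

theorem adjoinRoot_isSeparable {F : Type u} [Field F] (p : ℕ) (hp : (p : F) ≠ 0) (a : F) (ha : a ≠ 0)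
    [Fact (Irreducible (X ^ p - C a))] : Algebra.IsSeparable F (AdjoinRoot (X ^ p - C a)) := by
  have hne : X ^ p - C a ≠ 0 := (Fact.out : Irreducible (X ^ p - C a)).ne_zero
  have hadj : F⟮AdjoinRoot.root (X ^ p - C a)⟯ = ⊤ :=
    IntermediateField.adjoin_eq_top_of_algebra _ _ (AdjoinRoot.adjoinRoot_eq_top (f := X ^ p - C a))
  have h : Algebra.IsSeparable F F⟮AdjoinRoot.root (X ^ p - C a)⟯ :=
    (IntermediateField.isSeparable_adjoin_simple_iff_isSeparable _ _).2
      ((separable_X_pow_sub_C a hp ha).of_dvd (minpoly.dvd F _ (by rw [AdjoinRoot.aeval_eq, AdjoinRoot.mk_self])))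
  rw [hadj] at h
  exact Algebra.IsSeparable.of_algHom F (⊤ : IntermediateField F (AdjoinRoot (X ^ p - C a)))
    IntermediateField.topEquiv.symm.toAlgHom

/-- The tower of a cyclic extension of degree `ℓ` and an extension obtained by a root. -/
theorem adjoin_tower_eq_top {E L : Type u} [Field E] [Field L] [Algebra E L] (α : L) (hα : E⟮α⟯ = ⊤)
    (f : Polynomial L) [Fact (Irreducible f)] [FiniteDimensional L (AdjoinRoot f)]
    (hroot : algebraMap L (AdjoinRoot f) α ∈ E⟮AdjoinRoot.root f⟯) :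
    E⟮AdjoinRoot.root f⟯ = ⊤ := by
  have hL : ∀ y : L, algebraMap L (AdjoinRoot f) y ∈ E⟮AdjoinRoot.root f⟯ := by
    intro y
    have : y ∈ E⟮α⟯ := hα ▸ IntermediateField.mem_top
    induction this using IntermediateField.adjoin_induction with
    | mem z hz => rw [Set.mem_singleton_iff.1 hz]; exact hroot
    | algebraMap c =>
      rw [← IsScalarTower.algebraMap_apply]
      exact IntermediateField.algebraMap_mem _ c
    | add a b _ _ ha hb => rw [map_add]; exact add_mem ha hb
    | inv a _ ha => rw [map_inv₀]; exact inv_mem ha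
    | mul a b _ _ ha hb => rw [map_mul]; exact mul_mem ha hb
  rw [eq_top_iff]
  intro z hz
  clear hz
  obtain ⟨q, rfl⟩ := AdjoinRoot.mk_surjective (g := f) z
  induction q using Polynomial.induction_on' with
  | add a b ha hb => rw [map_add]; exact add_mem ha hb
  | monomial n c =>
    rw [← C_mul_X_pow_eq_monomial, map_mul, map_pow, AdjoinRoot.mk_C, AdjoinRoot.mk_X]
    exact mul_mem (hL c) (pow_mem (IntermediateField.mem_adjoin_simple_self E _) n)

/-- With the `ℓ²`-th roots of unity, every cyclic extension of degree `ℓ` descends vanishing. -/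
theorem Van.of_kummer [Fact ℓ.Prime] (E L : Type u) [Field E] [Field L] [Algebra E L] [FiniteDimensional E L]
    [IsGalois E L] (hdeg : Module.finrank E L = ℓ) (ω : E) (hω : IsPrimitiveRoot ω (ℓ ^ 2))
    (h : Van ℓ d L) : Van ℓ d E := by
  have hℓ := (Fact.out : ℓ.Prime)
  haveI : NeZero ℓ := ⟨hℓ.ne_zero⟩
  haveI : IsCyclic (L ≃ₐ[E] L) := isCyclic_of_prime_card (p := ℓ) (by rw [IsGalois.card_aut_eq_finrank, hdeg])
  have hω1 : IsPrimitiveRoot (ω ^ ℓ) ℓ := hω.pow (pow_pos hℓ.pos 2) (sq ℓ)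
  obtain ⟨α, ⟨a, ha⟩, hα⟩ := exists_root_adjoin_eq_top_of_isCyclic E L
    ⟨ω ^ ℓ, (mem_primitiveRoots Module.finrank_pos).2 (hdeg.symm ▸ hω1)⟩
  rw [hdeg] at ha
  have ha0 : a ≠ 0 := by
    rintro rfl
    have h0 : α = 0 := (pow_eq_zero_iff hℓ.ne_zero).1 (by rw [← ha, map_zero])
    rw [h0, IntermediateField.adjoin_zero] at hα
    have := IntermediateField.finrank_bot (F := E) (E := L)
    rw [hα, IntermediateField.finrank_top', hdeg] at this
    exact hℓ.one_lt.ne' this
  have hα0 : α ≠ 0 := fun h0 => ha0 ((algebraMap E L).injective (by rw [ha, h0, zero_pow hℓ.ne_zero, map_zero]))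
  have hnot : ∀ b : L, b ^ ℓ ≠ α := by
    intro b hb
    have hb0 : b ≠ 0 := fun h0 => hα0 (by rw [← hb, h0, zero_pow hℓ.ne_zero])
    obtain ⟨σ, hσ⟩ : ∃ σ : L ≃ₐ[E] L, σ α ≠ α := by
      by_contra! hall
      have : (⊤ : IntermediateField E L) ≤ ⊥ := hα ▸ IntermediateField.adjoin_simple_le_iff.2
        ((IsGalois.mem_bot_iff_fixed α).2 hall)
      have h1 := IntermediateField.finrank_bot (F := E) (E := L)
      rw [le_bot_iff.1 this |>.symm, IntermediateField.finrank_top', hdeg] at h1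
      exact hℓ.one_lt.ne' h1
    have hroot : (σ b / b) ^ (ℓ ^ 2) = 1 := by
      rw [div_pow, ← map_pow, sq, pow_mul, hb, ← ha, σ.commutes, div_self]
      rw [ha]; exact pow_ne_zero _ hα0
    obtain ⟨i, -, hi⟩ := (hω.map_of_injective (algebraMap E L).injective).eq_pow_of_pow_eq_one hroot
    have hσb : σ b = algebraMap E L (ω ^ i) * b := by rw [map_pow, hi, div_mul_cancel₀ _ hb0]
    have hit : ∀ n : ℕ, (σ ^ n) b = algebraMap E L ((ω ^ i) ^ n) * b := by
      intro n
      induction n with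
      | zero => simp
      | succ n ih =>
        rw [pow_succ, AlgEquiv.mul_apply, hσb, map_mul, AlgEquiv.commutes, ih, ← mul_assoc, ← map_mul, ← pow_succ']
    have h1 := hit ℓ
    rw [show σ ^ ℓ = 1 by rw [← hdeg, ← IsGalois.card_aut_eq_finrank]; exact pow_card_eq_one', AlgEquiv.one_apply] at h1
    have h2 : (ω ^ i) ^ ℓ = 1 := (algebraMap E L).injective (mul_right_cancel₀ hb0 (by rw [← h1, map_one, one_mul]))
    refine hσ ?_
    rw [← hb, map_pow, hσb, mul_pow, ← map_pow, h2, map_one, one_mul]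
  haveI : Fact (Irreducible (X ^ ℓ - C α)) := ⟨X_pow_sub_C_irreducible_of_prime hℓ hnot⟩
  let M := AdjoinRoot (X ^ ℓ - C α)
  haveI : FiniteDimensional L M := (AdjoinRoot.powerBasis (X_pow_sub_C_ne_zero hℓ.pos α)).finite
  have hML : Module.finrank L M = ℓ := by
    rw [(AdjoinRoot.powerBasis (X_pow_sub_C_ne_zero hℓ.pos α)).finrank, AdjoinRoot.powerBasis_dim,
      natDegree_X_pow_sub_C]
  haveI : FiniteDimensional E M := Module.Finite.trans L M
  let β : M := AdjoinRoot.root (X ^ ℓ - C α)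
  have hβ : β ^ ℓ = algebraMap L M α := by
    rw [← sub_eq_zero]
    have := AdjoinRoot.eval₂_root (X ^ ℓ - C α)
    rwa [eval₂_sub, eval₂_X_pow, eval₂_C] at this
  have htop : E⟮β⟯ = ⊤ := adjoin_tower_eq_top α hα _ (hβ ▸ pow_mem (IntermediateField.mem_adjoin_simple_self E β) ℓ)
  have hEM : Module.finrank E M = ℓ ^ 2 := by rw [← Module.finrank_mul_finrank E L M, hdeg, hML, sq]
  have hK : (primitiveRoots (Module.finrank E M) E).Nonempty :=
    ⟨ω, (mem_primitiveRoots Module.finrank_pos).2 (hEM.symm ▸ hω)⟩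
  have haM : β ^ Module.finrank E M = algebraMap E M a := by
    rw [hEM, sq, pow_mul, hβ, ← map_pow, ← ha, ← IsScalarTower.algebraMap_apply]
  have hirr := irreducible_X_pow_sub_C_of_root_adjoin_eq_top haM htop
  haveI := isSplittingField_X_pow_sub_C_of_root_adjoin_eq_top hK haM htop
  haveI : IsGalois E M := isGalois_of_isSplittingField_X_pow_sub_C hK hirr M
  haveI : NeZero (Module.finrank E M) := ⟨Module.finrank_pos.ne'⟩
  haveI : IsCyclic (M ≃ₐ[E] M) := isCyclic_of_isSplittingField_X_pow_sub_C hK hirr M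
  exact Van.of_cyclic_sq E L M hML h

theorem isCyclotomicExtension_adjoin (E M : Type u) [Field E] [Field M] [Algebra E M]
    [FiniteDimensional E M] (β : M) {n : ℕ} [NeZero n] (hβ : IsPrimitiveRoot β n) (htop : E⟮β⟯ = ⊤) :
    IsCyclotomicExtension {n} E M := by
  have h1 := hβ.intermediateField_adjoin_isCyclotomicExtension E
  rw [htop] at h1
  haveI := h1
  exact IsCyclotomicExtension.equiv {n} E (⊤ : IntermediateField E M) IntermediateField.topEquiv

/-- The field generated by a root of unity of odd prime power order is cyclic. -/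
theorem isCyclic_adjoin_primitiveRoot [Fact ℓ.Prime] (hodd : ℓ ≠ 2) (E M : Type u) [Field E] [Field M] [Algebra E M]
    [FiniteDimensional E M] (β : M) {k : ℕ} (hβ : IsPrimitiveRoot β (ℓ ^ k)) (htop : E⟮β⟯ = ⊤) :
    IsGalois E M ∧ IsCyclic (M ≃ₐ[E] M) := by
  have hℓ := (Fact.out : ℓ.Prime)
  haveI : NeZero (ℓ ^ k) := ⟨pow_ne_zero k hℓ.ne_zero⟩
  haveI := isCyclotomicExtension_adjoin E M β hβ htop
  haveI := ZMod.isCyclic_units_of_prime_pow ℓ hℓ hodd k
  exact ⟨IsCyclotomicExtension.isGalois {ℓ ^ k} E M,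
    isCyclic_of_injective (hβ.autToPow E) (hβ.autToPow_injective E)⟩

set_option maxHeartbeats 1000000 in
/-- For odd `ℓ`, the extension by the `ℓ²`-th roots of unity descends vanishing. -/
theorem Van.of_cyclotomic [Fact ℓ.Prime] (hodd : ℓ ≠ 2) (E : Type u) [Field E] (hℓE : (ℓ : E) ≠ 0)
    (ζ : E) (hζ : IsPrimitiveRoot ζ ℓ)
    (h : ∀ (L : Type u) [Field L] [Algebra E L] [FiniteDimensional E L] [Algebra.IsSeparable E L],
      (∃ ω : L, IsPrimitiveRoot ω (ℓ ^ 2)) → Van ℓ d L) : Van ℓ d E := by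
  have hℓ := (Fact.out : ℓ.Prime)
  haveI : NeZero ℓ := ⟨hℓ.ne_zero⟩
  have hζ' : IsPrimitiveRoot ζ (ℓ ^ (0 + 1)) := by rwa [zero_add, pow_one]
  by_cases hex : ∃ b : E, b ^ ℓ = ζ
  · obtain ⟨b, hb⟩ := hex
    exact h E ⟨b, isPrimitiveRoot_root ℓ 0 hζ' hb⟩
  push Not at hex
  haveI : Fact (Irreducible (X ^ ℓ - C ζ)) := ⟨X_pow_sub_C_irreducible_of_prime hℓ hex⟩
  let L := AdjoinRoot (X ^ ℓ - C ζ)
  let pb := AdjoinRoot.powerBasis (K := E) (X_pow_sub_C_ne_zero hℓ.pos ζ)
  haveI : FiniteDimensional E L := pb.finite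
  haveI : Algebra.IsSeparable E L := adjoinRoot_isSeparable ℓ hℓE ζ (hζ.ne_zero hℓ.ne_zero)
  have hdeg : Module.finrank E L = ℓ := by
    rw [pb.finrank, AdjoinRoot.powerBasis_dim, natDegree_X_pow_sub_C]
  let α : L := AdjoinRoot.root (X ^ ℓ - C ζ)
  have hαℓ : α ^ ℓ = algebraMap E L ζ := by
    rw [← sub_eq_zero]
    have := AdjoinRoot.eval₂_root (X ^ ℓ - C ζ)
    rwa [eval₂_sub, eval₂_X_pow, eval₂_C] at this
  have hαprim : IsPrimitiveRoot α (ℓ ^ 2) :=
    isPrimitiveRoot_root ℓ 0 (hζ'.map_of_injective (algebraMap E L).injective) hαℓ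
  have hVL := h L ⟨α, hαprim⟩
  have hnorm : Algebra.norm E α = ζ := by
    have h1 := Algebra.PowerBasis.norm_gen_eq_coeff_zero_minpoly pb
    rw [AdjoinRoot.powerBasis_gen, AdjoinRoot.powerBasis_dim, natDegree_X_pow_sub_C,
      AdjoinRoot.minpoly_root (X_pow_sub_C_ne_zero hℓ.pos ζ), (monic_X_pow_sub_C ζ hℓ.ne_zero).leadingCoeff,
      inv_one, map_one, mul_one, coeff_sub, coeff_X_pow, if_neg hℓ.ne_zero.symm, coeff_C_zero, zero_sub,
      (hℓ.odd_of_ne_two hodd).neg_one_pow, neg_one_mul, neg_neg] at h1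
    exact h1
  have hnot : ∀ b : L, b ^ ℓ ≠ α := fun b hb =>
    hex (Algebra.norm E b) (by rw [← map_pow, hb, hnorm])
  have hαtop : E⟮α⟯ = ⊤ :=
    IntermediateField.adjoin_eq_top_of_algebra _ _ (AdjoinRoot.adjoinRoot_eq_top (f := X ^ ℓ - C ζ))
  haveI : IsGalois E L := by
    have hK : (primitiveRoots (Module.finrank E L) E).Nonempty :=
      ⟨ζ, (mem_primitiveRoots Module.finrank_pos).2 (hdeg.symm ▸ hζ)⟩
    have haL : α ^ Module.finrank E L = algebraMap E L ζ := by rw [hdeg]; exact hαℓ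
    haveI := isSplittingField_X_pow_sub_C_of_root_adjoin_eq_top hK haL hαtop
    exact isGalois_of_isSplittingField_X_pow_sub_C hK (irreducible_X_pow_sub_C_of_root_adjoin_eq_top haL hαtop) L
  haveI : Fact (Irreducible (X ^ ℓ - C α)) := ⟨X_pow_sub_C_irreducible_of_prime hℓ hnot⟩
  let M := AdjoinRoot (X ^ ℓ - C α)
  haveI : FiniteDimensional L M := (AdjoinRoot.powerBasis (X_pow_sub_C_ne_zero hℓ.pos α)).finite
  have hML : Module.finrank L M = ℓ := by
    rw [(AdjoinRoot.powerBasis (X_pow_sub_C_ne_zero hℓ.pos α)).finrank, AdjoinRoot.powerBasis_dim,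
      natDegree_X_pow_sub_C]
  haveI : FiniteDimensional E M := Module.Finite.trans L M
  let β : M := AdjoinRoot.root (X ^ ℓ - C α)
  have hβ : β ^ ℓ = algebraMap L M α := by
    rw [← sub_eq_zero]
    have := AdjoinRoot.eval₂_root (X ^ ℓ - C α)
    rwa [eval₂_sub, eval₂_X_pow, eval₂_C] at this
  have htop : E⟮β⟯ = ⊤ :=
    adjoin_tower_eq_top α hαtop _ (hβ ▸ pow_mem (IntermediateField.mem_adjoin_simple_self E β) ℓ)
  have hβprim : IsPrimitiveRoot β (ℓ ^ 3) :=
    isPrimitiveRoot_root ℓ 1 (hαprim.map_of_injective (algebraMap L M).injective) hβ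
  obtain ⟨hG, hC⟩ := isCyclic_adjoin_primitiveRoot (ℓ := ℓ) hodd E M β hβprim htop
  haveI := hG
  haveI := hC
  exact Van.of_cyclic_sq E L M hML hVL

set_option maxHeartbeats 1600000 in
/-- For `ℓ = 2`, the square root of a sum of two squares descends vanishing. -/
theorem Van.of_two_squares (E : Type u) [Field E] (h2 : (2 : E) ≠ 0) (x y : E)
    (hex : ∀ b : E, b ^ 2 ≠ x ^ 2 + y ^ 2)
    (h : ∀ (L : Type u) [Field L] [Algebra E L] [FiniteDimensional E L] [Algebra.IsSeparable E L],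
      (∃ α : L, α ^ 2 = algebraMap E L (x ^ 2 + y ^ 2)) → Van 2 d L) : Van 2 d E := by
  let a := x ^ 2 + y ^ 2
  haveI : Fact (Nat.Prime 2) := ⟨Nat.prime_two⟩
  have hadef : a = x ^ 2 + y ^ 2 := rfl
  have hy : y ≠ 0 := fun h0 => hex x (by rw [h0]; ring)
  have hx : x ≠ 0 := fun h0 => hex y (by rw [h0]; ring)
  have ha : a ≠ 0 := fun h0 => hex 0 (by show (0 : E) ^ 2 = a; rw [h0]; ring)
  haveI : Fact (Irreducible (X ^ 2 - C a)) := ⟨X_pow_sub_C_irreducible_of_prime Nat.prime_two hex⟩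
  let L := AdjoinRoot (X ^ 2 - C a)
  let pb := AdjoinRoot.powerBasis (K := E) (X_pow_sub_C_ne_zero two_pos a)
  haveI : FiniteDimensional E L := pb.finite
  haveI : Algebra.IsSeparable E L := adjoinRoot_isSeparable 2 (by exact_mod_cast h2) a ha
  have hdeg : Module.finrank E L = 2 := by
    rw [pb.finrank, AdjoinRoot.powerBasis_dim, natDegree_X_pow_sub_C]
  let α : L := AdjoinRoot.root (X ^ 2 - C a)
  have hα2 : α ^ 2 = algebraMap E L a := by
    rw [← sub_eq_zero]
    have := AdjoinRoot.eval₂_root (X ^ 2 - C a)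
    rwa [eval₂_sub, eval₂_X_pow, eval₂_C] at this
  have hαtop : E⟮α⟯ = ⊤ :=
    IntermediateField.adjoin_eq_top_of_algebra _ _ (AdjoinRoot.adjoinRoot_eq_top (f := X ^ 2 - C a))
  have hVL := h L ⟨α, hα2⟩
  haveI : IsGalois E L := by
    have hK : (primitiveRoots (Module.finrank E L) E).Nonempty :=
      ⟨-1, (mem_primitiveRoots Module.finrank_pos).2 (by
        rw [hdeg]
        exact (IsPrimitiveRoot.iff_orderOf).2 (orderOf_eq_prime (by ring) fun h1 => h2 (by
          linear_combination -h1)))⟩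
    have haL : α ^ Module.finrank E L = algebraMap E L a := by rw [hdeg]; exact hα2
    haveI := isSplittingField_X_pow_sub_C_of_root_adjoin_eq_top hK haL hαtop
    exact isGalois_of_isSplittingField_X_pow_sub_C hK (irreducible_X_pow_sub_C_of_root_adjoin_eq_top haL hαtop) L
  have hind : ∀ u v : E, algebraMap E L u + algebraMap E L v * α = 0 → u = 0 ∧ v = 0 := by
    intro u v huv
    by_cases hv : v = 0
    · exact ⟨(algebraMap E L).injective (by rw [map_zero]; simpa [hv] using huv), hv⟩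
    · refine absurd ((algebraMap E L).injective ?_) (hex (u / v))
      have : α = -algebraMap E L (u / v) := by
        rw [map_div₀, ← neg_div, eq_div_iff ((_root_.map_ne_zero _).2 hv)]
        linear_combination huv
      rw [← hα2, this, map_pow]; ring
  let c : L := algebraMap E L a + algebraMap E L x * α
  have hnot : ∀ z : L, z ^ 2 ≠ c := by
    intro z hz
    obtain ⟨q, hq, rfl⟩ : ∃ q : E[X], q.natDegree < 2 ∧ AdjoinRoot.mk _ q = z := by
      obtain ⟨q, rfl⟩ := AdjoinRoot.mk_surjective z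
      refine ⟨q %ₘ (X ^ 2 - C a), ?_, ?_⟩
      · have := natDegree_modByMonic_lt q (monic_X_pow_sub_C a two_ne_zero) fun h1 => by
          simpa [natDegree_X_pow_sub_C] using congrArg natDegree h1
        rwa [natDegree_X_pow_sub_C] at this
      · exact AdjoinRoot.mk_eq_mk.2 ⟨-(q /ₘ (X ^ 2 - C a)), by
          linear_combination (modByMonic_add_div q (X ^ 2 - C a))⟩
    rw [eq_X_add_C_of_natDegree_le_one (p := q) (by omega)] at hz
    simp only [map_add, map_mul, AdjoinRoot.mk_C, AdjoinRoot.mk_X] at hz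
    change (algebraMap E L (q.coeff 1) * α + algebraMap E L (q.coeff 0)) ^ 2 = c at hz
    obtain ⟨e0, e1⟩ := hind (q.coeff 0 ^ 2 + q.coeff 1 ^ 2 * a - a) (2 * q.coeff 0 * q.coeff 1 - x) (by
      simp only [c] at hz
      simp only [map_add, map_sub, map_mul, map_pow, map_ofNat]
      linear_combination hz - (algebraMap E L (q.coeff 1)) ^ 2 * hα2)
    refine absurd ?_ (hex ((q.coeff 0 ^ 2 - q.coeff 1 ^ 2 * a) / y))
    rw [div_pow, div_eq_iff (pow_ne_zero 2 hy)]
    show _ = a * y ^ 2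
    linear_combination (q.coeff 0 ^ 2 + q.coeff 1 ^ 2 * a + a) * e0
      - a * (2 * q.coeff 0 * q.coeff 1 + x) * e1 + a * hadef
  haveI : Fact (Irreducible (X ^ 2 - C c)) := ⟨X_pow_sub_C_irreducible_of_prime Nat.prime_two hnot⟩
  let M := AdjoinRoot (X ^ 2 - C c)
  haveI : FiniteDimensional L M := (AdjoinRoot.powerBasis (X_pow_sub_C_ne_zero two_pos c)).finite
  have hML : Module.finrank L M = 2 := by
    rw [(AdjoinRoot.powerBasis (X_pow_sub_C_ne_zero two_pos c)).finrank, AdjoinRoot.powerBasis_dim,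
      natDegree_X_pow_sub_C]
  haveI : FiniteDimensional E M := Module.Finite.trans L M
  let γ : M := AdjoinRoot.root (X ^ 2 - C c)
  let A : M := algebraMap L M α
  have hγ : γ ^ 2 = algebraMap E M a + algebraMap E M x * A := by
    have h0 := AdjoinRoot.eval₂_root (X ^ 2 - C c)
    rw [eval₂_sub, eval₂_X_pow, eval₂_C, sub_eq_zero] at h0
    refine h0.trans ?_
    show algebraMap L M c = _
    simp only [c, A, map_add, map_mul, ← IsScalarTower.algebraMap_apply E L M]
  have hA : A ^ 2 = algebraMap E M a := by rw [← map_pow, hα2, ← IsScalarTower.algebraMap_apply]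
  have hγc : γ ^ 2 = algebraMap L M c := by
    rw [hγ]
    simp only [c, A, map_add, map_mul, ← IsScalarTower.algebraMap_apply E L M]
  have hγ0 : γ ≠ 0 := fun h0 => hnot 0 ((algebraMap L M).injective (by
    rw [← hγc, h0, map_pow, map_zero]))
  let γ' : M := algebraMap E M y * A / γ
  let sL : L →ₐ[E] M := AdjoinRoot.liftAlgHom _ (Algebra.ofId E M) (-A) (by
    rw [eval₂_sub, eval₂_X_pow, eval₂_C, neg_sq, hA]
    exact sub_self _)
  have hsα : sL α = -A := AdjoinRoot.liftAlgHom_root _ _ _ _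
  have hγ' : γ' ^ 2 = sL c := by
    show γ' ^ 2 = sL (algebraMap E L a + algebraMap E L x * α)
    rw [map_add sL, map_mul sL, AlgHom.commutes, AlgHom.commutes, hsα]
    rw [show γ' ^ 2 = (algebraMap E M y * A) ^ 2 / γ ^ 2 from div_pow _ _ _, div_eq_iff (pow_ne_zero 2 hγ0), hγ]
    have hya : algebraMap E M a = algebraMap E M x ^ 2 + algebraMap E M y ^ 2 := by
      show algebraMap E M (x ^ 2 + y ^ 2) = _
      rw [map_add, map_pow, map_pow]
    linear_combination (algebraMap E M x ^ 2 + algebraMap E M y ^ 2) * hA - (algebraMap E M a) * hya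
  let s : M →ₐ[E] M := AdjoinRoot.liftAlgHom _ sL γ' (by
    rw [eval₂_sub, eval₂_X_pow, eval₂_C]
    exact sub_eq_zero.2 hγ')
  have hsγ : s γ = γ' := AdjoinRoot.liftAlgHom_root _ _ _ _
  have hsA : s A = -A := (AdjoinRoot.liftAlgHom_of _ _ _ _ _).trans hsα
  let σ : M ≃ₐ[E] M := AlgEquiv.ofBijective s s.bijective
  have hσ2γ : (σ ^ 2) γ = -γ := by
    show s (s γ) = -γ
    rw [hsγ, map_div₀, map_mul, AlgHom.commutes, hsA, hsγ]
    have hA0 : A ≠ 0 := fun h0 => ha ((algebraMap E M).injective (by rw [map_zero, ← hA, h0]; ring))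
    have hyM : algebraMap E M y ≠ 0 := (_root_.map_ne_zero _).2 hy
    show _ / (algebraMap E M y * A / γ) = -γ
    rw [div_div_eq_mul_div, div_eq_iff (mul_ne_zero hyM hA0)]
    ring
  have hord : orderOf σ = 2 ^ 2 := by
    refine orderOf_eq_prime_pow (n := 1) ?_ ?_
    · rw [pow_one]
      intro h1
      have h3 := hσ2γ
      rw [h1, AlgEquiv.one_apply] at h3
      have hz : γ * algebraMap E M 2 = 0 := by rw [map_ofNat]; linear_combination h3
      exact mul_ne_zero hγ0 ((_root_.map_ne_zero _).2 h2) hz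
    · refine AlgEquiv.ext fun z => ?_
      have h4γ : (σ ^ 4) γ = γ := by
        rw [show σ ^ 4 = σ ^ 2 * σ ^ 2 by rw [← pow_add], AlgEquiv.mul_apply, hσ2γ, map_neg, hσ2γ, neg_neg]
      have h4A : (σ ^ 4) A = A := by
        show s (s (s (s A))) = A
        rw [hsA, map_neg, hsA, neg_neg, hsA, map_neg, hsA, neg_neg]
      have htop : E⟮γ⟯ = ⊤ := adjoin_tower_eq_top α hαtop _ (by
        have : A = (γ ^ 2 - algebraMap E M a) / algebraMap E M x := by
          rw [hγ, add_sub_cancel_left, mul_div_cancel_left₀ _ ((_root_.map_ne_zero _).2 hx)]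
        show A ∈ _
        rw [this]
        exact div_mem (sub_mem (pow_mem (IntermediateField.mem_adjoin_simple_self E γ) 2)
          (IntermediateField.algebraMap_mem _ a)) (IntermediateField.algebraMap_mem _ x))
      have hz : z ∈ E⟮γ⟯ := htop ▸ IntermediateField.mem_top
      rw [AlgEquiv.one_apply]
      induction hz using IntermediateField.adjoin_induction with
      | mem w hw => rw [Set.mem_singleton_iff.1 hw]; exact h4γ
      | algebraMap w => exact AlgEquiv.commutes _ w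
      | add u v _ _ hu hv => rw [map_add, hu, hv]
      | inv u _ hu => rw [map_inv₀, hu]
      | mul u v _ _ hu hv => rw [map_mul, hu, hv]
  have hEM : Module.finrank E M = 4 := by rw [← Module.finrank_mul_finrank E L M, hdeg, hML]
  have hcard : Nat.card (M ≃ₐ[E] M) = 4 := by
    refine le_antisymm ?_ ?_
    · rw [Nat.card_eq_fintype_card, ← hEM]
      exact AlgEquiv.card_le
    · have := orderOf_le_card (x := σ)
      rw [hord] at this
      exact this
  haveI : IsGalois E M := IsGalois.of_card_aut_eq_finrank E M (hcard.trans hEM.symm)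
  haveI : IsCyclic (M ≃ₐ[E] M) := isCyclic_of_orderOf_eq_card σ (hord.trans hcard.symm)
  exact Van.of_cyclic_sq E L M hML hVL

end Groth.Agent.Cd58
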