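import Groth.Agent.Cd58.DimBound

/-! Minimal primes of a local ring of a scheme and maximal points. -/

set_option autoImplicit false
set_option linter.style.haveILetI false
set_option backward.isDefEq.respectTransparency.types false

universe u

open CategoryTheory CategoryTheory.Limits AlgebraicGeometry Opposite IsLocalRing

namespace Groth.Agent.Cd58

variable {X : Scheme.{u}}

/-- Primes of a local ring are kernels of the maps to residue fields of generalizations. -/
theorem exists_point_ker (y : X) (p : PrimeSpectrum (X.presheaf.stalk y)) :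
    ∃ (x : X) (hxy : x ⤳ y), (X.fromSpecStalk y).base p = x ∧ RingHom.ker (Cyc.specMap y x hxy) = p.asIdeal := by
  have hxy : (X.fromSpecStalk y).base p ⤳ y :=
    ((IsLocalRing.specializes_closedPoint p).map (X.fromSpecStalk y).continuous).trans
      (specializes_of_eq Scheme.fromSpecStalk_closedPoint)
  refine ⟨_, hxy, rfl, ?_⟩
  let x := (X.fromSpecStalk y).base p
  let A := X.presheaf.stalk y
  let s : Spec (X.residueField x) ⟶ Spec A := Spec.map (CommRingCat.ofHom (Cyc.specMap y x hxy))
  let a : PrimeSpectrum A := s.base default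
  have ha' : a.asIdeal = RingHom.ker (Cyc.specMap y x hxy) := by
    let t : PrimeSpectrum (X.residueField x) := (default : Spec (X.residueField x))
    have ht : t.asIdeal = ⊥ := (Ideal.eq_bot_or_top t.asIdeal).resolve_right t.isPrime.ne_top
    change t.asIdeal.comap (Cyc.specMap y x hxy) = _
    rw [ht]
    rfl
  have hax : (X.fromSpecStalk y).base a = x := by
    have h : s ≫ X.fromSpecStalk y = X.fromSpecResidueField x := by
      change Spec.map (X.presheaf.stalkSpecializes hxy ≫ X.residue x) ≫ _ = _
      rw [Spec.map_comp, Category.assoc, Scheme.SpecMap_stalkSpecializes_fromSpecStalk]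
      rfl
    rw [← Scheme.Hom.comp_apply, h]
    exact Scheme.fromSpecResidueField_apply x _
  rw [← ha', (X.fromSpecStalk y).isEmbedding.injective hax]

/-- The point of a minimal prime of a local ring is a maximal point. -/
theorem closure_mem_irreducibleComponents (y : X) (p : PrimeSpectrum (X.presheaf.stalk y))
    (hp : p.asIdeal ∈ minimalPrimes (X.presheaf.stalk y)) :
    closure {(X.fromSpecStalk y).base p} ∈ irreducibleComponents (X : Type u) := by
  refine ⟨isIrreducible_singleton.closure, fun Z hZ hle => ?_⟩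
  have hxy : (X.fromSpecStalk y).base p ⤳ y :=
    ((IsLocalRing.specializes_closedPoint p).map (X.fromSpecStalk y).continuous).trans
      (specializes_of_eq Scheme.fromSpecStalk_closedPoint)
  obtain ⟨η, hη⟩ := QuasiSober.sober hZ.closure isClosed_closure
  have hspec : η ⤳ (X.fromSpecStalk y).base p :=
    hη.specializes (subset_closure (hle (subset_closure rfl)))
  have hmem : η ∈ Set.range (X.fromSpecStalk y).base := by
    rw [Scheme.range_fromSpecStalk]
    exact hspec.trans hxy
  obtain ⟨q, rfl⟩ := hmem
  let q' : PrimeSpectrum (X.presheaf.stalk y) := q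
  have hs : q' ⤳ p := (X.fromSpecStalk y).isEmbedding.isInducing.specializes_iff.1 hspec
  have hqp : q'.asIdeal ≤ p.asIdeal := (PrimeSpectrum.le_iff_specializes q' p).2 hs
  obtain rfl : q = p := PrimeSpectrum.ext (le_antisymm hqp (hp.2 ⟨q'.isPrime, bot_le⟩ hqp))
  calc Z ⊆ closure Z := subset_closure
    _ = closure {(X.fromSpecStalk y).base q} := hη.def.symm

/-- The residue field at a generalization is the field of fractions of the quotient of the local ring. -/
theorem exists_isFractionRing {x y : X} (hxy : x ⤳ y) :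
    ∃ _ : Algebra (X.presheaf.stalk y ⧸ RingHom.ker (Cyc.specMap y x hxy)) (X.residueField x),
      IsFractionRing (X.presheaf.stalk y ⧸ RingHom.ker (Cyc.specMap y x hxy)) (X.residueField x) := by
  letI : Algebra (X.presheaf.stalk y ⧸ RingHom.ker (Cyc.specMap y x hxy)) (X.residueField x) :=
    (RingHom.kerLift (Cyc.specMap y x hxy)).toAlgebra
  refine ⟨this, ?_⟩
  haveI : FaithfulSMul (X.presheaf.stalk y ⧸ RingHom.ker (Cyc.specMap y x hxy)) (X.residueField x) :=
    (faithfulSMul_iff_algebraMap_injective _ _).2 (RingHom.kerLift_injective _)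
  refine IsFractionRing.of_field _ _ fun z => ?_
  obtain ⟨a, b, hb, hab⟩ := CdField.exists_specMap_div hxy z
  refine ⟨Ideal.Quotient.mk _ a, Ideal.Quotient.mk _ b, ?_⟩
  show z = Cyc.specMap y x hxy a / Cyc.specMap y x hxy b
  rw [← hab, mul_div_cancel_right₀ _ hb]

/-- The dimension is bounded on the quotients by minimal primes. -/
theorem ringKrullDim_le_of_minimalPrimes (A : Type u) [CommRing A] (d : WithBot ℕ∞)
    (h : ∀ P ∈ minimalPrimes A, ringKrullDim (A ⧸ P) ≤ d) : ringKrullDim A ≤ d := by
  refine iSup_le fun c => ?_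
  obtain ⟨P, hP, hle⟩ := Ideal.exists_minimalPrimes_le (J := c.head.asIdeal) (I := (⊥ : Ideal A)) bot_le
  refine le_trans ?_ (h P hP)
  rw [ringKrullDim_quotient]
  let c' : LTSeries (PrimeSpectrum.zeroLocus (P : Set A)) :=
    ⟨c.length, fun i => ⟨c i, le_trans hle (c.head_le i)⟩, fun i => c.step i⟩
  exact le_iSup_of_le c' le_rfl

/-- The bound on the minimal primes bounds the dimension of a Noetherian local ring. -/
theorem ringKrullDim_le_of_cd (A : Type u) [CommRing A] [IsNoetherianRing A] (ℓ : ℕ) [Fact ℓ.Prime]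
    (hℓ : IsUnit (ℓ : A)) (d : ℕ)
    (h : ∀ (P : Ideal A) [P.IsPrime], P ∈ minimalPrimes A → ∃ (K : Type u) (_ : Field K) (_ : Algebra (A ⧸ P) K),
      IsFractionRing (A ⧸ P) K ∧ Dix.CohDimLEAt (Spec (CommRingCat.of K)) ℓ d) :
    ringKrullDim A ≤ d := by
  refine ringKrullDim_le_of_minimalPrimes A d fun P hP => ?_
  haveI : P.IsPrime := hP.1.1
  obtain ⟨K, _, _, hK, hcd⟩ := h P hP
  haveI := hK
  refine iSup_le fun c => ?_
  have hℓP : IsUnit (ℓ : A ⧸ P) := by
    rw [← map_natCast (Ideal.Quotient.mk P)]
    exact hℓ.map _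
  exact_mod_cast le_of_cohDimLEAt ℓ c.length d (A ⧸ P) hℓP K K
    (le_iSup_of_le (f := fun c : LTSeries (PrimeSpectrum (A ⧸ P)) => (c.length : WithBot ℕ∞)) c le_rfl) hcd

end Groth.Agent.Cd58
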