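import Groth.Agent.Cd58.MixedDvr
import Groth.Agent.Cd58.Points
import Groth.Agent.RegBiequi.Jacobson
import Groth.Agent.DimFormula.Catenary
import Groth.Agent.IsoNatLib.SmoothCrit
import Groth.Agent.FibDim.AffineChart

/-! Cohomological dimension of the function fields of strict localizations of schemes of finite type
over a discrete valuation ring. -/

set_option autoImplicit false
set_option linter.style.haveILetI false
set_option backward.isDefEq.respectTransparency.types false

universe u

open CategoryTheory CategoryTheory.Limits AlgebraicGeometry Opposite IsLocalRing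

noncomputable section

namespace Groth.Agent.Cd58

/-- Fields with the same image in a field give the same transcendence degree. -/
theorem trdeg_eq_of_range {F G M : Type u} [Field F] [Field G] [Field M] (ι : F →+* M) (r : G →+* M)
    (h₁ : ∀ w, ∃ v, r v = ι w) (h₂ : ∀ v, ∃ w, ι w = r v) :
    (letI := ι.toAlgebra; Algebra.trdeg F M) = (letI := r.toAlgebra; Algebra.trdeg G M) := by
  choose j hj using h₁
  let j' : F →+* G :=
    { toFun := j
      map_one' := r.injective (by rw [hj, map_one, map_one])
      map_zero' := r.injective (by rw [hj, map_zero, map_zero])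
      map_add' := fun a b => r.injective (by rw [hj, map_add, map_add, hj, hj])
      map_mul' := fun a b => r.injective (by rw [hj, map_mul, map_mul, hj, hj]) }
  letI := ι.toAlgebra
  letI := r.toAlgebra
  letI : Algebra F G := j'.toAlgebra
  haveI : IsScalarTower F G M := IsScalarTower.of_algebraMap_eq fun w => (hj w).symm
  haveI : Algebra.IsAlgebraic F G := ⟨fun v => by
    obtain ⟨w, hw⟩ := h₂ v
    have : algebraMap F G w = v := r.injective ((hj w).trans hw)
    exact this ▸ isAlgebraic_algebraMap w⟩
  rw [← trdeg_add_eq F G (A := M), trdeg_eq_zero (R := F) (A := G), zero_add]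

variable {V : Type u} [CommRing V] {X : Scheme.{u}} (f : X ⟶ Spec (CommRingCat.of V))

/-- The structure map to a local ring. -/
def stalkHom (z : X) : V →+* X.presheaf.stalk z :=
  (X.presheaf.germ ⊤ z trivial).hom.comp ((Scheme.ΓSpecIso (CommRingCat.of V)).inv ≫ f.appTop).hom

/-- The structure map to a residue field. -/
def resV (z : X) : V →+* X.residueField z := (X.residue z).hom.comp (stalkHom f z)

/-- The evaluation at the image of a point. -/
def evalV (z : X) : V →+* (Spec (CommRingCat.of V)).residueField (f z) :=
  ((Scheme.ΓSpecIso (CommRingCat.of V)).inv ≫ (Spec (CommRingCat.of V)).evaluation ⊤ (f z) trivial).hom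

theorem residueFieldMap_evalV (z : X) (c : V) : f.residueFieldMap z (evalV f z c) = resV f z c :=
  Scheme.evaluation_naturality_apply f z (V := ⊤) trivial _

theorem specMap_stalkHom {y x : X} (hyx : y ⤳ x) (c : V) :
    Cyc.specMap x y hyx (stalkHom f x c) = resV f y c := by
  show X.residue y (X.presheaf.stalkSpecializes hyx (X.presheaf.germ ⊤ x trivial _)) = _
  rw [TopCat.Presheaf.germ_stalkSpecializes_apply]
  rfl

/-- The relative transcendence degree is that over any field generated by the image of the base. -/
theorem trdeg_eq_rd [LocallyOfFiniteType f] (z : X) {F : Type u} [Field F] (χ : V →+* F)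
    (hχ : ∀ w : F, ∃ a s : V, χ s ≠ 0 ∧ w * χ s = χ a) (ι : F →+* X.residueField z)
    (hι : ∀ c, ι (χ c) = resV f z c) :
    (letI := ι.toAlgebra; Algebra.trdeg F (X.residueField z)) = (FibDim.rd f z : ℕ) := by
  rw [FibDim.rd_eq_rdeg]
  refine trdeg_eq_of_range ι (f.residueFieldMap z).hom (fun w => ?_) fun v => ?_
  · obtain ⟨a, s, hs, hw⟩ := hχ w
    refine ⟨evalV f z a / evalV f z s, ?_⟩
    show f.residueFieldMap z _ = _
    rw [map_div₀, residueFieldMap_evalV, residueFieldMap_evalV, ← hι, ← hι, ← hw, map_mul,
      mul_div_cancel_right₀ _ (ι.injective.ne_iff' (map_zero ι) |>.2 hs)]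
  · obtain ⟨a, s, hs, hv⟩ := FibDim.exists_mul_eq_evaluation (f z) v
    obtain ⟨a, rfl⟩ := (Scheme.ΓSpecIso (CommRingCat.of V)).symm.commRingCatIsoToRingEquiv.surjective a
    obtain ⟨s, rfl⟩ := (Scheme.ΓSpecIso (CommRingCat.of V)).symm.commRingCatIsoToRingEquiv.surjective s
    have hs' : resV f z s ≠ 0 := fun h => hs ((f.residueFieldMap z).hom.injective
      ((residueFieldMap_evalV f z s).trans (h.trans (map_zero _).symm)))
    refine ⟨χ a / χ s, ?_⟩
    rw [map_div₀, hι, hι, div_eq_iff hs', ← residueFieldMap_evalV, ← residueFieldMap_evalV, ← map_mul]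
    exact congrArg _ hv.symm

/-- The stalks of the spectrum of a discrete valuation ring are universally catenary. -/
theorem isUniversallyCatenary_stalk_dvr [IsDomain V] [IsDiscreteValuationRing V] (s : Spec (CommRingCat.of V)) :
    CAlg.IsUniversallyCatenary ((Spec (CommRingCat.of V)).presheaf.stalk s) := by
  letI : Algebra V ((Spec (CommRingCat.of V)).presheaf.stalk s) := StructureSheaf.stalkAlgebra V s
  haveI : IsLocalization.AtPrime ((Spec (CommRingCat.of V)).presheaf.stalk s) s.asIdeal :=
    StructureSheaf.IsLocalization.to_stalk (CommRingCat.of V) s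
  exact DimFormula.isUniversallyCatenary_localization (RegBiequi.catenary_of_regular V)
    s.asIdeal.primeCompl _

variable [IsDomain V] [IsDiscreteValuationRing V] [LocallyOfFiniteType f]

set_option synthInstance.maxHeartbeats 200000 in
set_option maxHeartbeats 1000000 in
include f in
/-- `cd_ℓ Frac(R/P) ≤ dim (A/p)` for a strict henselization `R` of a local ring `A`. -/
theorem cohDimLEAt_strictLocal_dvr (ℓ : ℕ) [Fact ℓ.Prime] (hℓV : IsUnit (ℓ : V)) {y x : X} (hyx : y ⤳ x)
    (R : Type u) [CommRing R] [IsLocalRing R] [Algebra (X.presheaf.stalk x) R]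
    [IsLocalHom (algebraMap (X.presheaf.stalk x) R)] [Hensel.IsStrictHenselization (X.presheaf.stalk x) R]
    (P : Ideal R) (hP : P ∈ ((RingHom.ker (Cyc.specMap x y hyx)).map (algebraMap (X.presheaf.stalk x) R)).minimalPrimes)
    (e : ℕ) (he : DimFormula.cd y x ≤ e) :
    Dix.CohDimLEAt (Spec (CommRingCat.of (FractionRing (R ⧸ P)))) ℓ e := by
  haveI := LocallyOfFiniteType.isLocallyNoetherian f
  haveI : (RingHom.ker (Cyc.specMap x y hyx)).IsPrime := RingHom.ker_isPrime _
  let A := X.presheaf.stalk x
  let p : Ideal A := RingHom.ker (Cyc.specMap x y hyx)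
  have hlike := Hensel.isHenzLike_of_isStrictHenselization A R
  haveI := hP.1.1
  haveI : HenselianLocalRing R := Hensel.IsStrictHenselization.henselian A
  have hsc := Hensel.IsStrictHenselization.isSepClosure (R := A) (S := R)
  haveI : IsSepClosed (ResidueField R) := hsc.sep_closed
  haveI : Algebra.IsSeparable (ResidueField A) (ResidueField R) := hsc.separable
  let L := FractionRing (R ⧸ P)
  have hcomap := CdField.comap_of_mem_minimalPrimes hlike p P hP
  -- the field `κ(y)` maps to `L`
  letI : Algebra A (X.residueField y) := (Cyc.specMap x y hyx).toAlgebra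
  have hker : ∀ a : A, algebraMap A L a = 0 ↔ Cyc.specMap x y hyx a = 0 := fun a => by
    rw [IsScalarTower.algebraMap_apply A (R ⧸ P) L, map_eq_zero_iff _ (IsFractionRing.injective (R ⧸ P) L),
      IsScalarTower.algebraMap_apply A R (R ⧸ P), Ideal.Quotient.algebraMap_eq, Ideal.Quotient.eq_zero_iff_mem,
      ← Ideal.mem_comap, hcomap]
    exact RingHom.mem_ker
  obtain ⟨alg, hfrac⟩ := exists_isFractionRing hyx
  let θ : A ⧸ p →+* L := Ideal.Quotient.lift p (algebraMap A L) fun a ha => (hker a).2 ha
  have hθ : Function.Injective θ :=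
    RingHom.lift_injective_of_ker_le_ideal p _ fun a ha => (hker a).1 ha
  let i : A ⧸ p →+* X.residueField y := RingHom.kerLift (Cyc.specMap x y hyx)
  letI : Algebra (A ⧸ p) (X.residueField y) := i.toAlgebra
  haveI : IsFractionRing (A ⧸ p) (X.residueField y) := by
    haveI : FaithfulSMul (A ⧸ p) (X.residueField y) :=
      (faithfulSMul_iff_algebraMap_injective _ _).2 (RingHom.kerLift_injective _)
    refine IsFractionRing.of_field _ _ fun z => ?_
    obtain ⟨a, b, hb, hab⟩ := CdField.exists_specMap_div hyx z
    refine ⟨Ideal.Quotient.mk p a, Ideal.Quotient.mk p b, ?_⟩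
    show z = Cyc.specMap x y hyx a / Cyc.specMap x y hyx b
    rw [← hab, mul_div_cancel_right₀ _ hb]
  letI : Algebra (X.residueField y) L := (IsFractionRing.lift (K := X.residueField y) hθ).toAlgebra
  have hyL : ∀ a : A, algebraMap (X.residueField y) L (Cyc.specMap x y hyx a) = algebraMap A L a := fun a =>
    IsFractionRing.lift_algebraMap hθ (Ideal.Quotient.mk p a)
  haveI : IsScalarTower A (X.residueField y) L := IsScalarTower.of_algebraMap_eq fun a => (hyL a).symm
  haveI : Algebra.IsAlgebraic (X.residueField y) L := by
    refine ⟨fun z => ?_⟩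
    obtain ⟨a, b, -, rfl⟩ := IsFractionRing.div_surjective (R ⧸ P) z
    obtain ⟨a, rfl⟩ := Ideal.Quotient.mk_surjective a
    obtain ⟨b, rfl⟩ := Ideal.Quotient.mk_surjective b
    have key := CdField.isAlgebraic_of_henzLike hlike (X.residueField y) L (IsScalarTower.toAlgHom A R L)
    rw [div_eq_mul_inv]
    exact (key a).mul (key b).inv
  -- the transcendence degrees
  have trL : ∀ {F : Type u} [Field F] (χ : V →+* F), (∀ w : F, ∃ a s : V, χ s ≠ 0 ∧ w * χ s = χ a) →
      ∀ (ι : F →+* X.residueField y), (∀ c, ι (χ c) = resV f y c) →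
      ∀ [Algebra F L], (∀ w, algebraMap F L w = algebraMap (X.residueField y) L (ι w)) →
      Algebra.trdeg F L = (FibDim.rd f y : ℕ) := by
    intro F _ χ hχ ι hι _ hFL
    letI := ι.toAlgebra
    haveI : IsScalarTower F (X.residueField y) L := IsScalarTower.of_algebraMap_eq hFL
    rw [← trdeg_add_eq F (X.residueField y) (A := L), trdeg_eq_zero (R := X.residueField y) (A := L),
      add_zero]
    exact trdeg_eq_rd f y χ hχ ι hι
  have trR : ∀ {F : Type u} [Field F] (χ : V →+* F), (∀ w : F, ∃ a s : V, χ s ≠ 0 ∧ w * χ s = χ a) →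
      ∀ (ι : F →+* X.residueField x), (∀ c, ι (χ c) = resV f x c) →
      ∀ (B : Type u) [CommRing B] [IsLocalRing B] (q : R →+* B) [IsLocalHom q],
      Function.Surjective q → ∀ [Algebra F (ResidueField B)],
      (∀ c, algebraMap F (ResidueField B) (χ c) = residue B (q (algebraMap A R (stalkHom f x c)))) →
      Algebra.trdeg F (ResidueField B) = (FibDim.rd f x : ℕ) := by
    intro F _ χ hχ ι hι B _ _ q _ hq _ hFB
    letI := ι.toAlgebra
    letI : Algebra (X.residueField x) (ResidueField B) :=
      ((ResidueField.map q).comp (algebraMap (ResidueField A) (ResidueField R))).toAlgebra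
    haveI : Algebra.IsAlgebraic (X.residueField x) (ResidueField B) := by
      letI : Algebra (X.residueField x) (ResidueField R) :=
        inferInstanceAs (Algebra (ResidueField A) (ResidueField R))
      haveI : Algebra.IsSeparable (X.residueField x) (ResidueField R) := hsc.separable
      refine ⟨fun z => ?_⟩
      obtain ⟨z, rfl⟩ := residue_surjective z
      obtain ⟨z, rfl⟩ := hq z
      exact (Algebra.IsAlgebraic.isAlgebraic (R := X.residueField x) (residue R z)).algHom
        ({ ResidueField.map q with commutes' := fun w => rfl } : ResidueField R →ₐ[X.residueField x] ResidueField B)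
    haveI : IsScalarTower F (X.residueField x) (ResidueField B) := IsScalarTower.of_algebraMap_eq fun w => by
      obtain ⟨a, s, hs, hw⟩ := hχ w
      have hc : ∀ c, algebraMap F (ResidueField B) (χ c) =
          algebraMap (X.residueField x) (ResidueField B) (ι (χ c)) := fun c => by
        rw [hFB, hι]
        rfl
      refine mul_right_cancel₀ (mt (fun h => (algebraMap F (ResidueField B)).injective (h.trans (map_zero _).symm)) hs) ?_
      rw [← map_mul, hw, hc, hc, ← map_mul]
      exact congrArg _ ((congrArg ι hw).symm.trans (map_mul ι w _))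
    rw [← trdeg_add_eq F (X.residueField x) (A := ResidueField B),
      trdeg_eq_zero (R := X.residueField x) (A := ResidueField B), add_zero]
    exact trdeg_eq_rd f x χ hχ ι hι
  have hdim : DimFormula.cd y x + FibDim.rd f x = DimFormula.cd (f y) (f x) + FibDim.rd f y :=
    (DimFormula.cd_formula f hyx).2 (isUniversallyCatenary_stalk_dvr (f x))
  let ψ := stalkHom f x
  letI : Algebra V R := ((algebraMap A R).comp ψ).toAlgebra
  let K := FractionRing V
  have hK : ∀ w : K, ∃ a s : V, algebraMap V K s ≠ 0 ∧ w * algebraMap V K s = algebraMap V K a := fun w => by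
    obtain ⟨a, b, hb, rfl⟩ := IsFractionRing.div_surjective V w
    exact ⟨a, b, IsFractionRing.to_map_ne_zero_of_mem_nonZeroDivisors hb,
      div_mul_cancel₀ _ (IsFractionRing.to_map_ne_zero_of_mem_nonZeroDivisors hb)⟩
  obtain ⟨π, hπ⟩ := IsDiscreteValuationRing.exists_irreducible V
  have hassoc : ∀ c : V, c ≠ 0 → ∃ (n : ℕ) (v : Vˣ), c = v * π ^ n := fun c hc => by
    obtain ⟨n, v, rfl⟩ := IsDiscreteValuationRing.eq_unit_mul_pow_irreducible hc hπ
    exact ⟨n, v, rfl⟩
  by_cases hπy : resV f y π = 0
  · -- the component lies in the special fibre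
    let k := ResidueField V
    have hk : ∀ w : k, ∃ a s : V, residue V s ≠ 0 ∧ w * residue V s = residue V a := fun w => by
      obtain ⟨a, rfl⟩ := residue_surjective w
      exact ⟨a, 1, by rw [map_one]; exact one_ne_zero, by rw [map_one, mul_one]⟩
    have hm : ∀ c ∈ maximalIdeal V, resV f y c = 0 := fun c hc => by
      rw [hπ.maximalIdeal_eq] at hc
      obtain ⟨d, rfl⟩ := Ideal.mem_span_singleton'.1 hc
      rw [map_mul, hπy, mul_zero]
    have hmP : ∀ c ∈ maximalIdeal V, Ideal.Quotient.mk P (algebraMap A R (ψ c)) = 0 := fun c hc => by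
      rw [Ideal.Quotient.eq_zero_iff_mem, ← Ideal.mem_comap, hcomap, RingHom.mem_ker, specMap_stalkHom]
      exact hm c hc
    let B := R ⧸ P
    haveI : HenselianLocalRing B := IsoNatLib.henselianLocalRing_quotient P Ideal.IsPrime.ne_top'
    haveI : IsLocalHom (Ideal.Quotient.mk P) := .of_surjective _ Ideal.Quotient.mk_surjective
    haveI : IsSepClosed (ResidueField B) := by
      letI : Algebra (ResidueField R) (ResidueField B) := (ResidueField.map (Ideal.Quotient.mk P)).toAlgebra
      haveI : Algebra.IsAlgebraic (ResidueField R) (ResidueField B) := ⟨fun z => by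
        obtain ⟨z, rfl⟩ := residue_surjective z
        obtain ⟨z, rfl⟩ := Ideal.Quotient.mk_surjective z
        exact isAlgebraic_algebraMap (residue R z)⟩
      exact Algebra.IsAlgebraic.isSepClosed (F := ResidueField R)
    letI : Algebra k B := (Ideal.Quotient.lift (maximalIdeal V) ((Ideal.Quotient.mk P).comp
      ((algebraMap A R).comp ψ)) hmP).toAlgebra
    let ιy : k →+* X.residueField y := Ideal.Quotient.lift (maximalIdeal V) (resV f y) hm
    have hmx : ∀ c ∈ maximalIdeal V, resV f x c = 0 := fun c hc => by
      refine (residue_eq_zero_iff _).2 fun hu => ?_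
      have := (hu.map (Cyc.specMap x y hyx)).ne_zero
      exact this ((specMap_stalkHom f hyx c).trans (hm c hc))
    have ha : Algebra.trdeg k L = (FibDim.rd f y : ℕ) := trL (residue V) hk ιy (fun c => rfl) fun w => by
      obtain ⟨c, rfl⟩ := residue_surjective w
      refine Eq.trans ?_ ((hyL (ψ c)).symm.trans (congrArg (algebraMap (X.residueField y) L) (specMap_stalkHom f hyx c)))
      rw [IsScalarTower.algebraMap_apply k B L, IsScalarTower.algebraMap_apply A B L]
      rfl
    have hb : Algebra.trdeg k (ResidueField B) = (FibDim.rd f x : ℕ) :=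
      trR (residue V) hk (Ideal.Quotient.lift (maximalIdeal V) (resV f x) hmx) (fun c => rfl) B
        (Ideal.Quotient.mk P) Ideal.Quotient.mk_surjective fun c => rfl
    exact CdField.cohDimLEAt_of_henselian k B L ℓ _ _ e ha.le hb (by omega)
  · -- the component meets the generic fibre
    have hinj : ∀ c : V, c ≠ 0 → resV f y c ≠ 0 := fun c hc => by
      obtain ⟨n, v, rfl⟩ := hassoc c hc
      rw [map_mul, map_pow]
      exact mul_ne_zero (v.isUnit.map _).ne_zero (pow_ne_zero _ hπy)
    have hinj' : Function.Injective (resV f y) := (injective_iff_map_eq_zero _).2 fun c hc =>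
      not_not.1 fun h => hinj c h hc
    let ιy : K →+* X.residueField y := IsFractionRing.lift hinj'
    have hVL : ∀ c : V, algebraMap V L c = algebraMap (X.residueField y) L (ιy (algebraMap V K c)) := fun c => by
      rw [IsScalarTower.algebraMap_apply V R L]
      exact ((IsScalarTower.algebraMap_apply A R L (ψ c)).symm.trans ((hyL (ψ c)).symm.trans
        (congrArg (algebraMap (X.residueField y) L) (specMap_stalkHom f hyx c)))).trans
        (congrArg (algebraMap (X.residueField y) L) (IsFractionRing.lift_algebraMap hinj' c).symm)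
    have haK : ∀ [Algebra K L] [IsScalarTower V K L], Algebra.trdeg K L = (FibDim.rd f y : ℕ) := by
      intro _ _
      refine trL (algebraMap V K) hK ιy (IsFractionRing.lift_algebraMap hinj') fun w => ?_
      exact DFunLike.congr_fun (IsLocalization.ringHom_ext (nonZeroDivisors V) (RingHom.ext fun c =>
        (IsScalarTower.algebraMap_apply V K L c).symm.trans (hVL c)) :
          algebraMap K L = (algebraMap (X.residueField y) L).comp ιy) w
    by_cases hπx : resV f x π = 0
    · haveI : IsLocalHom (algebraMap V R) := ⟨fun c hc => by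
        by_contra hcu
        have h1 : c ∈ maximalIdeal V := hcu
        rw [hπ.maximalIdeal_eq] at h1
        obtain ⟨d, rfl⟩ := Ideal.mem_span_singleton'.1 h1
        have h2 : IsUnit (ψ (d * π)) := (isUnit_map_iff (algebraMap A R) _).1 hc
        have h3 : resV f x (d * π) ≠ 0 := (h2.map (X.residue x).hom).ne_zero
        exact h3 (by rw [map_mul, hπx, mul_zero])⟩
      have hmx : ∀ c ∈ maximalIdeal V, resV f x c = 0 := fun c hc => by
        rw [hπ.maximalIdeal_eq] at hc
        obtain ⟨d, rfl⟩ := Ideal.mem_span_singleton'.1 hc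
        rw [map_mul, hπx, mul_zero]
      have hb : Algebra.trdeg (ResidueField V) (ResidueField R) = (FibDim.rd f x : ℕ) :=
        trR (residue V) (fun w => by
            obtain ⟨a, rfl⟩ := residue_surjective w
            exact ⟨a, 1, by rw [map_one]; exact one_ne_zero, by rw [map_one, mul_one]⟩)
          (Ideal.Quotient.lift (maximalIdeal V) (resV f x) hmx) (fun c => rfl) R (RingHom.id R)
          Function.surjective_id fun c => rfl
      have hne : f y ≠ f x := by
        have h0 : ∀ s t : Spec (CommRingCat.of V), s = t →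
            (Spec (CommRingCat.of V)).evaluation ⊤ s trivial ((Scheme.ΓSpecIso (CommRingCat.of V)).inv π) = 0 →
            (Spec (CommRingCat.of V)).evaluation ⊤ t trivial ((Scheme.ΓSpecIso (CommRingCat.of V)).inv π) = 0 := by
          rintro s t rfl h
          exact h
        refine fun h => hπy ?_
        rw [← residueFieldMap_evalV]
        refine (congrArg _ (h0 _ _ h.symm ((f.residueFieldMap x).hom.injective ?_))).trans (map_zero _)
        exact (residueFieldMap_evalV f x π).trans (hπx.trans (map_zero _).symm)
      have hcd : DimFormula.cd (f y) (f x) ≠ 0 := fun h0 =>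
        hne ((DimFormula.cd_eq_zero_iff (hyx.map f.continuous)).1 h0)
      letI : Algebra K L := ((algebraMap (X.residueField y) L).comp ιy).toAlgebra
      haveI : IsScalarTower V K L := IsScalarTower.of_algebraMap_eq hVL
      exact cohDimLEAt_of_henselian_dvr V K R L ℓ hℓV _ _ e haK.le hb (by omega)
    · have hux : ∀ c : nonZeroDivisors V, IsUnit ((algebraMap V R) c) := fun c => by
        obtain ⟨n, v, hc⟩ := hassoc c (nonZeroDivisors.ne_zero c.2)
        rw [hc, map_mul, map_pow]
        refine (v.isUnit.map _).mul (IsUnit.pow n ?_)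
        exact (not_not.1 fun h => hπx ((residue_eq_zero_iff _).2 h) : IsUnit (ψ π)).map (algebraMap A R)
      letI : Algebra K R := (IsLocalization.lift (S := K) hux).toAlgebra
      have hKR : ∀ c, algebraMap K R (algebraMap V K c) = algebraMap V R c := IsLocalization.lift_eq hux
      haveI : IsScalarTower V K L := IsScalarTower.of_algebraMap_eq fun c => by
        rw [IsScalarTower.algebraMap_apply K R L, hKR, ← IsScalarTower.algebraMap_apply V R L]
      have hxinj : Function.Injective (resV f x) := (injective_iff_map_eq_zero _).2 fun c hc => not_not.1 fun h => by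
        obtain ⟨n, v, rfl⟩ := hassoc c h
        rw [map_mul, map_pow] at hc
        exact mul_ne_zero (v.isUnit.map _).ne_zero (pow_ne_zero _ hπx) hc
      have hb : Algebra.trdeg K (ResidueField R) = (FibDim.rd f x : ℕ) :=
        trR (algebraMap V K) hK (IsFractionRing.lift hxinj) (IsFractionRing.lift_algebraMap hxinj) R (RingHom.id R)
          Function.surjective_id fun c => congrArg (residue R) (hKR c)
      exact CdField.cohDimLEAt_of_henselian K R L ℓ _ _ e haK.le hb (by omega)

end Groth.Agent.Cd58
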