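import Mathlib.FieldTheory.KummerExtension
import Mathlib.RingTheory.Norm.Transitivity
import Mathlib.LinearAlgebra.LinearIndependent.Lemmas
import Mathlib.FieldTheory.Fixed
import Mathlib.FieldTheory.Galois.Basic

/-! Norms in Kummer extensions of prime degree and the symmetry of the norm criterion. -/

set_option autoImplicit false

universe u

open Polynomial

noncomputable section

namespace Groth.Agent.Cd58

/-- Hilbert 90 for a cyclic extension. -/
theorem exists_apply_eq_mul {M F : Type u} [Field M] [Field F] [Algebra M F] [FiniteDimensional M F] [IsGalois M F]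
    {τ : F ≃ₐ[M] F} (hgen : ∀ g, g ∈ Subgroup.zpowers τ) {z : F} (hz : Algebra.norm M z = 1) :
    ∃ w : F, w ≠ 0 ∧ τ w = z * w := by
  classical
  let n := Module.finrank M F
  have hord : orderOf τ = n := by
    rw [orderOf_eq_card_of_forall_mem_zpowers hgen, IsGalois.card_aut_eq_finrank]
  let c : ℕ → F := fun k => ∏ i ∈ Finset.range k, (τ ^ i) z
  have hc0 : c 0 = 1 := Finset.prod_range_zero _
  have hcs : ∀ k, c (k + 1) = z * τ (c k) := fun k => by
    simp only [c, map_prod, Finset.prod_range_succ', pow_succ', AlgEquiv.mul_apply, pow_zero, AlgEquiv.one_apply]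
    ring
  have hbij : Function.Bijective fun i : Fin n => τ ^ (i : ℕ) := by
    rw [Nat.bijective_iff_injective_and_card]
    refine ⟨fun i j h => Fin.ext ?_, by rw [Nat.card_eq_fintype_card, Fintype.card_fin, IsGalois.card_aut_eq_finrank]⟩
    exact pow_injOn_Iio_orderOf (Set.mem_Iio.2 (i.isLt.trans_eq hord.symm)) (Set.mem_Iio.2 (j.isLt.trans_eq hord.symm)) h
  have hcn : c n = 1 := by
    have h := Algebra.norm_eq_prod_automorphisms M z
    rw [hz, map_one] at h
    show ∏ i ∈ Finset.range n, (τ ^ i) z = 1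
    rw [h, Finset.prod_range]
    exact Fintype.prod_bijective _ hbij _ _ fun i => rfl
  have hli : LinearIndependent F fun i : Fin n => (⇑(τ ^ (i : ℕ)) : F → F) := by
    refine (linearIndependent_monoidHom F F).comp (fun i : Fin n => ((τ ^ (i : ℕ) : F ≃ₐ[M] F) : F →* F)) ?_
    intro i j h
    exact hbij.1 (AlgEquiv.ext fun x => DFunLike.congr_fun h x)
  obtain ⟨θ, hθ⟩ : ∃ θ, ∑ k ∈ Finset.range n, c k * (τ ^ k) θ ≠ 0 := by
    by_contra hcon
    push Not at hcon
    have h := Fintype.linearIndependent_iff.1 hli (fun i => c i) (funext fun θ => by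
      rw [Finset.sum_apply]
      simpa [Finset.sum_range] using hcon θ) ⟨0, Module.finrank_pos⟩
    exact one_ne_zero (hc0.symm.trans h)
  let w := ∑ k ∈ Finset.range n, c k * (τ ^ k) θ
  have hw : z * τ w = w := by
    show z * τ (∑ k ∈ Finset.range n, c k * (τ ^ k) θ) = ∑ k ∈ Finset.range n, c k * (τ ^ k) θ
    rw [map_sum, Finset.mul_sum]
    have h1 := Finset.sum_range_succ' (fun k => c k * (τ ^ k) θ) n
    rw [Finset.sum_range_succ, hcn, hc0, ← hord, pow_orderOf_eq_one, pow_zero, hord] at h1
    rw [add_right_cancel h1]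
    refine Finset.sum_congr rfl fun k _ => ?_
    rw [map_mul, hcs, pow_succ', AlgEquiv.mul_apply, mul_assoc]
  have hτw : τ w ≠ 0 := fun h => hθ (by rw [h, mul_zero] at hw; exact hw.symm)
  have hw0 : w ≠ 0 := fun h => hτw (by rw [h, map_zero])
  refine ⟨w⁻¹, inv_ne_zero hw0, ?_⟩
  rw [map_inv₀]
  field_simp
  linear_combination -hw

variable {K : Type u} [Field K] {ℓ : ℕ} [hℓ : Fact ℓ.Prime] {ζ : K} (hζ : IsPrimitiveRoot ζ ℓ)
  {M : Type u} [Field M] [Algebra K M] [FiniteDimensional K M] [IsGalois K M] (hM : Module.finrank K M = ℓ)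

include hM

omit [IsGalois K M] in
/-- An element outside the base generates an extension of prime degree. -/
theorem adjoin_eq_top {z : M} (hz : z ∉ Set.range (algebraMap K M)) : IntermediateField.adjoin K {z} = ⊤ := by
  haveI := IntermediateField.isSimpleOrder_of_finrank_prime K M (hM ▸ hℓ.out)
  exact (IsSimpleOrder.eq_bot_or_eq_top _).resolve_left fun h => hz (IntermediateField.mem_bot.1
    (h ▸ IntermediateField.mem_adjoin_simple_self K z))

include hζ in
/-- The conjugates of a root `z` of `X^ℓ = c` are the `ζ^i z`. -/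
theorem bijective_conj {z : M} {c : K} (hzc : z ^ ℓ = algebraMap K M c) (hz : z ∉ Set.range (algebraMap K M)) :
    ∃ f : (M ≃ₐ[K] M) → Fin ℓ, Function.Bijective f ∧ ∀ σ, σ z = algebraMap K M ζ ^ (f σ : ℕ) * z := by
  have hz0 : z ≠ 0 := fun h => hz ⟨0, by rw [h, map_zero]⟩
  have hζM : IsPrimitiveRoot (algebraMap K M ζ) ℓ := hζ.map_of_injective (algebraMap K M).injective
  have key : ∀ σ : M ≃ₐ[K] M, ∃ i : Fin ℓ, σ z = algebraMap K M ζ ^ (i : ℕ) * z := fun σ => by
    have h : (σ z / z) ^ ℓ = 1 := by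
      rw [div_pow, ← map_pow, hzc, AlgEquiv.commutes, div_self]
      rw [← hzc]
      exact pow_ne_zero _ hz0
    obtain ⟨i, hi, hi'⟩ := hζM.eq_pow_of_pow_eq_one h
    exact ⟨⟨i, hi⟩, by rw [show algebraMap K M ζ ^ i = σ z / z from hi', div_mul_cancel₀ _ hz0]⟩
  choose f hf using key
  have hinj : Function.Injective f := fun σ τ h => by
    have hez : σ z = τ z := by rw [hf σ, hf τ, h]
    refine AlgEquiv.ext fun x => ?_
    have hx : x ∈ IntermediateField.adjoin K {z} := by rw [adjoin_eq_top hM hz]; trivial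
    induction hx using IntermediateField.adjoin_induction with
    | mem y hy => rw [Set.mem_singleton_iff.1 hy, hez]
    | algebraMap y => rw [AlgEquiv.commutes, AlgEquiv.commutes]
    | add x y _ _ h1 h2 => rw [map_add, map_add, h1, h2]
    | inv x _ h1 => rw [map_inv₀, map_inv₀, h1]
    | mul x y _ _ h1 h2 => rw [map_mul, map_mul, h1, h2]
  refine ⟨f, ?_, hf⟩
  rw [Nat.bijective_iff_injective_and_card]
  exact ⟨hinj, by rw [IsGalois.card_aut_eq_finrank, hM, Nat.card_eq_fintype_card, Fintype.card_fin]⟩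

include hζ in
/-- `N(1 - z) = 1 - z^ℓ`. -/
theorem norm_one_sub {z : M} {c : K} (hzc : z ^ ℓ = algebraMap K M c) (hz : z ∉ Set.range (algebraMap K M)) :
    Algebra.norm K (1 - z) = 1 - c := by
  classical
  obtain ⟨f, hf, hfz⟩ := bijective_conj hζ hM hzc hz
  apply (algebraMap K M).injective
  rw [Algebra.norm_eq_prod_automorphisms]
  have hprod := X_pow_sub_C_eq_prod (hζ.map_of_injective (algebraMap K M).injective) hℓ.out.pos hzc
  have h1 := congrArg (eval (1 : M)) hprod
  rw [eval_sub, eval_pow, eval_X, one_pow, eval_C, eval_prod] at h1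
  rw [map_sub, map_one, h1, Finset.prod_range]
  refine Fintype.prod_bijective f hf _ _ fun σ => ?_
  rw [map_sub, map_one, eval_sub, eval_X, eval_C, hfz]

include hζ in
/-- Symmetry: if `a = α^ℓ` is a norm from the extension by an `ℓ`-th root of `b`, presented inside `F`, then
`b` is a norm from `K(α)`. -/
theorem exists_norm_of_symm {a b : K} {α : M} (hα : α ^ ℓ = algebraMap K M a)
    (hαK : α ∉ Set.range (algebraMap K M)) (hb : ∀ y : M, y ^ ℓ ≠ algebraMap K M b)
    (Y : K[X]) (hY : ∀ (F : Type u) [Field F] [Algebra K F] (β : F), β ^ ℓ = algebraMap K F b →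
      β ∉ Set.range (algebraMap K F) →
      ∏ i ∈ Finset.range ℓ, aeval (algebraMap K F ζ ^ i * β) Y = algebraMap K F a) :
    ∃ t : M, Algebra.norm K t = b := by
  classical
  let P : M[X] := X ^ ℓ - C (algebraMap K M b)
  have hirr : Irreducible P := X_pow_sub_C_irreducible_of_prime hℓ.out hb
  haveI : Fact (Irreducible P) := ⟨hirr⟩
  let F := AdjoinRoot P
  let β : F := AdjoinRoot.root P
  have hP0 : P ≠ 0 := hirr.ne_zero
  haveI : FiniteDimensional M F := (AdjoinRoot.powerBasis hP0).finite
  have hdeg : Module.finrank M F = ℓ := by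
    rw [(AdjoinRoot.powerBasis hP0).finrank, AdjoinRoot.powerBasis_dim, natDegree_X_pow_sub_C]
  have hβ : β ^ ℓ = algebraMap K F b := by
    have h := AdjoinRoot.eval₂_root P
    simp only [P, eval₂_sub, eval₂_pow, eval₂_X, eval₂_C, sub_eq_zero] at h
    exact h
  have hα0 : α ≠ 0 := fun h => hαK ⟨0, by rw [h, map_zero]⟩
  have hβ0 : β ≠ 0 := fun h => hb 0 (by
    rw [h, zero_pow hℓ.out.ne_zero] at hβ
    rw [zero_pow hℓ.out.ne_zero]
    exact (algebraMap M F).injective (by rw [map_zero]; exact hβ))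
  have hβM : β ∉ Set.range (algebraMap M F) := by
    rintro ⟨y, hy⟩
    exact hb y ((algebraMap M F).injective (by rw [map_pow, hy]; exact hβ))
  have hζM : IsPrimitiveRoot (algebraMap K M ζ) ℓ := hζ.map_of_injective (algebraMap K M).injective
  haveI : IsGalois M F := by
    haveI : IsSplittingField M F (X ^ ℓ - C (algebraMap K M b)) :=
      isSplittingField_AdjoinRoot_X_pow_sub_C ⟨_, (mem_primitiveRoots hℓ.out.pos).2 hζM⟩ hirr
    exact isGalois_of_isSplittingField_X_pow_sub_C ⟨_, (mem_primitiveRoots hℓ.out.pos).2 hζM⟩ hirr F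
  obtain ⟨f, hf, hfβ⟩ := bijective_conj hζM hdeg (z := β) hβ hβM
  haveI : Fact (1 < ℓ) := ⟨hℓ.out.one_lt⟩
  obtain ⟨τ, hτ⟩ := hf.2 ⟨1, hℓ.out.one_lt⟩
  have hτβ : τ β = algebraMap K F ζ * β := by
    rw [hfβ τ, hτ, pow_one, ← IsScalarTower.algebraMap_apply]
  have hgen : ∀ g : F ≃ₐ[M] F, g ∈ Subgroup.zpowers τ := by
    have hcard : Nat.card (F ≃ₐ[M] F) = ℓ := by rw [IsGalois.card_aut_eq_finrank, hdeg]
    have hne : τ ≠ 1 := fun h => by
      have h1 := hτβ
      rw [h, AlgEquiv.one_apply, eq_comm, mul_left_eq_self₀] at h1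
      rcases h1 with h1 | h1
      · exact hζ.ne_one hℓ.out.one_lt ((algebraMap K F).injective (h1.trans (map_one _).symm))
      · exact hβ0 h1
    intro g
    exact mem_zpowers_of_prime_card hcard hne
  -- the extension of the generator of `M/K` fixing `β`
  obtain ⟨f₀, hf₀, hf₀α⟩ := bijective_conj hζ hM hα hαK
  obtain ⟨σ₀, hσ₀⟩ := hf₀.2 ⟨1, hℓ.out.one_lt⟩
  have hσ₀α : σ₀ α = algebraMap K M ζ * α := by rw [hf₀α σ₀, hσ₀, pow_one]
  have hroot : P.eval₂ ((algebraMap M F).comp σ₀.toAlgHom.toRingHom) β = 0 := by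
    simp only [P, eval₂_sub, eval₂_pow, eval₂_X, eval₂_C, RingHom.coe_comp, Function.comp_apply]
    rw [show σ₀.toAlgHom.toRingHom (algebraMap K M b) = algebraMap K M b from σ₀.commutes b,
      ← IsScalarTower.algebraMap_apply, hβ, sub_self]
  let σ : F →+* F := AdjoinRoot.lift ((algebraMap M F).comp σ₀.toAlgHom.toRingHom) β hroot
  have hσM : ∀ y : M, σ (algebraMap M F y) = algebraMap M F (σ₀ y) := fun y => AdjoinRoot.lift_of hroot
  have hσK : ∀ y : K, σ (algebraMap K F y) = algebraMap K F y := fun y => by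
    rw [IsScalarTower.algebraMap_apply K M F, hσM, AlgEquiv.commutes]
  have hσβ : σ β = β := AdjoinRoot.lift_root hroot
  have hcomm : ∀ x, σ (τ x) = τ (σ x) := by
    intro x
    have h : σ.comp (τ : F →+* F) = ((τ : F →+* F)).comp σ := by
      refine AdjoinRoot.ringHom_ext (RingHom.ext fun y => ?_) ?_
      · show σ (τ (algebraMap M F y)) = τ (σ (algebraMap M F y))
        rw [AlgEquiv.commutes, hσM, AlgEquiv.commutes]
      · show σ (τ β) = τ (σ β)
        rw [hσβ, hτβ, map_mul, hσK, hσβ]
    exact congrArg (fun g : F →+* F => g x) h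
  let y : F := aeval β Y
  have hσy : σ y = y := by
    show σ (aeval β Y) = aeval β Y
    rw [aeval_def, hom_eval₂, hσβ]
    exact congrArg (fun g => eval₂ g β Y) (RingHom.ext hσK)
  let z : F := y / algebraMap M F α
  have hαF : algebraMap M F α ≠ 0 := (_root_.map_ne_zero _).2 hα0
  have hβK : β ∉ Set.range (algebraMap K F) := fun ⟨c, hc⟩ =>
    hβM ⟨algebraMap K M c, by rw [← IsScalarTower.algebraMap_apply, hc]⟩
  have hNy : Algebra.norm M y = algebraMap K M a := by
    apply (algebraMap M F).injective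
    rw [Algebra.norm_eq_prod_automorphisms, ← IsScalarTower.algebraMap_apply, ← hY F β hβ hβK, Finset.prod_range]
    refine Fintype.prod_bijective f hf _ _ fun g => ?_
    show (g.toAlgHom.restrictScalars K) (aeval β Y) = _
    rw [← aeval_algHom_apply]
    refine congrArg (fun w => aeval w Y) ?_
    exact (hfβ g).trans (by rw [← IsScalarTower.algebraMap_apply])
  have hNz : Algebra.norm M z = 1 := by
    rw [show z = y * algebraMap M F α⁻¹ by rw [map_inv₀, ← div_eq_mul_inv], map_mul, hNy,
      Algebra.norm_algebraMap, hdeg, inv_pow, ← hα, mul_inv_cancel₀ (pow_ne_zero _ hα0)]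
  haveI : IsCyclic (F ≃ₐ[M] F) := ⟨⟨τ, hgen⟩⟩
  obtain ⟨w, hw0, hw⟩ := exists_apply_eq_mul hgen hNz
  have hσinj : Function.Injective σ := σ.injective
  have hσw : σ w ≠ 0 := fun h => hw0 (hσinj (h.trans (map_zero σ).symm))
  let t : F := β * (σ w / w)
  have hτt : τ t = t := by
    show τ (β * (σ w / w)) = β * (σ w / w)
    rw [map_mul, map_div₀, hτβ, ← hcomm, hw, map_mul]
    have hσz : σ z * algebraMap K F ζ = z := by
      show σ (y / algebraMap M F α) * _ = y / algebraMap M F α
      rw [map_div₀, hσy, hσM, hσ₀α, map_mul, ← IsScalarTower.algebraMap_apply]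
      have : algebraMap K F ζ ≠ 0 := (_root_.map_ne_zero _).2 (hζ.ne_zero hℓ.out.ne_zero)
      rw [mul_comm (algebraMap K F ζ), ← div_div, div_mul_cancel₀ _ this]
    have hz0 : z ≠ 0 := fun h => by
      rw [h, Algebra.norm_zero] at hNz
      exact zero_ne_one hNz
    have h1 : σ z / z * algebraMap K F ζ = 1 := by rw [div_mul_eq_mul_div, hσz, div_self hz0]
    rw [mul_div_mul_comm]
    linear_combination (β * (σ w / w)) * h1
  obtain ⟨t', ht'⟩ : t ∈ Set.range (algebraMap M F) := by
    rw [← IntermediateField.mem_bot, IsGalois.mem_bot_iff_fixed]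
    intro g
    obtain ⟨n, rfl⟩ := hgen g
    have hfix : τ ∈ MulAction.stabilizer (F ≃ₐ[M] F) t := hτt
    exact (MulAction.stabilizer (F ≃ₐ[M] F) t).zpow_mem hfix n
  refine ⟨t', (algebraMap K M).injective ?_⟩
  apply (algebraMap M F).injective
  rw [Algebra.norm_eq_prod_automorphisms, map_prod, ← IsScalarTower.algebraMap_apply]
  have hiter : ∀ (g : M ≃ₐ[K] M), algebraMap M F (g t') = σ^[(f₀ g : ℕ)] t := by
    have hpow : ∀ (i : ℕ) (x : M), algebraMap M F ((σ₀ ^ i) x) = σ^[i] (algebraMap M F x) := by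
      intro i
      induction i with
      | zero => exact fun x => rfl
      | succ i ih =>
        intro x
        rw [pow_succ', AlgEquiv.mul_apply, ← hσM, ih, Function.iterate_succ_apply']
    intro g
    have hg : g = σ₀ ^ (f₀ g : ℕ) := by
      apply hf₀.1
      have hk : ∀ i : ℕ, (σ₀ ^ i) α = algebraMap K M ζ ^ i * α := by
        intro i
        induction i with
        | zero => simp
        | succ i ih =>
          rw [pow_succ', AlgEquiv.mul_apply, ih, map_mul, map_pow, AlgEquiv.commutes, hσ₀α, pow_succ, mul_assoc]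
      have h1 := hf₀α (σ₀ ^ (f₀ g : ℕ))
      rw [hk, mul_left_inj' hα0] at h1
      exact (Fin.ext (hζM.pow_inj (f₀ g).isLt (f₀ _).isLt h1))
    conv_lhs => rw [hg, hpow, ht']
  rw [Finset.prod_congr rfl fun g _ => hiter g]
  rw [Fintype.prod_bijective f₀ hf₀ (fun g => σ^[(f₀ g : ℕ)] t) (fun i => σ^[(i : ℕ)] t) fun g => rfl,
    ← Finset.prod_range (fun i => σ^[i] t)]
  have hit : ∀ i, σ^[i] t = β * (σ^[i + 1] w / σ^[i] w) := by
    intro i
    induction i with
    | zero => rfl
    | succ i ih =>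
      rw [Function.iterate_succ_apply', ih, map_mul, map_div₀, hσβ, Function.iterate_succ_apply' σ (i + 1),
        Function.iterate_succ_apply' σ i]
  have hne : ∀ i, σ^[i] w ≠ 0 := by
    intro i
    induction i with
    | zero => exact hw0
    | succ i ih =>
      rw [Function.iterate_succ_apply']
      exact fun h => ih (hσinj (h.trans (map_zero σ).symm))
  rw [Finset.prod_congr rfl fun i _ => hit i, Finset.prod_mul_distrib, Finset.prod_const, Finset.card_range, hβ]
  have htel : ∀ n, ∏ i ∈ Finset.range n, σ^[i + 1] w / σ^[i] w = σ^[n] w / w := by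
    intro n
    induction n with
    | zero => simp [hw0]
    | succ n ih =>
      rw [Finset.prod_range_succ, ih]
      rw [mul_comm, div_mul_div_cancel₀ (hne n)]
  have hper : σ^[ℓ] w = w := by
    let S : F →+* F :=
      { toFun := σ^[ℓ], map_one' := iterate_map_one σ ℓ, map_zero' := iterate_map_zero σ ℓ,
        map_mul' := iterate_map_mul σ ℓ, map_add' := iterate_map_add σ ℓ }
    have hS : S = RingHom.id F := by
      refine AdjoinRoot.ringHom_ext (RingHom.ext fun x => ?_) ?_
      · have hp : ∀ (i : ℕ) (x : M), algebraMap M F ((σ₀ ^ i) x) = σ^[i] (algebraMap M F x) := by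
          intro i
          induction i with
          | zero => exact fun x => rfl
          | succ i ih =>
            intro x
            rw [pow_succ', AlgEquiv.mul_apply, ← hσM, ih, Function.iterate_succ_apply']
        show σ^[ℓ] (algebraMap M F x) = algebraMap M F x
        rw [← hp, show σ₀ ^ ℓ = 1 from by
          rw [← hM, ← IsGalois.card_aut_eq_finrank, pow_card_eq_one']]
        rfl
      · show σ^[ℓ] β = β
        exact Function.iterate_fixed hσβ ℓ
    exact congrArg (fun g : F →+* F => g w) hS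
  rw [htel, hper, div_self hw0, mul_one]

end Groth.Agent.Cd58
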