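import Groth.Agent.Cd58.Obstruction

/-! `cd_ℓ k + 1 ≤ cd_ℓ K` for a henselian discrete valuation ring with `ℓ` invertible in `k`. -/

set_option autoImplicit false
set_option linter.style.haveILetI false
set_option backward.isDefEq.respectTransparency.types false

universe u

open CategoryTheory CategoryTheory.Limits CategoryTheory.Abelian AlgebraicGeometry Opposite IsLocalRing

namespace Groth.Agent.Cd58

open Groth.Agent.CdLib Groth.Agent.EtFound Groth.Agent.DixBrauer

/-- `μ_ℓ ≅ ℤ/ℓ` over a field with a primitive root. -/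
theorem nonempty_mu_iso (E : Type u) [Field E] (ℓ : ℕ) [hℓ : Fact ℓ.Prime] (hℓE : (ℓ : E) ≠ 0) {z : E}
    (hz : IsPrimitiveRoot z ℓ) :
    Nonempty (EtCoh.mu (Spec (CommRingCat.of E)) ℓ ≅ EtCoh.const (Spec (CommRingCat.of E)) (ZMod ℓ)) := by
  let X := Spec (CommRingCat.of E)
  let e : Γ(X, ⊤) ≅ CommRingCat.of E := Scheme.ΓSpecIso (CommRingCat.of E)
  haveI : NeZero ℓ := ⟨hℓ.out.ne_zero⟩
  have hroot : Polynomial.aeval z (Polynomial.cyclotomic ℓ ℤ) = 0 := by
    have := hz.isRoot_cyclotomic hℓ.out.pos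
    rwa [← Polynomial.map_cyclotomic_int, Polynomial.IsRoot, Polynomial.eval_map] at this
  have hζ' : Polynomial.aeval (e.inv z) (Polynomial.cyclotomic ℓ ℤ) = 0 := by
    rw [show (e.inv z : Γ(X, ⊤)) = e.inv.hom.toIntAlgHom z from rfl, Polynomial.aeval_algHom_apply, hroot,
      map_zero]
  exact EtLC12.MuConst.nonempty_mu_iso_const (X := X) (n := ℓ) (GalCd.natCast_isUnit E ℓ hℓE) (e.inv z) hζ'

/-- `H¹(μ_ℓ)` of the fraction field of a strictly henselian discrete valuation ring is cyclic. -/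
theorem exists_generator_H1_mu (T : Type u) [CommRing T] [IsDomain T] [IsDiscreteValuationRing T]
    [HenselianLocalRing T] [IsSepClosed (ResidueField T)] (L : Type u) [Field L] [Algebra T L] [IsFractionRing T L]
    (ℓ : ℕ) [hℓ : Fact ℓ.Prime] (hℓT : (ℓ : ResidueField T) ≠ 0) :
    ∃ x₀ : EtCoh.H (Spec (CommRingCat.of L)) (EtCoh.mu (Spec (CommRingCat.of L)) ℓ) 1,
      ∀ x, ∃ n : ℤ, x = n • x₀ := by
  have hℓL : (ℓ : L) ≠ 0 := fun h => hℓT (by
    have h0 : (ℓ : T) = 0 := IsFractionRing.injective T L (by rw [map_natCast, h, map_zero])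
    rw [← map_natCast (residue T), h0, map_zero])
  let X := Spec (CommRingCat.of L)
  let hT := EtCore.topIsTerminal X
  have hS := kummer_shortExact L ℓ hℓL
  let φ : EtCoh.H X (EtCoh.Gm X) 0 →+ EtCoh.H X (EtCoh.mu X ℓ) 1 :=
    AddMonoidHom.mk' (fun y => y.comp hS.extClass rfl) fun _ _ => Ext.add_comp _ _ _ _
  obtain ⟨π, hπ⟩ := IsDiscreteValuationRing.exists_irreducible T
  have hπ0 : algebraMap T L π ≠ 0 := (map_ne_zero_iff _ (IsFractionRing.injective T L)).2 hπ.ne_zero
  let ε := Sheaf.H.equiv₀ (EtCoh.Gm X) hT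
  refine ⟨φ (ε.symm (gmSect _ hπ0)), fun x => ?_⟩
  haveI := FieldH1.subsingleton_H1_Gm L
  obtain ⟨y, hy⟩ := Ext.covariant_sequence_exact₁ _ hS x
    (Subsingleton.elim (α := EtCoh.H X (EtCoh.Gm X) 1) _ _) (show 0 + 1 = 1 from rfl)
  let v : Lˣ := Units.map (Scheme.ΓSpecIso (CommRingCat.of L)).hom.hom.toMonoidHom
    (NormGm.un (U := EtCoh.top X) (ε y))
  obtain ⟨m, u, hu⟩ := exists_eq_unit_mul_zpow hπ (K := L) v.ne_zero
  obtain ⟨w, hw⟩ := exists_unit_pow_eq ℓ hℓT u
  have hw0 : algebraMap T L (w : T) ≠ 0 := (w.isUnit.map _).ne_zero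
  have key : ε y = ℓ • gmSect _ hw0 + m • gmSect _ hπ0 := by
    refine NormGm.un_injective _ ?_
    refine Units.map_injective (f := (Scheme.ΓSpecIso (CommRingCat.of L)).hom.hom.toMonoidHom)
      (Scheme.ΓSpecIso (CommRingCat.of L)).commRingCatIsoToRingEquiv.injective ?_
    let F := Units.map (Scheme.ΓSpecIso (CommRingCat.of L)).hom.hom.toMonoidHom
    show v = F (NormGm.un (U := EtCoh.top X) (gmSect _ hw0) ^ ℓ * NormGm.un (U := EtCoh.top X) (gmSect _ hπ0) ^ m)
    refine Eq.trans ?_ ((map_mul F _ _).trans (congrArg₂ (· * ·) (map_pow F _ _) (map_zpow F _ _))).symm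
    have hg : ∀ (a : L) (ha : a ≠ 0),
        Units.map (Scheme.ΓSpecIso (CommRingCat.of L)).hom.hom.toMonoidHom (NormGm.un (gmSect (K := L) a ha)) =
          Units.mk0 a ha := fun a ha => Units.ext (by
        show ((Scheme.ΓSpecIso (CommRingCat.of L)).inv ≫ (Scheme.ΓSpecIso (CommRingCat.of L)).hom) a = a
        rw [Iso.inv_hom_id]
        rfl)
    rw [hg, hg]
    refine Units.ext (hu.trans ?_)
    rw [Units.val_mul, Units.val_pow_eq_pow_val, Units.val_zpow_eq_zpow_val, Units.val_mk0, Units.val_mk0,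
      ← map_pow, ← Units.val_pow_eq_pow_val, hw]
  have hkill : ∀ z : EtCoh.H X (EtCoh.mu X ℓ) 1, ℓ • z = 0 := fun z => by
    rw [GalDual.nsmul_eq_comp, nsmul_id_mu, Ext.mk₀_zero, Ext.comp_zero]
  refine ⟨m, hy.symm.trans ?_⟩
  show φ y = _
  rw [show y = ε.symm (ε y) from (ε.symm_apply_apply y).symm, key, map_add, map_nsmul, map_zsmul,
    map_add, map_nsmul, map_zsmul, hkill, zero_add]

variable (R : Type u) [CommRing R] [IsDomain R] [IsDiscreteValuationRing R] [HenselianLocalRing R]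
  (K : Type u) [Field K] [Algebra R K] [IsFractionRing R K] (ℓ : ℕ) [hℓ : Fact ℓ.Prime]

/-- The lower bound at the base in the presence of a root of unity. -/
theorem subsingleton_H_residue_of_root (hℓR : (ℓ : ResidueField R) ≠ 0) {z : K} (hz : IsPrimitiveRoot z ℓ)
    (d : ℕ) (hd : Dix.CohDimLEAt (Spec (CommRingCat.of K)) ℓ (d + 1)) :
    Subsingleton (EtCoh.H (Spec (CommRingCat.of (ResidueField R)))
      (EtCoh.const (Spec (CommRingCat.of (ResidueField R))) (ZMod ℓ)) (d + 1)) := by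
  classical
  have hℓK : (ℓ : K) ≠ 0 := fun h => hℓR (by
    have h0 : (ℓ : R) = 0 := IsFractionRing.injective R K (by rw [map_natCast, h, map_zero])
    rw [← map_natCast (residue R), h0, map_zero])
  obtain ⟨T, _, _, _, _, _, _, L, _, _, _, _, hRL, hirr, hchar, -, hξ, he⟩ := exists_stalk_closed R K
  obtain ⟨c, hc, hinj⟩ := exists_obstruction K R ℓ hℓK (Or.inl hℓR) d hd T L hRL hirr
  let S := Spec (CommRingCat.of R)
  let ξ := Spec.map (CommRingCat.ofHom (residue T)) ≫ Spec.map (CommRingCat.ofHom (algebraMap R T))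
  let Φ := Scheme.pointSmallEtale ξ
  let Λ := EtCoh.const S (ZMod ℓ)
  let R1 := (EtCoh.Rpush (genPt R K) 1).obj (EtCoh.mu (Spec (CommRingCat.of K)) ℓ)
  -- the closed stalk of the target is cyclic of order dividing `ℓ`
  have hcyc : ∃ a₀ : (EtCoh.stalk ξ).obj R1, ℓ • a₀ = 0 ∧ ∀ a, ∃ n : ℤ, a = n • a₀ := by
    have hℓL : (ℓ : L) ≠ 0 := by
      rw [← map_natCast (algebraMap K L)]
      exact (_root_.map_ne_zero _).2 hℓK
    let π := Spec.map (CommRingCat.ofHom (algebraMap K L))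
    obtain ⟨iK⟩ := nonempty_mu_iso K ℓ hℓK hz
    obtain ⟨iL⟩ := nonempty_mu_iso L ℓ hℓL (hz.map_of_injective (algebraMap K L).injective)
    obtain ⟨e⟩ := he 1 (EtCoh.mu (Spec (CommRingCat.of K)) ℓ)
    let i := (EtCoh.pull π).mapIso iK ≪≫ EtCore.pullConst π (ZMod ℓ) ≪≫ iL.symm
    let e' := e.trans (((EtCoh.HF (Spec (CommRingCat.of L)) 1).mapIso i).addCommGroupIsoToAddEquiv)
    obtain ⟨x₀, hx₀⟩ := exists_generator_H1_mu T L ℓ (hchar ℓ hℓR)
    refine ⟨e'.symm x₀, ?_, fun a => ?_⟩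
    · rw [← map_nsmul]
      refine (congrArg _ ?_).trans (map_zero e'.symm)
      show ℓ • (x₀ : EtCoh.H _ (EtCoh.mu (Spec (CommRingCat.of L)) ℓ) 1) = 0
      rw [GalDual.nsmul_eq_comp, nsmul_id_mu, Ext.mk₀_zero, Ext.comp_zero]
    · obtain ⟨n, hn⟩ := hx₀ (e' a)
      exact ⟨n, e'.injective (hn.trans (((map_zsmul e' n _).trans
        (congrArg (n • ·) (e'.apply_symm_apply x₀))).symm))⟩
  obtain ⟨a₀, hℓa₀, hgen⟩ := hcyc
  -- hence the map is surjective on that stalk
  have hsurj : Function.Surjective ((EtCoh.stalk ξ).map c) := by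
    let C : S.Etaleᵒᵖ ⥤ AddCommGrpCat.{u + 1} :=
      (Functor.const S.Etaleᵒᵖ).obj (AddCommGrpCat.of (ULift.{u + 1} (ZMod ℓ)))
    let pt : Φ.fiber.obj (EtCoh.top S) := CategoryTheory.Over.homMk ξ (Category.comp_id _)
    let k : ULift.{u + 1} (ZMod ℓ) → (EtCoh.stalk ξ).obj Λ := fun m =>
      Φ.toPresheafFiber (EtCoh.top S) pt (sheafify S.smallEtaleTopology C)
        ((toSheafify S.smallEtaleTopology C).app (op (EtCoh.top S)) m)
    have hk : Function.Bijective k := EtFound.toSheafify_const_germ_bijective ξ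
      AddCommGrpCat.{u + 1} (AddCommGrpCat.of (ULift.{u + 1} (ZMod ℓ))) (EtCoh.top S) pt
    haveI : Fact (1 < ℓ) := ⟨hℓ.out.one_lt⟩
    have hk1 : k ⟨1⟩ ≠ 0 := fun h0 => by
      have hk0 : k ⟨0⟩ = 0 := by
        show k 0 = 0
        simp only [k, map_zero]
        rfl
      exact one_ne_zero (congrArg ULift.down (hk.1 (h0.trans hk0.symm)))
    obtain ⟨m, hm⟩ := hgen ((EtCoh.stalk ξ).map c (k ⟨1⟩))
    have hℓm : ¬ (ℓ : ℤ) ∣ m := by
      rintro ⟨q, rfl⟩
      refine hk1 (hinj _ (hm.trans ?_))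
      rw [mul_comm, mul_smul, natCast_zsmul, hℓa₀, smul_zero]
    obtain ⟨s, t, hst⟩ := ((Nat.prime_iff_prime_int.1 hℓ.out).coprime_iff_not_dvd.2 hℓm).symm
    intro a
    obtain ⟨n, rfl⟩ := hgen a
    refine ⟨(n * s) • k ⟨1⟩, (map_zsmul ((EtCoh.stalk ξ).map c).hom _ _).trans ?_⟩
    refine (congrArg ((n * s) • ·) hm).trans ?_
    conv_rhs => rw [← one_smul ℤ a₀, ← hst, add_smul, mul_smul t, natCast_zsmul, hℓa₀, smul_zero, add_zero]
    rw [smul_smul, smul_smul, mul_assoc]
  -- supports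
  have hclosed : ∀ s : S, s.asIdeal ≠ ⊥ → s = closedPoint R := fun s hs =>
    PrimeSpectrum.ext (IsLocalRing.eq_maximalIdeal (IsPrime.to_maximal_ideal hs))
  haveI : Epi c := by
    refine Preadditive.epi_of_isZero_cokernel _ (Supp.isZero_of_supp_eq_empty _
      (Set.eq_empty_iff_forall_notMem.2 fun s hsmem => ?_))
    by_cases hs : s.asIdeal = ⊥
    · exact subsingleton_stalk_generic R K s hs 0 _ (Supp.supp_epi (cokernel.π c) hsmem)
    · haveI : Subsingleton ((EtCoh.stalk ξ).obj (cokernel c)) := subsingleton_of_forall_eq 0 fun y => by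
        obtain ⟨a, rfl⟩ := (AddCommGrpCat.epi_iff_surjective ((EtCoh.stalk ξ).map (cokernel.π c))).1 inferInstance y
        obtain ⟨x, rfl⟩ := hsurj a
        rw [← ConcreteCategory.comp_apply, ← Functor.map_comp, cokernel.condition, Functor.map_zero]
        rfl
      have hne := notMem_supp_of_stalk (cokernel c) ξ this
      rw [hξ, ← hclosed s hs] at hne
      exact hne hsmem
  let N := kernel c
  let i := Spec.map (CommRingCat.ofHom (residue R))
  haveI := EtFound.pull_preservesFiniteLimits i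
  have hN : ∀ n : ℕ, Subsingleton (EtCoh.H S N n) := fun n => by
    have hz : IsZero ((EtCoh.pull i).obj N) := by
      refine Supp.isZero_of_supp_eq_empty _ (Set.eq_empty_iff_forall_notMem.2 fun x hx => ?_)
      haveI : Subsingleton ((EtCoh.stalk ξ).obj N) := subsingleton_of_forall_eq 0 fun y => by
        refine (AddCommGrpCat.mono_iff_injective ((EtCoh.stalk ξ).map (kernel.ι c))).1 inferInstance ?_
        rw [map_zero]
        refine hinj _ ?_
        rw [← ConcreteCategory.comp_apply, ← Functor.map_comp, kernel.condition, Functor.map_zero]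
        rfl
      have hne := notMem_supp_of_stalk N ξ this
      have hx' := Supp.supp_pull_subset i N hx
      rw [hξ] at hne
      refine hne ?_
      rw [Set.mem_preimage, show x = closedPoint (ResidueField R) from
        Subsingleton.elim (α := PrimeSpectrum (ResidueField R)) _ _] at hx'
      rwa [show i.base (closedPoint (ResidueField R)) = closedPoint R from
        IsLocalRing.comap_closedPoint (residue R)] at hx'
    haveI := Devissage.subsingleton_H_of_isZero _ hz n
    exact (S3073.result R N n).1.subsingleton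
  let T' := ShortComplex.mk (kernel.ι c) c (kernel.condition c)
  have hT' : T'.ShortExact := ShortComplex.ShortExact.mk'
    (ShortComplex.exact_of_f_is_kernel _ (kernelIsKernel _)) (inferInstanceAs (Mono (kernel.ι c))) ‹Epi c›
  haveI : Subsingleton (EtCoh.H S Λ (d + 1)) := subsingleton_of_forall_eq 0 fun x => by
    obtain ⟨y, hy⟩ := Ext.covariant_sequence_exact₂ _ hT' x (hc x)
    rw [← hy, Subsingleton.elim (α := EtCoh.H S N (d + 1)) y 0]
    exact Ext.zero_comp _ _ _ _ _
  have hbij := S3073.result R Λ (d + 1)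
  haveI : Subsingleton (EtCoh.H (Spec (CommRingCat.of (ResidueField R))) ((EtCoh.pull i).obj Λ) (d + 1)) :=
    hbij.2.subsingleton
  exact ExtVanish.ext_of_iso (EtCore.pullConst i (ZMod ℓ)) _ (d + 1) inferInstance

end Groth.Agent.Cd58
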