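import Groth.Agent.Cd58.Descent
import Mathlib.GroupTheory.IndexNormal

/-! `cd_ℓ K = cd_ℓ k + 1` for henselian discrete valuation rings. -/

set_option autoImplicit false
set_option linter.style.haveILetI false
set_option backward.isDefEq.respectTransparency.types false

universe u

open CategoryTheory CategoryTheory.Limits AlgebraicGeometry Opposite IsLocalRing

namespace Groth.Agent.Cd58

open Groth.Agent.CdLib Groth.Agent.DixBrauer

variable (R : Type u) [CommRing R] [IsDomain R] [IsDiscreteValuationRing R] [HenselianLocalRing R]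
  (K : Type u) [Field K] [Algebra R K] [IsFractionRing R K] (ℓ : ℕ) [hℓ : Fact ℓ.Prime]

/-- The tame case. -/
theorem subsingleton_H_extension_tame (hℓR : (ℓ : ResidueField R) ≠ 0) (d : ℕ)
    (hd : Dix.CohDimLEAt (Spec (CommRingCat.of K)) ℓ (d + 1)) (E : Type u) [Field E] [Algebra (ResidueField R) E]
    [FiniteDimensional (ResidueField R) E] [Algebra.IsSeparable (ResidueField R) E] :
    Subsingleton (EtCoh.H (Spec (CommRingCat.of E)) (EtCoh.const (Spec (CommRingCat.of E)) (ZMod ℓ)) (d + 1)) := by
  have hℓE : (ℓ : E) ≠ 0 := by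
    rw [← map_natCast (algebraMap (ResidueField R) E)]
    exact (_root_.map_ne_zero _).2 hℓR
  haveI : NeZero (ℓ : E) := ⟨hℓE⟩
  haveI : NeZero ℓ := ⟨hℓ.out.ne_zero⟩
  let E' := CyclotomicField ℓ E
  haveI : IsCyclotomicExtension {ℓ} E E' := CyclotomicField.isCyclotomicExtension ℓ E
  haveI : FiniteDimensional E E' := IsCyclotomicExtension.finiteDimensional {ℓ} E E'
  haveI : IsGalois E E' := IsCyclotomicExtension.isGalois {ℓ} E E'
  have hz := IsCyclotomicExtension.zeta_spec ℓ E E'
  haveI : FiniteDimensional (ResidueField R) E' := Module.Finite.trans E E'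
  haveI : Algebra.IsSeparable (ResidueField R) E' := Algebra.IsSeparable.trans (ResidueField R) E E'
  obtain ⟨B, _, _, _, _, _, _, L, _, _, _, _, _, e, hKL, -, -, he⟩ := exists_unramified R K E'
  have hℓB : (ℓ : ResidueField B) ≠ 0 := fun h => hℓE ((algebraMap E E').injective (by
    rw [map_natCast, ← map_natCast e, h, map_zero, map_zero]))
  -- the root of unity lifts
  obtain ⟨z₀, hz₀⟩ : ∃ z₀ : B, e (residue B z₀) = IsCyclotomicExtension.zeta ℓ E E' :=
    (e.surjective.comp residue_surjective) _
  have hev : ∀ b : B, ((Polynomial.X ^ ℓ - 1 : Polynomial B)).eval b = b ^ ℓ - 1 := fun b => by simp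
  obtain ⟨b, hb, hbb⟩ := HenselianLocalRing.is_henselian (Polynomial.X ^ ℓ - 1 : Polynomial B)
    (Polynomial.monic_X_pow_sub_C (1 : B) hℓ.out.ne_zero) z₀
    (by
      rw [hev, ← residue_eq_zero_iff, ← map_eq_zero_iff e e.injective, map_sub, map_sub, map_pow, map_pow, hz₀,
        hz.pow_eq_one, map_one, map_one, sub_self])
    (by
      rw [← residue_ne_zero_iff_isUnit, ← map_ne_zero_iff e e.injective]
      simp only [Polynomial.derivative_sub, Polynomial.derivative_X_pow, Polynomial.derivative_one, sub_zero,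
        Polynomial.eval_mul, Polynomial.eval_pow, Polynomial.eval_X, Polynomial.eval_C, Polynomial.eval_natCast, map_mul, map_pow, hz₀,
        map_natCast]
      refine mul_ne_zero ?_ (pow_ne_zero _ (hz.ne_zero hℓ.out.ne_zero))
      rw [← map_natCast (algebraMap E E')]
      exact (_root_.map_ne_zero _).2 hℓE)
  rw [Polynomial.IsRoot, hev, sub_eq_zero] at hb
  have hb1 : b ≠ 1 := fun h => hz.ne_one hℓ.out.one_lt (by
    rw [← hz₀]
    have h2 : residue B (b - z₀) = 0 := (residue_eq_zero_iff _).2 hbb
    rw [map_sub, sub_eq_zero, h, map_one] at h2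
    rw [← h2, map_one])
  have hord : orderOf b = ℓ := orderOf_eq_prime hb hb1
  have hzB : IsPrimitiveRoot b ℓ := hord ▸ IsPrimitiveRoot.orderOf b
  haveI := subsingleton_H_of_ringEquiv e (subsingleton_H_residue_of_root B L ℓ hℓB
    (hzB.map_of_injective (IsFractionRing.injective B L)) d (CdField.cohDimLEAt_of_isAlgebraic K L hd))
  -- descent
  refine subsingleton_of_forall_eq 0 fun x => ?_
  let π := GalDual.fieldMap E E'
  haveI := EtFound.pull_preservesFiniteLimits π
  have hdies : GalDual.Dies E E' x := (GalDual.dies_iff_Hpull E' x).2 (by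
    have := CdLib.ExtVanish.ext_of_iso (EtCore.pullConst π (ZMod ℓ)).symm (EtCoh.const _ ℤ) (d + 1) inferInstance
    exact @Subsingleton.elim _ this _ _)
  refine GalDual.eq_zero_of_coprime_nsmul (GalCd.nsmul_H_const E ℓ x) (hdies.finrank_nsmul E') ?_
  have hle : Module.finrank E E' < ℓ := by
    rw [← IsGalois.card_aut_eq_finrank]
    refine lt_of_le_of_lt (Nat.card_le_card_of_injective _ (hz.autToPow_injective E)) ?_
    rw [Nat.card_eq_fintype_card, ZMod.card_units_eq_totient, Nat.totient_prime hℓ.out]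
    exact Nat.sub_lt hℓ.out.pos one_pos
  exact hℓ.out.coprime_iff_not_dvd.2 fun h => (Nat.le_of_dvd Module.finrank_pos h).not_gt hle

/-- The wild case in degree one. -/
theorem subsingleton_H1_extension_wild (hℓK : (ℓ : K) ≠ 0)
    (hd : Dix.CohDimLEAt (Spec (CommRingCat.of K)) ℓ 1) (E : Type u) [Field E] [Algebra (ResidueField R) E]
    [FiniteDimensional (ResidueField R) E] [Algebra.IsSeparable (ResidueField R) E] :
    Subsingleton (EtCoh.H (Spec (CommRingCat.of E)) (EtCoh.const (Spec (CommRingCat.of E)) (ZMod ℓ)) 1) := by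
  classical
  haveI : NeZero ℓ := ⟨hℓ.out.ne_zero⟩
  refine subsingleton_of_forall_eq 0 fun x => ?_
  obtain ⟨L', _, _, _, _, hL'⟩ := GalDual.exists_dies x
  let M := IntermediateField.normalClosure E L' (SeparableClosure L')
  haveI : IsSepClosure E (SeparableClosure L') := ⟨inferInstance, Algebra.IsSeparable.trans E L' _⟩
  haveI : IsGalois E (SeparableClosure L') := IsSepClosure.isGalois
  let ι : L' →ₐ[E] M := (IsScalarTower.toAlgHom E L' (SeparableClosure L')).codRestrict M.toSubalgebra
    fun y => AlgHom.fieldRange_le_normalClosure (IsScalarTower.toAlgHom E L' (SeparableClosure L')) ⟨y, rfl⟩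
  have hM := hL'.of_algHom ι
  let P : Sylow ℓ (M ≃ₐ[E] M) := default
  rcases subsingleton_or_nontrivial (P : Subgroup (M ≃ₐ[E] M)) with hP | hP
  · refine GalDual.eq_zero_of_coprime_nsmul (GalCd.nsmul_H_const E ℓ x) (hM.finrank_nsmul M) ?_
    rw [← IsGalois.card_aut_eq_finrank, ← (P : Subgroup (M ≃ₐ[E] M)).index_mul_card,
      Nat.card_eq_one_iff_unique.2 ⟨hP, inferInstance⟩, mul_one]
    exact hℓ.out.coprime_iff_not_dvd.2 P.not_dvd_index
  · exfalso
    obtain ⟨n, hn, hcard⟩ := P.isPGroup'.nontrivial_iff_card.1 hP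
    obtain ⟨n, rfl⟩ : ∃ n', n = n' + 1 := ⟨n - 1, by omega⟩
    let E₁ := IntermediateField.fixedField (P : Subgroup (M ≃ₐ[E] M))
    haveI : IsGalois E₁ M := IsGalois.tower_top_of_isGalois E E₁ M
    have hG : Nat.card (M ≃ₐ[E₁] M) = ℓ ^ (n + 1) := by
      rw [IsGalois.card_aut_eq_finrank, IntermediateField.finrank_fixedField_eq_card, hcard]
    obtain ⟨H, hH⟩ := Sylow.exists_subgroup_card_pow_prime (G := M ≃ₐ[E₁] M) ℓ (n := n)
      (hG ▸ pow_dvd_pow ℓ n.le_succ)
    have hidx : H.index = ℓ := by
      have h := H.index_mul_card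
      rw [hH, hG, pow_succ'] at h
      exact Nat.eq_of_mul_eq_mul_right (pow_pos hℓ.out.pos n) h
    haveI : H.Normal := Subgroup.normal_of_index_eq_minFac_card (by
      rw [hidx, hG, Nat.pow_minFac n.succ_ne_zero, hℓ.out.minFac_eq])
    let F := IntermediateField.fixedField H
    haveI : IsGalois E₁ F := IsGalois.of_fixedField_normal_subgroup H
    have hF : Module.finrank E₁ F = ℓ := by
      rw [IntermediateField.finrank_eq_fixingSubgroup_index, IntermediateField.fixingSubgroup_fixedField, hidx]
    letI : Algebra (ResidueField R) E₁ := ((algebraMap E E₁).comp (algebraMap (ResidueField R) E)).toAlgebra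
    haveI : IsScalarTower (ResidueField R) E E₁ := IsScalarTower.of_algebraMap_eq fun _ => rfl
    haveI : FiniteDimensional (ResidueField R) E₁ := Module.Finite.trans E E₁
    haveI : Algebra.IsSeparable E E₁ := Algebra.isSeparable_tower_bot_of_isSeparable E E₁ M
    haveI : Algebra.IsSeparable (ResidueField R) E₁ := Algebra.IsSeparable.trans (ResidueField R) E E₁
    obtain ⟨B, _, _, _, _, _, _, L, _, _, _, _, _, e, hKL, -, -, he⟩ := exists_unramified R K E₁
    letI : Algebra (ResidueField B) F := ((algebraMap E₁ F).comp e.toRingHom).toAlgebra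
    haveI : IsGalois (ResidueField B) F := IsGalois.of_equiv_equiv (F := E₁) (E := F) (f := e.symm) (g := RingEquiv.refl F)
      (RingHom.ext fun a => congrArg (algebraMap E₁ F) (e.apply_symm_apply a))
    have hF' : Module.finrank (ResidueField B) F = ℓ := hF ▸ Algebra.finrank_eq_of_equiv_equiv e (RingEquiv.refl F)
      (RingHom.ext fun a => rfl)
    haveI : FiniteDimensional (ResidueField B) F := Module.finite_of_finrank_pos (by rw [hF']; exact hℓ.out.pos)
    have hℓL : (ℓ : L) ≠ 0 := by
      rw [← map_natCast (algebraMap K L)]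
      exact (_root_.map_ne_zero _).2 hℓK
    exact not_galois_of_cd_le_one B L ℓ hℓL (CdField.cohDimLEAt_of_isAlgebraic K L hd) F hF'

/-- The lower bound. -/
theorem cohDimLEAt_residue (hℓK : (ℓ : K) ≠ 0) (d : ℕ) (hd : Dix.CohDimLEAt (Spec (CommRingCat.of K)) ℓ (d + 1)) :
    Dix.CohDimLEAt (Spec (CommRingCat.of (ResidueField R))) ℓ d := by
  refine CdField.cohDimLEAt_of_const d fun E _ _ _ _ => ?_
  by_cases h : (ℓ : ResidueField R) = 0
  · cases d with
    | zero => exact subsingleton_H1_extension_wild R K ℓ hℓK hd E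
    | succ d =>
      let e : Γ(Spec (CommRingCat.of E), ⊤) ≅ CommRingCat.of E := Scheme.ΓSpecIso (CommRingCat.of E)
      haveI : CharP E ℓ := (CharP.charP_iff_prime_eq_zero hℓ.out).2 (by
        rw [← map_natCast (algebraMap (ResidueField R) E), h, map_zero])
      haveI : CharP Γ(Spec (CommRingCat.of E), ⊤) ℓ :=
        (RingHom.charP_iff e.inv.hom e.commRingCatIsoToRingEquiv.symm.injective ℓ).1 inferInstance
      exact S0103.result (Spec (CommRingCat.of E)) ℓ (d + 1 + 1) (by omega)
  · exact subsingleton_H_extension_tame R K ℓ h d hd E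

end Groth.Agent.Cd58
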