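import Groth.Agent.Cd58.DvrPush
import Groth.Agent.CdField.Henselian
import Groth.Agent.CdField.Trdeg
import Mathlib.RingTheory.DiscreteValuationRing.TFAE

/-! `cd_ℓ` of fields over henselian local rings dominating a discrete valuation ring. -/

set_option autoImplicit false
set_option linter.style.haveILetI false
set_option backward.isDefEq.respectTransparency.types false

universe u

open CategoryTheory CategoryTheory.Limits AlgebraicGeometry Opposite IsLocalRing

namespace Groth.Agent.Cd58

/-- `cd_ℓ L ≤ trdeg L - trdeg κ + 1` for a henselian local ring dominating a discrete valuation ring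
whose uniformizer is nonzero in `L`. -/
theorem cohDimLEAt_of_henselian_dvr (V K R L : Type u) [CommRing V] [IsDomain V] [IsDiscreteValuationRing V]
    [Field K] [Algebra V K] [IsFractionRing V K] [CommRing R] [HenselianLocalRing R] [Field L]
    [Algebra V R] [IsLocalHom (algebraMap V R)] [Algebra R L] [Algebra V L] [IsScalarTower V R L]
    [Algebra K L] [IsScalarTower V K L] [IsSepClosed (ResidueField R)] (ℓ : ℕ) [hℓ : Fact ℓ.Prime]
    (hℓV : IsUnit (ℓ : V)) (a b e : ℕ) (ha : Algebra.trdeg K L ≤ a)
    (hb : Algebra.trdeg (ResidueField V) (ResidueField R) = b) (he : a + 1 ≤ b + e) :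
    Dix.CohDimLEAt (Spec (CommRingCat.of L)) ℓ e := by
  classical
  let κ := ResidueField R
  obtain ⟨s, hs⟩ := exists_isTranscendenceBasis (ResidueField V) κ
  have hcard : Cardinal.mk s = b := hs.cardinalMk_eq_trdeg.trans hb
  haveI : Finite s := Cardinal.lt_aleph0_iff_finite.1 (hcard ▸ Cardinal.natCast_lt_aleph0)
  choose t ht using fun x : s => IsLocalRing.residue_surjective (x : κ)
  let φ : MvPolynomial s V →+* R := (MvPolynomial.aeval t).toRingHom
  let red : MvPolynomial s V →+* MvPolynomial s (ResidueField V) := MvPolynomial.map (residue V)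
  have hres : ∀ p, residue R (φ p) = MvPolynomial.aeval (R := ResidueField V) (fun x : s => (x : κ)) (red p) := by
    have h : (residue R).comp φ =
        ((MvPolynomial.aeval (R := ResidueField V) fun x : s => (x : κ)).toRingHom.comp red : MvPolynomial s V →+* κ) := by
      refine MvPolynomial.ringHom_ext (fun c => ?_) (fun x => ?_)
      · simp only [RingHom.comp_apply, AlgHom.toRingHom_eq_coe, RingHom.coe_coe, φ, red,
          MvPolynomial.aeval_C, MvPolynomial.map_C]
        exact (ResidueField.map_residue (algebraMap V R) c).symm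
      · simp only [RingHom.comp_apply, AlgHom.toRingHom_eq_coe, RingHom.coe_coe, φ, red,
          MvPolynomial.aeval_X, MvPolynomial.map_X]
        exact ht x
    exact fun p => DFunLike.congr_fun h p
  let P : Ideal (MvPolynomial s V) := RingHom.ker red
  haveI : P.IsPrime := RingHom.ker_isPrime _
  have hP : ∀ p, p ∈ P ↔ ¬ IsUnit (φ p) := fun p => by
    rw [← IsLocalRing.residue_ne_zero_iff_isUnit, not_not, hres, RingHom.mem_ker,
      ← map_zero (MvPolynomial.aeval (R := ResidueField V) fun x : s => (x : κ)), hs.1.eq_iff]
  -- the discrete valuation ring `V[T]_(π)`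
  let R' := Localization.AtPrime P
  haveI : IsDomain R' := IsLocalization.isDomain_of_atPrime R' P
  haveI : IsNoetherianRing R' := IsLocalization.isNoetherianRing P.primeCompl R' inferInstance
  obtain ⟨π, hπ⟩ := IsDiscreteValuationRing.exists_irreducible V
  have hPπ : P = Ideal.span {MvPolynomial.C π} := by
    rw [show P = RingHom.ker red from rfl, MvPolynomial.ker_map, IsLocalRing.ker_residue,
      hπ.maximalIdeal_eq, Ideal.map_span, Set.image_singleton]
  let π' : R' := algebraMap (MvPolynomial s V) R' (MvPolynomial.C π)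
  have hmax : maximalIdeal R' = Ideal.span {π'} := by
    rw [← Localization.AtPrime.map_eq_maximalIdeal]
    exact (congrArg (Ideal.map (algebraMap (MvPolynomial s V) R')) hPπ).trans
      (by rw [Ideal.map_span, Set.image_singleton])
  have hπ0 : π' ≠ 0 := fun h => hπ.ne_zero <| MvPolynomial.C_eq_zero.1 <|
    IsLocalization.injective R' P.primeCompl_le_nonZeroDivisors (h.trans (map_zero _).symm)
  haveI : IsDiscreteValuationRing R' := by
    have hp : (maximalIdeal R').IsPrincipal := ⟨⟨π', hmax⟩⟩
    haveI : IsPrincipalIdealRing R' :=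
      ((tfae_of_isNoetherianRing_of_isLocalRing_of_isDomain (R := R')).out 4 0).1 hp
    exact { not_a_field' := fun h => hπ0 (by rwa [hmax, Ideal.span_singleton_eq_bot] at h) }
  have hu : ∀ p : P.primeCompl, IsUnit (φ p) := fun p => not_not.1 fun h => p.2 ((hP _).2 h)
  let ψ : R' →+* R := IsLocalization.lift (S := R') hu
  have hψ : ∀ p, ψ (algebraMap (MvPolynomial s V) R' p) = φ p := IsLocalization.lift_eq hu
  haveI : IsLocalHom ψ := by
    refine ⟨fun x hx => ?_⟩
    obtain ⟨c, d, rfl⟩ := IsLocalization.exists_mk'_eq P.primeCompl x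
    refine IsLocalization.AtPrime.isUnit_mk'_iff R' P c d |>.2 fun hc => (hP c).1 hc ?_
    have : φ c = ψ (IsLocalization.mk' R' c d) * φ d := by
      rw [← hψ, ← hψ, ← map_mul, IsLocalization.mk'_spec]
    rw [this]
    exact hx.mul (hu d)
  -- its strict henselization
  let T := Groth.Agent.Hensel.StrictHenz R'
  have hlike := Groth.Agent.Hensel.isHenzLike_of_isStrictHenselization R' T
  haveI := hlike.faithfullyFlat
  obtain ⟨hTd, hTv⟩ := (S9262.result R' (Groth.Agent.Hensel.LocalHenz R') T).2.1 ⟨inferInstance, inferInstance⟩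
  haveI := hTd
  haveI := hTv
  haveI := Hensel.IsStrictHenselization.henselian (R := R') (S := T)
  have hsc := Hensel.IsStrictHenselization.isSepClosure (R := R') (S := T)
  haveI := hsc.sep_closed
  haveI := hsc.separable
  letI : Algebra (ResidueField R') κ := (ResidueField.map ψ).toAlgebra
  let τ : ResidueField T →ₐ[ResidueField R'] κ := IsSepClosed.lift
  obtain ⟨g, ⟨hg, -⟩, -⟩ := Hensel.IsStrictHenselization.universal (R := R') (S := T) R ψ τ.toRingHom
    (RingHom.ext fun z => τ.commutes z)
  have hgπ : algebraMap R L (g (algebraMap R' T π')) = algebraMap V L π := by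
    rw [show g (algebraMap R' T π') = ψ π' from DFunLike.congr_fun hg π', hψ,
      IsScalarTower.algebraMap_apply V R L]
    exact congrArg _ (MvPolynomial.aeval_C t π)
  have hinj : Function.Injective ((algebraMap R L).comp g) := by
    rw [RingHom.injective_iff_ker_eq_bot]
    by_contra hne
    haveI : (RingHom.ker ((algebraMap R L).comp g)).IsPrime := RingHom.ker_isPrime _
    have hm := IsLocalRing.eq_maximalIdeal (IsPrime.to_maximal_ideal hne)
    have h0 : algebraMap R' T π' ∈ RingHom.ker ((algebraMap R L).comp g) := by
      rw [hm, ← hlike.map_maximalIdeal]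
      exact Ideal.mem_map_of_mem _ (hmax ▸ Ideal.mem_span_singleton_self π')
    refine hπ.ne_zero (IsFractionRing.injective V K ((algebraMap K L).injective ?_))
    rw [← IsScalarTower.algebraMap_apply V K L, ← hgπ, map_zero, map_zero]
    exact h0
  let F := FractionRing T
  letI : Algebra F L := (IsFractionRing.lift (K := F) hinj).toAlgebra
  letI : Algebra V T := ((algebraMap R' T).comp ((algebraMap (MvPolynomial s V) R').comp MvPolynomial.C)).toAlgebra
  have hVF : ∀ c : V, algebraMap V F c = algebraMap T F (algebraMap V T c) :=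
    fun c => IsScalarTower.algebraMap_apply V T F c
  have hFL : ∀ x : MvPolynomial s V,
      algebraMap F L (algebraMap T F (algebraMap R' T (algebraMap _ R' x))) = algebraMap R L (φ x) := fun x => by
    refine (IsFractionRing.lift_algebraMap hinj _).trans (congrArg (algebraMap R L) ?_)
    rw [← hψ, ← hg]
    rfl
  have hVFL : ∀ c : V, algebraMap V L c = algebraMap F L (algebraMap V F c) := fun c =>
    (IsScalarTower.algebraMap_apply V R L c).trans
      ((congrArg (algebraMap R L) (MvPolynomial.aeval_C t c).symm).trans
        ((hFL (MvPolynomial.C c)).symm.trans (congrArg (algebraMap F L) (hVF c).symm)))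
  haveI : IsScalarTower V F L := IsScalarTower.of_algebraMap_eq hVFL
  have hTinj : Function.Injective ((algebraMap T F).comp
      ((algebraMap R' T).comp (algebraMap (MvPolynomial s V) R'))) :=
    (IsFractionRing.injective T F).comp ((FaithfulSMul.algebraMap_injective R' T).comp
      (IsLocalization.injective R' P.primeCompl_le_nonZeroDivisors))
  haveI : FaithfulSMul V F := (faithfulSMul_iff_algebraMap_injective _ _).2 fun c d h =>
    (hTinj.comp (MvPolynomial.C_injective _ _)) (((hVF c).symm.trans h).trans (hVF d))
  have hbF : (b : Cardinal.{u}) ≤ Algebra.trdeg V F := by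
    rw [← hcard]
    let Φ : MvPolynomial s V →ₐ[V] F :=
      { (algebraMap T F).comp ((algebraMap R' T).comp (algebraMap (MvPolynomial s V) R')) with
        commutes' := fun c => (hVF c).symm }
    exact (((MvPolynomial.algebraicIndependent_X s V).map' (f := Φ) hTinj)).cardinalMk_le_trdeg
  haveI : FaithfulSMul V L := (faithfulSMul_iff_algebraMap_injective _ _).2 (by
    rw [IsScalarTower.algebraMap_eq V K L]
    exact (algebraMap K L).injective.comp (IsFractionRing.injective V K))
  haveI : Algebra.IsAlgebraic V K := IsLocalization.isAlgebraic K (nonZeroDivisors V)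
  rw [← zero_add (Algebra.trdeg K L), ← trdeg_eq_zero (R := V) (A := K), trdeg_add_eq V K (A := L),
    ← trdeg_add_eq V F (A := L)] at ha
  have hF : Algebra.trdeg F L ≤ (e - 1 : ℕ) := by
    have h1 : (b : Cardinal.{u}) + Algebra.trdeg F L ≤ (b : Cardinal.{u}) + (e - 1 : ℕ) :=
      (add_le_add hbF le_rfl).trans (ha.trans (by exact_mod_cast (show a ≤ b + (e - 1) by omega)))
    rwa [add_comm, add_comm (b : Cardinal) ((e - 1 : ℕ) : Cardinal),
      Cardinal.add_le_add_iff_of_lt_aleph0 Cardinal.natCast_lt_aleph0] at h1
  have he1 : 1 ≤ e := by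
    have hba : (b : Cardinal.{u}) ≤ a := hbF.trans (le_self_add.trans ha)
    have : b ≤ a := by exact_mod_cast hba
    omega
  have hℓT : IsUnit (ℓ : T) := by
    have := hℓV.map (algebraMap V T)
    rwa [map_natCast] at this
  have hℓF : (ℓ : F) ≠ 0 := by
    rw [← map_natCast (algebraMap T F)]
    exact (hℓT.map _).ne_zero
  have hℓres : (ℓ : ResidueField T) ≠ 0 := by
    rw [← map_natCast (residue T)]
    exact (hℓT.map _).ne_zero
  have h := CdField.cohDimLEAt_add ℓ (e - 1) F L hF 1
    (cohDimLEAt_one_strict (R := T) (K := F) ℓ hℓF (Or.inl hℓres))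
  rwa [show 1 + (e - 1) = e by omega] at h

end Groth.Agent.Cd58
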