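import Groth.Agent.Cd58.Upper
import Groth.Agent.Cd58.ConstHom
import Groth.Agent.DixBrauer.NormGm
import Groth.Agent.CdField.Torsion

/-! The Kummer class of a uniformizer as a global section of `R¹j_* μ_ℓ`. -/

set_option autoImplicit false
set_option linter.style.haveILetI false
set_option backward.isDefEq.respectTransparency.types false

universe u

open CategoryTheory CategoryTheory.Limits CategoryTheory.Abelian AlgebraicGeometry Opposite IsLocalRing

namespace Groth.Agent.Cd58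

open Groth.Agent.CdLib Groth.Agent.EtFound Groth.Agent.DixBrauer

/-- The Kummer sequence. -/
noncomputable abbrev kummer (X : Scheme.{u}) (ℓ : ℕ) : ShortComplex (EtCoh.Ab X) :=
  ShortComplex.mk (EtCoh.muι X ℓ) (EtCoh.powMap X ℓ) (kernel.condition _)

theorem nsmul_id_mu (X : Scheme.{u}) (ℓ : ℕ) : ℓ • 𝟙 (EtCoh.mu X ℓ) = 0 := by
  show ℓ • 𝟙 (kernel (EtCoh.powMap X ℓ)) = 0
  rw [← cancel_mono (kernel.ι (EtCoh.powMap X ℓ)), zero_comp, Kummer.nsmul_id_comp, ← Kummer.comp_nsmul_id]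
  exact kernel.condition (EtCoh.powMap X ℓ)

theorem isPrimaryTorsion_mu (X : Scheme.{u}) (ℓ : ℕ) : Dix.IsPrimaryTorsion ℓ (EtCoh.mu X ℓ) :=
  CdField.isPrimaryTorsion_of_nsmul_eq_zero ℓ 1 (by rw [pow_one]; exact nsmul_id_mu X ℓ)

theorem kummer_shortExact (K : Type u) [Field K] (ℓ : ℕ) (hℓK : (ℓ : K) ≠ 0) :
    (kummer (Spec (CommRingCat.of K)) ℓ).ShortExact := by
  haveI : Epi (EtCoh.powMap (Spec (CommRingCat.of K)) ℓ) := S0108.result _ ℓ (GalCd.natCast_isUnit K ℓ hℓK)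
  exact ShortComplex.ShortExact.mk' (ShortComplex.exact_of_f_is_kernel _ (kernelIsKernel _))
    (inferInstanceAs (Mono (kernel.ι _))) this

theorem app_powMap {X : Scheme.{u}} {U : X.Etale} (ℓ : ℕ) (z : EtCoh.sect (EtCoh.Gm X) U) :
    ((EtCoh.powMap X ℓ).hom.app (op U)).hom z = ℓ • z :=
  GalDual.app_nsmul (EtCoh.Gm X) ℓ U z

theorem un_rs {X : Scheme.{u}} {U V : X.Etale} (g : V ⟶ U) (z : EtCoh.sect (EtCoh.Gm X) U) :
    (NormGm.un ((((EtCoh.Gm X).obj.map g.op).hom z) : EtCoh.sect (EtCoh.Gm X) V) : Γ(V.left, ⊤)) =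
      g.left.appTop (NormGm.un z : Γ(U.left, ⊤)) := rfl

variable {K : Type u} [Field K]

/-- The global section of `G_m` given by an element of the field. -/
noncomputable def gmSect (x : K) (hx : x ≠ 0) :
    EtCoh.sect (EtCoh.Gm (Spec (CommRingCat.of K))) (EtCoh.top (Spec (CommRingCat.of K))) :=
  NormGm.mk _ (Units.map (Scheme.ΓSpecIso (CommRingCat.of K)).inv.hom.toMonoidHom (Units.mk0 x hx))

/-- The value of a global section of `G_m` at a point with values in a field. -/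
theorem apply_gmSect {L : Type u} [Field L] [Algebra K L] {V : (Spec (CommRingCat.of K)).Etale}
    (t : V ⟶ EtCoh.top (Spec (CommRingCat.of K))) (h : Spec (CommRingCat.of L) ⟶ V.left)
    (hh : h ≫ V.hom = Spec.map (CommRingCat.ofHom (algebraMap K L))) (x : K) (hx : x ≠ 0) :
    (Scheme.ΓSpecIso (CommRingCat.of L)).hom (h.appTop
      (NormGm.un ((((EtCoh.Gm _).obj.map t.op).hom (gmSect x hx)) :
        EtCoh.sect (EtCoh.Gm (Spec (CommRingCat.of K))) V) : Γ(V.left, ⊤))) = algebraMap K L x := by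
  rw [un_rs]
  have ht : h ≫ t.left = Spec.map (CommRingCat.ofHom (algebraMap K L)) := by
    rw [← hh]
    refine congrArg (h ≫ ·) ?_
    exact (Category.comp_id t.left).symm.trans (MorphismProperty.Over.w t)
  show ((t.left.appTop ≫ h.appTop) ≫ (Scheme.ΓSpecIso (CommRingCat.of L)).hom)
    ((Scheme.ΓSpecIso (CommRingCat.of K)).inv x) = _
  rw [← Scheme.Hom.comp_appTop, ht]
  erw [Scheme.ΓSpecIso_naturality]
  show algebraMap K L ((Scheme.ΓSpecIso (CommRingCat.of K)).hom ((Scheme.ΓSpecIso (CommRingCat.of K)).inv x)) = _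
  rw [← ConcreteCategory.comp_apply, Iso.inv_hom_id]
  rfl

variable (R : Type u) [CommRing R] [IsDomain R] [IsDiscreteValuationRing R]
  (K) [Algebra R K] [IsFractionRing R K] (ℓ : ℕ) [hℓ : Fact ℓ.Prime]

include R in
/-- `cd_ℓ K ≠ 0`. -/
theorem not_cohDimLEAt_zero [HenselianLocalRing R] (hℓK : (ℓ : K) ≠ 0) : ¬ Dix.CohDimLEAt (Spec (CommRingCat.of K)) ℓ 0 := by
  intro h
  obtain ⟨π, hπ⟩ := IsDiscreteValuationRing.exists_irreducible R
  let X := Spec (CommRingCat.of K)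
  let hT := EtCore.topIsTerminal X
  have hπ0 : algebraMap R K π ≠ 0 := (map_ne_zero_iff _ (IsFractionRing.injective R K)).2 hπ.ne_zero
  obtain ⟨a, ha⟩ := Ext.covariant_sequence_exact₃ _ (kummer_shortExact K ℓ hℓK)
    ((Sheaf.H.equiv₀ (EtCoh.Gm X) hT).symm (gmSect _ hπ0)) (n₁ := 1) rfl
    ((h _ (isPrimaryTorsion_mu X ℓ) 1 one_pos).elim _ _)
  have h1 : ((EtCoh.powMap X ℓ).hom.app (op (EtCoh.top X))).hom (Sheaf.H.equiv₀ (EtCoh.Gm X) hT a) =
      gmSect _ hπ0 :=
    (Sheaf.H.equiv₀_naturality hT (EtCoh.powMap X ℓ) a).trans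
      ((congrArg (Sheaf.H.equiv₀ (EtCoh.Gm X) hT) ha).trans (AddEquiv.apply_symm_apply _ _))
  rw [app_powMap] at h1
  let e := (Scheme.ΓSpecIso (CommRingCat.of K)).hom.hom
  refine pow_ne_uniformizer hπ hℓ.out.one_lt.ne'
    (e (Units.val (NormGm.un (U := EtCoh.top X) (Sheaf.H.equiv₀ (EtCoh.Gm X) hT a)))) ?_
  rw [← map_pow]
  refine (congrArg (fun z : EtCoh.sect (EtCoh.Gm X) (EtCoh.top X) => e (Units.val (NormGm.un z))) h1).trans ?_
  show ((Scheme.ΓSpecIso (CommRingCat.of K)).inv ≫ (Scheme.ΓSpecIso (CommRingCat.of K)).hom) (algebraMap R K π) = _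
  rw [Iso.inv_hom_id]
  rfl

/-- A morphism `ℤ/ℓ → R¹j_* μ_ℓ` which kills cohomology and is injective on the closed stalk. -/
theorem exists_obstruction [HenselianLocalRing R] (hℓK : (ℓ : K) ≠ 0)
    (hcond : (ℓ : ResidueField R) ≠ 0 ∨ PerfectField (ResidueField R)) (d : ℕ)
    (hd : Dix.CohDimLEAt (Spec (CommRingCat.of K)) ℓ (d + 1))
    (T : Type u) [CommRing T] [IsDomain T] [IsDiscreteValuationRing T] [HenselianLocalRing T]
    [IsSepClosed (ResidueField T)] [Algebra R T] (L : Type u) [Field L] [Algebra T L] [IsFractionRing T L]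
    [Algebra K L] (hRL : ∀ r : R, algebraMap T L (algebraMap R T r) = algebraMap K L (algebraMap R K r))
    (hirr : ∀ π : R, Irreducible π → Irreducible (algebraMap R T π)) :
    ∃ c : EtCoh.const (Spec (CommRingCat.of R)) (ZMod ℓ) ⟶
        (EtCoh.Rpush (genPt R K) 1).obj (EtCoh.mu (Spec (CommRingCat.of K)) ℓ),
      (∀ x : EtCoh.H (Spec (CommRingCat.of R)) (EtCoh.const (Spec (CommRingCat.of R)) (ZMod ℓ)) (d + 1),
        x.comp (Ext.mk₀ c) (add_zero (d + 1)) = 0) ∧
      ∀ z, (EtCoh.stalk (Spec.map (CommRingCat.ofHom (residue T)) ≫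
        Spec.map (CommRingCat.ofHom (algebraMap R T)))).map c z = 0 → z = 0 := by
  let X := Spec (CommRingCat.of K)
  let S := Spec (CommRingCat.of R)
  let j := genPt R K
  haveI : QuasiCompact j := quasiCompact_of_compactSpace _
  haveI := EtFound.pull_preservesFiniteLimits j
  let Rj := EtCoh.push j
  haveI : Rj.IsRightAdjoint := (EtCoh.pullPushAdj j).isRightAdjoint
  haveI : PreservesFiniteLimits Rj := inferInstance
  letI := HasDerivedCategory.standard (EtCoh.Ab X)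
  letI := HasDerivedCategory.standard (EtCoh.Ab S)
  let hT := EtCore.topIsTerminal X
  let M := EtCoh.mu X ℓ
  have hT' : (kummer X ℓ).ShortExact := kummer_shortExact K ℓ hℓK
  -- the resolution by the coinduced sheaf
  let A := StalkVanish.coindSES M
  have hA : A.ShortExact := StalkVanish.coindSES_shortExact M
  have hI : ℓ • 𝟙 A.X₂ = 0 := by
    haveI := (EtCoh.pullPushAdj (SepLimit.σ K)).left_adjoint_additive
    haveI := (EtCoh.pullPushAdj (SepLimit.σ K)).right_adjoint_additive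
    show ℓ • 𝟙 ((EtCoh.push (SepLimit.σ K)).obj ((EtCoh.pull (SepLimit.σ K)).obj M)) = 0
    rw [← (EtCoh.push (SepLimit.σ K)).map_id, ← Functor.map_nsmul, ← (EtCoh.pull (SepLimit.σ K)).map_id,
      ← Functor.map_nsmul, nsmul_id_mu, Functor.map_zero, Functor.map_zero]
  have hQ : ℓ • 𝟙 A.X₃ = 0 := by
    haveI := hA.epi_g
    rw [← cancel_epi A.g, comp_zero, Kummer.comp_nsmul_id, ← Kummer.nsmul_id_comp, hI, zero_comp]
  have hI1 : ∀ n : ℕ, Subsingleton (EtCoh.H X A.X₂ (n + 1)) := fun n =>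
    ExtVanish.ext_of_iso ((CdField.pullIdIso X).app A.X₂) _ (n + 1)
      (SepAcyclic.subsingleton_H_pull_coind K (𝟙 X) (Spec.map_id _).symm ((EtCoh.pull (SepLimit.σ K)).obj M) n)
  -- the global section
  let P := pushout A.f (EtCoh.muι X ℓ)
  let sq : IsPushout A.f (EtCoh.muι X ℓ) (pushout.inl A.f (EtCoh.muι X ℓ)) (pushout.inr A.f (EtCoh.muι X ℓ)) :=
    IsPushout.of_hasPushout _ _
  let γ : P ⟶ A.X₃ := pushout.desc A.g 0 (by rw [A.zero, comp_zero])
  let β : P ⟶ EtCoh.Gm X := pushout.desc 0 (EtCoh.powMap X ℓ)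
    (by rw [comp_zero]; exact (kernel.condition (EtCoh.powMap X ℓ)).symm)
  have hQ' := shortExact_of_isPushout hA sq (q := γ) (pushout.inl_desc _ _ _) (pushout.inr_desc _ _ _)
  have hG' := shortExact_of_isPushout hT' sq.flip (q := β) (pushout.inr_desc _ _ _) (pushout.inl_desc _ _ _)
  obtain ⟨π, hπ⟩ := IsDiscreteValuationRing.exists_irreducible R
  have hπ0 : algebraMap R K π ≠ 0 := (map_ne_zero_iff _ (IsFractionRing.injective R K)).2 hπ.ne_zero
  obtain ⟨p₀, hp₀⟩ := Ext.covariant_sequence_exact₃ _ hG'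
    ((Sheaf.H.equiv₀ (EtCoh.Gm X) hT).symm (gmSect _ hπ0)) (n₁ := 1) rfl ((hI1 0).elim _ _)
  let p : EtCoh.sect P (EtCoh.top X) := Sheaf.H.equiv₀ P hT p₀
  have hp : (β.hom.app (op (EtCoh.top X))).hom p = gmSect _ hπ0 :=
    (Sheaf.H.equiv₀_naturality hT β p₀).trans
      ((congrArg (Sheaf.H.equiv₀ (EtCoh.Gm X) hT) hp₀).trans (AddEquiv.apply_symm_apply _ _))
  let r : (Rj.obj A.X₃).obj.obj (op (EtCoh.top S)) :=
    (A.X₃.obj.map (hT.from ((EtCoh.bc j).obj (EtCoh.top S))).op).hom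
      ((γ.hom.app (op (EtCoh.top X))).hom p)
  have hr : ℓ • r = 0 := by
    show ℓ • (r : A.X₃.obj.obj (op ((EtCoh.bc j).obj (EtCoh.top S)))) = 0
    refine (GalDual.app_nsmul A.X₃ ℓ _ _).symm.trans ?_
    rw [hQ]
    rfl
  -- the connecting morphism
  obtain ⟨δ, w₁, w₂, w₃, e₁, e₂, e₃⟩ := TriCat.exists_rightDerived_ses Rj hA 0
  let D : Rj.obj A.X₃ ⟶ (Rj.rightDerived 1).obj M := Rj.rightDerivedZeroIsoSelf.inv.app A.X₃ ≫ δ
  have hD : Rj.map A.g ≫ D = 0 := by
    rw [← Category.assoc, Rj.rightDerivedZeroIsoSelf.inv.naturality, Category.assoc]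
    exact (congrArg (Rj.rightDerivedZeroIsoSelf.inv.app A.X₂ ≫ ·) w₂).trans comp_zero
  have hexD : (ShortComplex.mk (Rj.map A.g) D hD).Exact := by
    refine ShortComplex.exact_of_iso ?_ e₂
    exact ShortComplex.isoMk (Rj.rightDerivedZeroIsoSelf.app A.X₂) (Rj.rightDerivedZeroIsoSelf.app A.X₃) (Iso.refl _)
      (Rj.rightDerivedZeroIsoSelf.hom.naturality A.g).symm
      (((Category.comp_id δ).trans (Category.id_comp δ).symm).trans (by simp [D])).symm
  refine ⟨constHom r hr ≫ D, fun x => ?_, fun z hz => ?_⟩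
  · -- the factorisation through a sheaf without cohomology
    haveI : Subsingleton (EtCoh.H S (Rj.obj A.X₃) (d + 1)) := by
      refine Devissage.subsingleton_H_push j A.X₃ (d + 1)
        (ExtVanish.ext₃ hA _ (d + 1) (hI1 d) (hd _ (isPrimaryTorsion_mu X ℓ) (d + 1 + 1) (by omega)))
        fun a b _ => Devissage.subsingleton_H_of_isZero _ ?_ a
      obtain ⟨δ', v₁, v₂, v₃, f₁, f₂, f₃⟩ := TriCat.exists_rightDerived_ses Rj hA (b + 1)
      haveI : Mono δ' := f₂.mono_g ((SepAcyclic.isZero_Rpush_coind j b _).eq_of_src _ _)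
      exact IsZero.of_mono δ' (isZero_Rpush R K ℓ hℓK hcond b _ (isPrimaryTorsion_mu X ℓ))
    rw [← Ext.mk₀_comp_mk₀, ← Ext.comp_assoc_of_second_deg_zero,
      Subsingleton.elim (α := EtCoh.H S (Rj.obj A.X₃) (d + 1)) (x.comp (Ext.mk₀ (constHom r hr)) (add_zero (d + 1))) 0,
      Ext.zero_comp]
  · -- injectivity at the closed point
    let tT := Spec.map (CommRingCat.ofHom (algebraMap R T))
    let ξ := Spec.map (CommRingCat.ofHom (residue T)) ≫ tT
    let Φ := Scheme.pointSmallEtale ξ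
    let pt : Φ.fiber.obj (EtCoh.top S) := CategoryTheory.Over.homMk ξ (Category.comp_id _)
    rw [Functor.map_comp, ConcreteCategory.comp_apply] at hz
    refine constHom_stalk_eq_zero r hr D ξ pt (fun h0 => ?_) z hz
    obtain ⟨y, hy⟩ := (ShortComplex.ab_exact_iff _).1
      ((EtFound.exact_iff_stalks _).1 hexD (ResidueField T) ξ) _ h0
    obtain ⟨V, v, i, rfl⟩ := Φ.toPresheafFiber_jointly_surjective y
    have hpt : Φ.fiber.map ((EtCore.topIsTerminal S).from V) v = pt := CategoryTheory.Over.OverMorphism.ext (by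
      show v.left ≫ ((EtCore.topIsTerminal S).from V).left = ξ
      rw [show ((EtCore.topIsTerminal S).from V).left = V.hom from
        (Category.comp_id _).symm.trans (MorphismProperty.Over.w _)]
      exact CategoryTheory.Over.w v)
    have h1 : Φ.toPresheafFiber V v (Rj.obj A.X₃).obj (((Rj.map A.g).hom.app (op V)).hom i) =
        Φ.toPresheafFiber V v (Rj.obj A.X₃).obj
          (((Rj.obj A.X₃).obj.map ((EtCore.topIsTerminal S).from V).op).hom r) := by
      refine (Φ.toPresheafFiber_naturality_apply (Rj.map A.g).hom V v i).symm.trans (hy.trans ?_)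
      rw [← hpt]
      exact (Φ.toPresheafFiber_w_apply _ v _ r).symm
    obtain ⟨W, f, w, hw, hfe⟩ := (Φ.toPresheafFiber_eq_iff' V v _ _).1 h1
    let Wη := (EtCoh.bc j).obj W
    let tW : Wη ⟶ EtCoh.top X := hT.from Wη
    let a : EtCoh.sect A.X₂ Wη := (A.X₂.obj.map ((EtCoh.bc j).map f).op).hom i
    let pW : EtCoh.sect P Wη := (P.obj.map tW.op).hom p
    have hag : (A.g.hom.app (op Wη)).hom a = (γ.hom.app (op Wη)).hom pW := by
      refine (GalCover.rs_nat A.g ((EtCoh.bc j).map f) i).symm.trans ?_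
      refine Eq.trans hfe ?_
      refine Eq.trans ?_ (GalCover.rs_nat γ tW p)
      refine (GalCover.rs_comp A.X₃ _ ((EtCoh.bc j).map f) _).trans ?_
      refine Eq.trans (congrArg (GalCover.rs A.X₃ ((EtCoh.bc j).map f ≫ _))
        (show (r : EtCoh.sect A.X₃ ((EtCoh.bc j).obj (EtCoh.top S))) =
          GalCover.rs A.X₃ (hT.from _) ((γ.hom.app (op (EtCoh.top X))).hom p) from rfl)) ?_
      refine (GalCover.rs_comp A.X₃ _ _ _).trans ?_
      exact congrArg (fun t => GalCover.rs A.X₃ t ((γ.hom.app (op (EtCoh.top X))).hom p)) (hT.hom_ext _ _)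
    let diff : EtCoh.sect P Wη := pW - ((pushout.inl A.f (EtCoh.muι X ℓ)).hom.app (op Wη)).hom a
    have hdiff : (γ.hom.app (op Wη)).hom diff = 0 := by
      rw [map_sub, ← hag, sub_eq_zero]
      exact (ConcreteCategory.congr_hom (congrArg (fun m : A.X₂ ⟶ A.X₃ => m.hom.app (op Wη))
        (pushout.inl_desc A.g 0 (by rw [A.zero, comp_zero]) : pushout.inl A.f (EtCoh.muι X ℓ) ≫ γ = A.g)) a).symm
    obtain ⟨b, hb⟩ := FieldH1.exact_sections hQ' Wη diff hdiff
    have hbπ : ℓ • b = ((EtCoh.Gm X).obj.map tW.op).hom (gmSect _ hπ0) := by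
      have h2 := congrArg (β.hom.app (op Wη)).hom hb
      rw [map_sub] at h2
      refine Eq.trans ?_ ((congrArg (GalCover.rs (EtCoh.Gm X) tW) hp.symm).trans (GalCover.rs_nat β tW p)).symm
      refine Eq.trans ?_ (h2.trans (sub_eq_self.2 ?_))
      · refine Eq.trans (app_powMap ℓ b).symm ?_
        exact (ConcreteCategory.congr_hom (congrArg (fun m : EtCoh.Gm X ⟶ EtCoh.Gm X => m.hom.app (op Wη))
          (pushout.inr_desc 0 (EtCoh.powMap X ℓ) _ : pushout.inr A.f (EtCoh.muι X ℓ) ≫ β = EtCoh.powMap X ℓ)) b).symm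
      · exact (ConcreteCategory.congr_hom (congrArg (fun m : A.X₂ ⟶ EtCoh.Gm X => m.hom.app (op Wη))
          (pushout.inl_desc 0 (EtCoh.powMap X ℓ) _ : pushout.inl A.f (EtCoh.muι X ℓ) ≫ β = 0)) a)
    -- the lift of the strict henselization
    haveI : AlgebraicGeometry.Etale W.hom := W.prop
    obtain ⟨l, ⟨hl, -⟩, -⟩ := EtaleStrictHens.existsUnique_lift T tT W.hom w.left (CategoryTheory.Over.w w)
    let h : Spec (CommRingCat.of L) ⟶ Wη.left :=
      pullback.lift (Spec.map (CommRingCat.ofHom (algebraMap T L)) ≫ l)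
        (Spec.map (CommRingCat.ofHom (algebraMap K L))) (by
          refine (Category.assoc _ _ _).trans ?_
          rw [hl]
          refine (Spec.map_comp _ _).symm.trans (Eq.trans ?_ (Spec.map_comp _ _))
          exact congrArg Spec.map (CommRingCat.hom_ext (RingHom.ext hRL)))
    let e : Γ(Wη.left, ⊤) →+* L := (h.appTop ≫ (Scheme.ΓSpecIso (CommRingCat.of L)).hom).hom
    refine pow_ne_uniformizer (K := L) (hirr π hπ) hℓ.out.one_lt.ne' (e (NormGm.un b : Γ(Wη.left, ⊤))) ?_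
    rw [← map_pow, hRL]
    refine Eq.trans ?_ (apply_gmSect tW h (pullback.lift_snd _ _ _) _ hπ0)
    exact congrArg (fun z : EtCoh.sect (EtCoh.Gm X) Wη => e (NormGm.un z : Γ(Wη.left, ⊤))) hbπ

end Groth.Agent.Cd58
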