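import Mathlib.Algebra.Order.Ring.Ordering.Basic
import Mathlib.Algebra.Order.Ring.Cone
import Mathlib.Algebra.Ring.SumsOfSquares
import Mathlib.Order.Zorn

/-! A field in which `-1` is not a sum of squares can be ordered. -/

set_option autoImplicit false

universe u

namespace Groth.Agent.Cd58

theorem exists_order_of_not_isSumSq {F : Type u} [Field F] (h : ¬ IsSumSq (-1 : F)) :
    ∃ _ : LinearOrder F, IsStrictOrderedRing F := by
  classical
  let P₀ : RingPreordering F :=
    { toSubsemiring := Subsemiring.sumSq F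
      mem_of_isSquare' := fun hx => by simpa using hx.isSumSq
      neg_one_notMem' := by simpa using h }
  obtain ⟨P, -, hP⟩ := zorn_le_nonempty_Ici₀ P₀ (fun c _ hc Q hQ => by
    refine ⟨{ carrier := ⋃ T ∈ c, (T : Set F)
              one_mem' := Set.mem_biUnion hQ (one_mem Q)
              zero_mem' := Set.mem_biUnion hQ (zero_mem Q)
              mul_mem' := ?_
              add_mem' := ?_
              mem_of_isSquare' := fun hx => Set.mem_biUnion hQ (Q.mem_of_isSquare hx)
              neg_one_notMem' := ?_ }, fun T hT z hz => Set.mem_biUnion hT hz⟩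
    · simp only [Set.mem_iUnion₂]
      rintro a b ⟨T, hT, ha⟩ ⟨U, hU, hb⟩
      rcases hc.total hT hU with hle | hle
      · exact ⟨U, hU, mul_mem (hle ha) hb⟩
      · exact ⟨T, hT, mul_mem ha (hle hb)⟩
    · simp only [Set.mem_iUnion₂]
      rintro a b ⟨T, hT, ha⟩ ⟨U, hU, hb⟩
      rcases hc.total hT hU with hle | hle
      · exact ⟨U, hU, add_mem (hle ha) hb⟩
      · exact ⟨T, hT, add_mem ha (hle hb)⟩
    · simp only [Set.mem_iUnion₂, not_exists]
      exact fun T _ hT => T.neg_one_notMem hT) P₀ le_rfl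
  have hmem : ∀ a : F, a ∈ P ∨ -a ∈ P := by
    intro a
    by_contra! hc
    obtain ⟨ha, hna⟩ := hc
    have hno : ∀ x ∈ P, ∀ y ∈ P, x + a * y ≠ -1 := by
      intro x hx y hy hxy
      rcases eq_or_ne y 0 with rfl | hy0
      · rw [mul_zero, add_zero] at hxy
        exact P.neg_one_notMem (hxy ▸ hx)
      · refine hna ?_
        have : -a = (1 + x) * y * y⁻¹ ^ 2 := by
          field_simp
          linear_combination -hxy
        rw [this]
        exact mul_mem (mul_mem (add_mem (one_mem P) hx) hy) (P.pow_two_mem _)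
    let P' : RingPreordering F :=
      { carrier := {z | ∃ x ∈ P, ∃ y ∈ P, z = x + a * y}
        one_mem' := ⟨1, one_mem P, 0, zero_mem P, by ring⟩
        zero_mem' := ⟨0, zero_mem P, 0, zero_mem P, by ring⟩
        mul_mem' := by
          rintro u v ⟨x, hx, y, hy, rfl⟩ ⟨x', hx', y', hy', rfl⟩
          exact ⟨x * x' + a * a * (y * y'), add_mem (mul_mem hx hx') (mul_mem (P.mul_self_mem a) (mul_mem hy hy')),
            x * y' + x' * y, add_mem (mul_mem hx hy') (mul_mem hx' hy), by ring⟩
        add_mem' := by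
          rintro u v ⟨x, hx, y, hy, rfl⟩ ⟨x', hx', y', hy', rfl⟩
          exact ⟨x + x', add_mem hx hx', y + y', add_mem hy hy', by ring⟩
        mem_of_isSquare' := fun {z} hz => ⟨z, P.mem_of_isSquare hz, 0, zero_mem P, by ring⟩
        neg_one_notMem' := fun ⟨x, hx, y, hy, he⟩ => hno x hx y hy he.symm }
    have hle : P ≤ P' := fun z hz => ⟨z, hz, 0, zero_mem P, by ring⟩
    exact ha (hP hle ⟨0, zero_mem P, 1, one_mem P, by ring⟩)
  let C : RingCone F :=
    { P.toSubsemiring with
      eq_zero_of_mem_of_neg_mem' := fun hz hz' => RingPreordering.eq_zero_of_mem_of_neg_mem hz hz' }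
  haveI : HasMemOrNegMem C := ⟨fun a => hmem a⟩
  letI : LinearOrder F := LinearOrder.mkOfAddGroupCone C
  haveI : IsOrderedRing F := IsOrderedRing.mkOfCone C
  exact ⟨inferInstance, IsOrderedRing.toIsStrictOrderedRing F⟩

end Groth.Agent.Cd58
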