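import Groth.Agent.Cd58.Serre
import Groth.Agent.Cd58.Obstruction
import Groth.Agent.Cd58.Lower
import Groth.Agent.CdField.Henselian
import Groth.Agent.CdField.Transfer
import Mathlib.FieldTheory.PrimitiveElement
import Mathlib.FieldTheory.IsAlgClosed.AlgebraicClosure

/-! An ordered field has infinite `2`-cohomological dimension. -/

set_option autoImplicit false
set_option linter.style.haveILetI false
set_option backward.isDefEq.respectTransparency.types false

universe u

open CategoryTheory CategoryTheory.Limits CategoryTheory.Abelian AlgebraicGeometry Opposite Polynomial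

namespace Groth.Agent.Cd58

open Groth.Agent.DixBrauer

section algebra

theorem isSumSq_map {R S : Type*} [Semiring R] [Semiring S] (f : R →+* S) {s : R} (h : IsSumSq s) :
    IsSumSq (f s) := by
  induction h with
  | zero => rw [map_zero]; exact IsSumSq.zero
  | sq_add a _ ih => rw [map_add, map_mul]; exact IsSumSq.sq_add _ ih

variable {F : Type u} [Field F]

theorem exists_lift_isSumSq (f : F[X]) (hf : f.Monic) (hdeg : 0 < f.natDegree) {s : AdjoinRoot f} (h : IsSumSq s) :
    ∃ q : F[X], IsSumSq q ∧ AdjoinRoot.mk f q = s ∧ (q = 0 ∨ q.natDegree ≤ 2 * (f.natDegree - 1)) := by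
  induction h with
  | zero => exact ⟨0, IsSumSq.zero, map_zero _, Or.inl rfl⟩
  | sq_add a _ ih =>
    obtain ⟨q, hq, rfl, hd⟩ := ih
    obtain ⟨g, rfl⟩ := AdjoinRoot.mk_surjective a
    refine ⟨g %ₘ f * (g %ₘ f) + q, IsSumSq.sq_add _ hq, ?_, Or.inr ?_⟩
    · have hg : AdjoinRoot.mk f (g %ₘ f) = AdjoinRoot.mk f g :=
        AdjoinRoot.mk_eq_mk.2 ⟨-(g /ₘ f), by linear_combination (modByMonic_add_div g f)⟩
      rw [map_add, map_mul, hg]
    · have hlt := natDegree_modByMonic_lt g hf (fun h1 => hdeg.ne' (by rw [h1, natDegree_one]))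
      refine (natDegree_add_le _ _).trans (max_le (natDegree_mul_le.trans (by omega)) ?_)
      rcases hd with rfl | hd
      · simp
      · exact hd

theorem even_natDegree_of_isSumSq [LinearOrder F] [IsStrictOrderedRing F] {q : F[X]} (h : IsSumSq q) :
    Even q.natDegree ∧ 0 ≤ q.leadingCoeff := by
  induction h with
  | zero => simp
  | @sq_add g r _ ih =>
    obtain ⟨he, hl⟩ := ih
    rcases eq_or_ne g 0 with rfl | hg
    · simpa using ⟨he, hl⟩
    rcases eq_or_ne r 0 with rfl | hr
    · rw [add_zero, natDegree_mul hg hg, leadingCoeff_mul]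
      exact ⟨⟨_, rfl⟩, mul_self_nonneg _⟩
    rcases lt_trichotomy (g * g).degree r.degree with h1 | h1 | h1
    · rw [natDegree_eq_of_degree_eq (degree_add_eq_right_of_degree_lt h1), leadingCoeff_add_of_degree_lt h1]
      exact ⟨he, hl⟩
    · have hne : (g * g).leadingCoeff + r.leadingCoeff ≠ 0 := by
        rw [leadingCoeff_mul]
        exact (add_pos_of_pos_of_nonneg (mul_self_pos.2 (leadingCoeff_ne_zero.2 hg)) hl).ne'
      rw [natDegree_eq_of_degree_eq ((degree_add_eq_of_leadingCoeff_add_ne_zero hne).trans (by rw [h1, max_self])),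
        leadingCoeff_add_of_degree_eq h1 hne, leadingCoeff_mul, natDegree_mul hg hg]
      exact ⟨⟨_, rfl⟩, add_nonneg (mul_self_nonneg _) hl⟩
    · rw [natDegree_eq_of_degree_eq (degree_add_eq_left_of_degree_lt h1), leadingCoeff_add_of_degree_lt' h1,
        natDegree_mul hg hg, leadingCoeff_mul]
      exact ⟨⟨_, rfl⟩, mul_self_nonneg _⟩

theorem exists_irreducible_odd : ∀ (n : ℕ) (h : F[X]), h.natDegree = n → h ≠ 0 → Odd n →
    ∃ g : F[X], Irreducible g ∧ g.Monic ∧ g ∣ h ∧ Odd g.natDegree := by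
  intro n
  induction n using Nat.strong_induction_on with
  | _ n ih =>
    intro h hn h0 hodd
    obtain ⟨g, hg, hirr, hdvd⟩ := exists_monic_irreducible_factor h (fun hu => by
      rw [natDegree_eq_zero_of_isUnit hu] at hn
      exact absurd (hn ▸ hodd) (by simp))
    rcases Nat.even_or_odd g.natDegree with he | ho
    · obtain ⟨r, rfl⟩ := hdvd
      rw [mul_ne_zero_iff] at h0
      rw [natDegree_mul h0.1 h0.2] at hn
      have hr : Odd r.natDegree := by
        rw [← hn] at hodd
        exact Nat.not_even_iff_odd.1 fun hr => Nat.not_even_iff_odd.2 hodd (he.add hr)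
      obtain ⟨g', hg', hm', hd', ho'⟩ := ih r.natDegree (by
        have := Irreducible.natDegree_pos hirr
        omega) r rfl h0.2 hr
      exact ⟨g', hg', hm', hd'.trans (dvd_mul_left _ _), ho'⟩
    · exact ⟨g, hirr, hg, hdvd, ho⟩

/-- Orderings extend to extensions of odd degree. -/
theorem not_isSumSq_adjoinRoot_odd [LinearOrder F] [IsStrictOrderedRing F] :
    ∀ (n : ℕ) (f : F[X]), f.natDegree = n → Odd n → f.Monic → ¬ IsSumSq (-1 : AdjoinRoot f) := by
  intro n
  induction n using Nat.strong_induction_on with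
  | _ n ih =>
    intro f hn hodd hf h
    have hpos : 0 < f.natDegree := hn ▸ hodd.pos
    obtain ⟨q, hq, hqf, hdeg⟩ := exists_lift_isSumSq f hf hpos h
    obtain ⟨r, hr⟩ : f ∣ q + 1 := by
      rw [← AdjoinRoot.mk_eq_zero, map_add, hqf, map_one, neg_add_cancel]
    have hs : IsSumSq (1 * 1 + q) := IsSumSq.sq_add 1 hq
    rw [one_mul, add_comm, hr] at hs
    obtain ⟨heven, -⟩ := even_natDegree_of_isSumSq hs
    rcases eq_or_ne r 0 with rfl | hr0
    · rw [mul_zero] at hr
      have : q = -1 := eq_neg_of_add_eq_zero_left hr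
      obtain ⟨-, hl⟩ := even_natDegree_of_isSumSq hq
      rw [this, leadingCoeff_neg, leadingCoeff_one] at hl
      linarith
    rw [natDegree_mul hf.ne_zero hr0, hn] at heven
    have hrodd : Odd r.natDegree := by
      rcases Nat.even_or_odd r.natDegree with he | ho
      · exact absurd heven (Nat.not_even_iff_odd.2 (hodd.add_even he))
      · exact ho
    have hrn : r.natDegree < n := by
      have h1 : (q + 1).natDegree ≤ 2 * (f.natDegree - 1) := by
        refine (natDegree_add_le _ _).trans (max_le ?_ (by simp))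
        rcases hdeg with rfl | hd
        · simp
        · exact hd
      rw [hr, natDegree_mul hf.ne_zero hr0] at h1
      omega
    obtain ⟨g, hg, hgm, hgr, hgodd⟩ := exists_irreducible_odd _ r rfl hr0 hrodd
    refine ih g.natDegree ((natDegree_le_of_dvd hgr hr0).trans_lt hrn) g rfl hgodd hgm ?_
    have hq1 : AdjoinRoot.mk g q = -1 := by
      refine eq_neg_of_add_eq_zero_left ?_
      rw [← map_one (AdjoinRoot.mk g), ← map_add, hr, AdjoinRoot.mk_eq_zero]
      exact hgr.trans (dvd_mul_left _ _)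
    exact hq1 ▸ isSumSq_map (AdjoinRoot.mk g) hq

/-- Orderings extend to square roots of positive elements. -/
theorem not_isSumSq_adjoinRoot_sq [LinearOrder F] [IsStrictOrderedRing F] (a : F) (ha : 0 ≤ a)
    (hns : ∀ b : F, b ^ 2 ≠ a) : ¬ IsSumSq (-1 : AdjoinRoot (X ^ 2 - C a)) := by
  intro h
  have key : ∀ s : AdjoinRoot (X ^ 2 - C a), IsSumSq s →
      ∃ u v : F, 0 ≤ u ∧ s = AdjoinRoot.mk _ (C u + C v * X) := by
    intro s hs
    induction hs with
    | zero => exact ⟨0, 0, le_rfl, by simp⟩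
    | sq_add z _ ih =>
      obtain ⟨u, v, hu, rfl⟩ := ih
      obtain ⟨g, rfl⟩ := AdjoinRoot.mk_surjective z
      have hm : (X ^ 2 - C a).Monic := monic_X_pow_sub_C a two_ne_zero
      have hlt := natDegree_modByMonic_lt g hm fun h1 => by
        simpa [natDegree_X_pow_sub_C] using congrArg natDegree h1
      rw [natDegree_X_pow_sub_C] at hlt
      have hg : AdjoinRoot.mk (X ^ 2 - C a) g = AdjoinRoot.mk _ (g %ₘ (X ^ 2 - C a)) :=
        AdjoinRoot.mk_eq_mk.2 ⟨g /ₘ (X ^ 2 - C a), by linear_combination -(modByMonic_add_div g (X ^ 2 - C a))⟩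
      have hr := eq_X_add_C_of_natDegree_le_one (p := g %ₘ (X ^ 2 - C a)) (by omega)
      set p := (g %ₘ (X ^ 2 - C a)).coeff 1
      set r := (g %ₘ (X ^ 2 - C a)).coeff 0
      refine ⟨r ^ 2 + p ^ 2 * a + u, 2 * r * p + v, by positivity, ?_⟩
      rw [hg, hr, ← map_mul, ← map_add, AdjoinRoot.mk_eq_mk]
      refine ⟨C (p ^ 2), ?_⟩
      simp only [map_add, map_mul, map_pow, map_ofNat]
      ring
  obtain ⟨u, v, hu, huv⟩ := key _ h
  have h1 : (X ^ 2 - C a) ∣ C (u + 1) + C v * X := by
    rw [← AdjoinRoot.mk_eq_zero, map_add C, add_right_comm, map_add, ← huv, map_one, map_one, neg_add_cancel]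
  have h2 : C (u + 1) + C v * X = 0 :=
    eq_zero_of_dvd_of_natDegree_lt h1 (by
      rw [natDegree_X_pow_sub_C]
      exact Nat.lt_succ_of_le ((natDegree_add_le _ _).trans (max_le (by simp) (natDegree_C_mul_le _ _ |>.trans natDegree_X_le))))
  have h3 := congrArg (fun q => coeff q 0) h2
  simp at h3
  linarith

end algebra

/-- Square roots in a quadratic extension by `√-1`. -/
theorem exists_sq_eq_adjoin_i {R : Type*} [Field R] [LinearOrder R] [IsStrictOrderedRing R] {C : Type*} [Field C]
    [Algebra R C] (i : C) (hi : i ^ 2 = -1) (hsq : ∀ a : R, 0 ≤ a → ∃ b : R, b ^ 2 = a) (a b : R) :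
    ∃ w : C, w ^ 2 = algebraMap R C a + algebraMap R C b * i := by
  obtain ⟨c, hc⟩ := hsq (a ^ 2 + b ^ 2) (by positivity)
  let r := |c|
  have hr : r ^ 2 = a ^ 2 + b ^ 2 := (sq_abs c).trans hc
  have hra : 0 ≤ (r + a) / 2 := by
    have : |a| ≤ r := abs_le_of_sq_le_sq (by nlinarith) (abs_nonneg c)
    have := neg_abs_le a
    linarith
  obtain ⟨p, hp⟩ := hsq _ hra
  rcases eq_or_ne p 0 with rfl | hp0
  · have hr' : r = -a := by rw [zero_pow two_ne_zero, eq_comm, div_eq_zero_iff] at hp; simp at hp; linarith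
    have hb : b = 0 := by
      have : b ^ 2 = 0 := by rw [hr'] at hr; linear_combination -hr
      exact pow_eq_zero_iff two_ne_zero |>.1 this
    obtain ⟨s, hs⟩ := hsq (-a) (by rw [← hr']; exact abs_nonneg c)
    refine ⟨algebraMap R C s * i, ?_⟩
    rw [hb, map_zero, zero_mul, add_zero, mul_pow, ← map_pow, hs, hi, map_neg]
    ring
  · refine ⟨algebraMap R C p + algebraMap R C (b / (2 * p)) * i, ?_⟩
    have h1 : p ^ 2 - (b / (2 * p)) ^ 2 = a := by
      field_simp
      rw [show (p : R) ^ 4 = (p ^ 2) ^ 2 by ring, hp]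
      linear_combination hr
    have h2 : 2 * p * (b / (2 * p)) = b := by field_simp
    have e1 := congrArg (algebraMap R C) h1
    have e2 := congrArg (algebraMap R C) h2
    simp only [map_sub, map_mul, map_pow, map_ofNat] at e1 e2
    linear_combination e1 + i * e2 + (algebraMap R C (b / (2 * p))) ^ 2 * hi

/-- Algebraic closedness of a quadratic extension of a field without odd extensions. -/
theorem isAlgClosed_of_sq {R C : Type u} [Field R] [CharZero R] [Field C] [Algebra R C]
    (hdeg : Module.finrank R C = 2)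
    (hodd : ∀ f : R[X], Irreducible f → f.Monic → Odd f.natDegree → f.natDegree = 1)
    (hsqC : ∀ z : C, ∃ w : C, w ^ 2 = z) : IsAlgClosed C := by
  classical
  haveI : FiniteDimensional R C := Module.finite_of_finrank_eq_succ hdeg
  haveI : CharZero C := charZero_of_injective_algebraMap (algebraMap R C).injective
  refine IsAlgClosed.of_exists_root _ fun f hfm hfi => ?_
  haveI : Fact (Irreducible f) := ⟨hfi⟩
  let M₀ := AdjoinRoot f
  haveI : FiniteDimensional C M₀ := (AdjoinRoot.powerBasis hfi.ne_zero).finite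
  haveI : FiniteDimensional R M₀ := Module.Finite.trans C M₀
  let Ω' := AlgebraicClosure M₀
  let M := IntermediateField.normalClosure R M₀ Ω'
  haveI : IsGalois R M := ⟨⟩
  let P : Sylow 2 (M ≃ₐ[R] M) := default
  let E := IntermediateField.fixedField (P : Subgroup (M ≃ₐ[R] M))
  have hE : Module.finrank R E = 1 := by
    obtain ⟨α, hα⟩ := Field.exists_primitive_element R E
    have hαi : IsIntegral R α := Algebra.IsIntegral.isIntegral α
    rw [← IntermediateField.finrank_top' (F := R) (E := E), ← hα, IntermediateField.adjoin.finrank hαi]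
    refine hodd _ (minpoly.irreducible hαi) (minpoly.monic hαi) ?_
    rw [← IntermediateField.adjoin.finrank hαi, hα, IntermediateField.finrank_top',
      IntermediateField.finrank_eq_fixingSubgroup_index, IntermediateField.fixingSubgroup_fixedField]
    exact Nat.odd_iff.2 (Nat.two_dvd_ne_zero.1 P.not_dvd_index)
  obtain ⟨n, hn⟩ := IsPGroup.iff_card.1 P.isPGroup'
  have hM : Module.finrank R M = 2 ^ n := by
    rw [← Module.finrank_mul_finrank R E M, hE, one_mul, IntermediateField.finrank_fixedField_eq_card, hn]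
  let ι₀ : M₀ →ₐ[R] M := (IsScalarTower.toAlgHom R M₀ Ω').codRestrict M.toSubalgebra
    fun x => AlgHom.fieldRange_le_normalClosure (IsScalarTower.toAlgHom R M₀ Ω') ⟨x, rfl⟩
  letI : Algebra C M := ((ι₀.restrictScalars R).toRingHom.comp (algebraMap C M₀)).toAlgebra
  haveI : IsScalarTower R C M := IsScalarTower.of_algebraMap_eq fun x => by
    show _ = ι₀ (algebraMap C M₀ (algebraMap R C x))
    rw [← IsScalarTower.algebraMap_apply, ι₀.commutes]
  haveI : IsGalois C M := IsGalois.tower_top_of_isGalois R C M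
  haveI : FiniteDimensional C M := Module.Finite.of_restrictScalars_finite R C M
  have hCM := Module.finrank_mul_finrank R C M
  rw [hdeg, hM] at hCM
  have hCM1 : Module.finrank C M = 1 := by
    by_contra hne
    obtain ⟨m, -, hm⟩ := (Nat.dvd_prime_pow Nat.prime_two).1 ⟨2, (hCM.symm.trans (mul_comm _ _))⟩
    obtain ⟨m, rfl⟩ : ∃ m', m = m' + 1 := Nat.exists_eq_add_one_of_ne_zero fun h => hne (by rw [hm, h, pow_zero])
    obtain ⟨H, hH⟩ := Sylow.exists_subgroup_card_pow_prime (G := M ≃ₐ[C] M) 2 (n := m)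
      (by rw [IsGalois.card_aut_eq_finrank, hm]; exact ⟨2, pow_succ 2 m⟩)
    let L := IntermediateField.fixedField H
    have hL : Module.finrank C L = 2 := by
      have h1 := Module.finrank_mul_finrank C L M
      rw [IntermediateField.finrank_fixedField_eq_card, hH, hm, pow_succ'] at h1
      exact Nat.eq_of_mul_eq_mul_right (pow_pos two_pos m) h1
    haveI : H.Normal := Subgroup.normal_of_index_eq_two (by
      have h1 := H.card_mul_index
      rw [hH, IsGalois.card_aut_eq_finrank, hm, pow_succ] at h1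
      exact Nat.eq_of_mul_eq_mul_left (pow_pos two_pos m) h1)
    haveI : IsGalois C L := IsGalois.of_fixedField_normal_subgroup H
    haveI : IsCyclic (L ≃ₐ[C] L) := isCyclic_of_prime_card (p := 2) (by rw [IsGalois.card_aut_eq_finrank, hL])
    obtain ⟨α, ⟨a, ha⟩, hα⟩ := exists_root_adjoin_eq_top_of_isCyclic C L
      ⟨-1, (mem_primitiveRoots Module.finrank_pos).2 (by
        rw [hL]; exact IsPrimitiveRoot.neg_one 0 (by norm_num))⟩
    rw [hL] at ha
    obtain ⟨w, hw⟩ := hsqC a
    have hαmem : α ∈ (⊥ : IntermediateField C L) := by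
      have h1 : (α - algebraMap C L w) * (α + algebraMap C L w) = 0 := by
        rw [← hw, map_pow] at ha
        linear_combination -ha
      rcases mul_eq_zero.1 h1 with h2 | h2
      · rw [sub_eq_zero] at h2; exact h2 ▸ IntermediateField.algebraMap_mem _ w
      · rw [add_eq_zero_iff_eq_neg] at h2; exact h2 ▸ neg_mem (IntermediateField.algebraMap_mem _ w)
    have hbot : (⊥ : IntermediateField C L) = ⊤ := top_unique (hα ▸ IntermediateField.adjoin_simple_le_iff.2 hαmem)
    have := IntermediateField.finrank_bot (F := C) (E := L)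
    rw [hbot, IntermediateField.finrank_top', hL] at this
    omega
  let f₀ : M₀ →ₐ[C] M := { ι₀.toRingHom with commutes' := fun _ => rfl }
  have hle := LinearMap.finrank_le_finrank_of_injective (f := f₀.toLinearMap) f₀.toRingHom.injective
  rw [hCM1, (AdjoinRoot.powerBasis hfi.ne_zero).finrank, AdjoinRoot.powerBasis_dim] at hle
  exact exists_root_of_degree_eq_one (by
    rw [degree_eq_natDegree hfi.ne_zero]
    exact_mod_cast le_antisymm hle hfi.natDegree_pos)


section cohomology

/-- Vanishing of `H¹(μ_ℓ)` makes every element an `ℓ`-th power. -/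
theorem exists_pow_eq_of_subsingleton_H1 (K : Type u) [Field K] (ℓ : ℕ) (hℓK : (ℓ : K) ≠ 0)
    (h : Subsingleton (EtCoh.H (Spec (CommRingCat.of K)) (EtCoh.mu (Spec (CommRingCat.of K)) ℓ) 1))
    (x : K) (hx : x ≠ 0) : ∃ y : K, y ^ ℓ = x := by
  let X := Spec (CommRingCat.of K)
  let hT := EtCore.topIsTerminal X
  obtain ⟨a, ha⟩ := Ext.covariant_sequence_exact₃ _ (kummer_shortExact K ℓ hℓK)
    ((Sheaf.H.equiv₀ (EtCoh.Gm X) hT).symm (gmSect _ hx)) (n₁ := 1) rfl (h.elim _ _)
  have h1 : ((EtCoh.powMap X ℓ).hom.app (op (EtCoh.top X))).hom (Sheaf.H.equiv₀ (EtCoh.Gm X) hT a) =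
      gmSect _ hx :=
    (Sheaf.H.equiv₀_naturality hT (EtCoh.powMap X ℓ) a).trans
      ((congrArg (Sheaf.H.equiv₀ (EtCoh.Gm X) hT) ha).trans (AddEquiv.apply_symm_apply _ _))
  rw [app_powMap] at h1
  let e := (Scheme.ΓSpecIso (CommRingCat.of K)).hom.hom
  refine ⟨e (Units.val (NormGm.un (U := EtCoh.top X) (Sheaf.H.equiv₀ (EtCoh.Gm X) hT a))), ?_⟩
  rw [← map_pow]
  refine (congrArg (fun z : EtCoh.sect (EtCoh.Gm X) (EtCoh.top X) => e (Units.val (NormGm.un z))) h1).trans ?_
  show ((Scheme.ΓSpecIso (CommRingCat.of K)).inv ≫ (Scheme.ΓSpecIso (CommRingCat.of K)).hom) x = _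
  rw [Iso.inv_hom_id]
  rfl

/-- With finite cohomological dimension, acyclicity of a cyclic extension descends. -/
theorem Van.of_cyclic_zero {ℓ d : ℕ} (E L : Type u) [Field E] [Field L] [Algebra E L] [FiniteDimensional E L]
    [IsGalois E L] [IsCyclic (L ≃ₐ[E] L)] (hd : Van ℓ d E) (hL : Van ℓ 0 L) : Van ℓ 0 E := by
  obtain ⟨σ, hσ⟩ := IsCyclic.exists_generator (α := L ≃ₐ[E] L)
  let Y := EtCoh.const (Spec (CommRingCat.of E)) (ZMod ℓ)
  have hP : ∀ q, 0 < q → Subsingleton (Ext (CohTriv.P (K := E) L) Y q) := fun q hq =>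
    subsingleton_ext_P_of_H E L (hL q hq)
  suffices ∀ m q, 0 < q → d < q + 2 * m → Subsingleton (Ext (CohTriv.P (K := E) E) Y q) by
    intro q hq
    haveI := this (d + 1) q hq (by omega)
    exact subsingleton_of_forall_eq 0 fun x => GalDual.Dies.eq_zero (Subsingleton.elim
      (α := Ext (CohTriv.P (K := E) E) Y q) _ _)
  intro m
  induction m with
  | zero => exact fun q _ hq => subsingleton_ext_P_of_H E E (hd q (by omega))
  | succ m ih =>
    intro q hq hdq
    have hA := shortExact_seqA E L σ hσ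
    have hB := shortExact_seqB E L
    have h2 := ih (q + 2) (by omega) (by omega)
    have low : ∀ x : Ext (seqB E L).X₃ Y (q + 1), x = 0 := fun x => by
      haveI := hP (q + 1) (by omega)
      obtain ⟨y, hy⟩ := Ext.contravariant_sequence_exact₁ hA Y x (n₁ := q + 2) (by omega) (h2.elim _ _)
      rw [← hy, Subsingleton.elim y 0, Ext.comp_zero]
    haveI := hP q hq
    refine subsingleton_of_forall_eq 0 fun x => ?_
    obtain ⟨y, hy⟩ := Ext.contravariant_sequence_exact₁ hB Y x (n₁ := q + 1) (by omega) (low _)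
    rw [← hy, Subsingleton.elim y 0, Ext.comp_zero]

end cohomology

/-- The `2`-cohomological dimension of a real field is infinite. -/
theorem not_cohDimLEAt_two_of_ordered (k : Type u) [Field k] (hk : ¬ IsSumSq (-1 : k)) (d : ℕ) :
    ¬ Dix.CohDimLEAt (Spec (CommRingCat.of k)) 2 d := by
  classical
  intro hd
  haveI : Fact (Nat.Prime 2) := ⟨Nat.prime_two⟩
  haveI : CharZero k := by
    obtain ⟨o, ho⟩ := exists_order_of_not_isSumSq hk
    letI := o
    haveI := ho
    infer_instance
  let Ω := AlgebraicClosure k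
  let S : Set (IntermediateField k Ω) := {F | ¬ IsSumSq (-1 : F)}
  have hbot : (⊥ : IntermediateField k Ω) ∈ S := fun h => hk (by
    have := isSumSq_map (IntermediateField.botEquiv k Ω).toRingHom h
    simpa using this)
  obtain ⟨R, -, hRmax⟩ := zorn_le_nonempty₀ S (fun c hcS hc F hF => by
    refine ⟨sSup c, ?_, fun T hT => le_sSup hT⟩
    intro h
    have hdir : DirectedOn (· ≤ ·) c := hc.directedOn
    have hlift : ∀ s : ↥(sSup c), IsSumSq s → ∃ T ∈ c, ∃ t : T, IsSumSq t ∧ (t : Ω) = (s : Ω) := by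
      intro s hs
      induction hs with
      | zero => exact ⟨F, hF, 0, IsSumSq.zero, rfl⟩
      | sq_add a _ ih =>
        obtain ⟨T, hT, t, ht, hts⟩ := ih
        have ha : (a : Ω) ∈ sSup c := a.2
        haveI : Nonempty c := ⟨⟨F, hF⟩⟩
        replace ha := (sSup_eq_iSup' c).le ha
        rw [← SetLike.mem_coe, IntermediateField.coe_iSup_of_directed hdir.directed_val, Set.mem_iUnion] at ha
        obtain ⟨⟨U, hU⟩, haU⟩ := ha
        rcases hc.total hT hU with hle | hle
        · refine ⟨U, hU, ⟨a, haU⟩ * ⟨a, haU⟩ + IntermediateField.inclusion hle t,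
            IsSumSq.sq_add _ (isSumSq_map (IntermediateField.inclusion hle).toRingHom ht), ?_⟩
          simp [← hts]
        · refine ⟨T, hT, ⟨a, hle haU⟩ * ⟨a, hle haU⟩ + t, IsSumSq.sq_add _ ht, ?_⟩
          simp [← hts]
    obtain ⟨T, hT, t, ht, hts⟩ := hlift _ h
    refine hcS hT ?_
    convert ht using 1
    exact Subtype.ext (by simp [hts])) ⊥ hbot
  have hR : ¬ IsSumSq (-1 : R) := hRmax.1
  obtain ⟨o, ho⟩ := exists_order_of_not_isSumSq hR
  letI := o
  haveI := ho
  have hmax : ∀ (f : R[X]) [Fact (Irreducible f)], ¬ IsSumSq (-1 : AdjoinRoot f) → f.natDegree = 1 := by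
    intro f _ hf
    have hf0 : f ≠ 0 := (Fact.out : Irreducible f).ne_zero
    obtain ⟨z, hz⟩ := IsAlgClosed.exists_aeval_eq_zero Ω f (by
      rw [degree_eq_natDegree hf0]
      exact_mod_cast (Fact.out : Irreducible f).natDegree_pos.ne')
    let φ : AdjoinRoot f →ₐ[R] Ω := AdjoinRoot.liftAlgHom f (Algebra.ofId R Ω) z (by rw [aeval_def] at hz; exact hz)
    let T : IntermediateField k Ω := (φ.restrictScalars k).fieldRange
    have hRT : R ≤ T := fun x hx => ⟨algebraMap R _ ⟨x, hx⟩, φ.commutes _⟩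
    have hT : T ∈ S := fun h => hf (by
      let e : AdjoinRoot f ≃+* T := RingEquiv.ofBijective (φ.restrictScalars k).rangeRestrict.toRingHom
        ⟨fun a b hab => φ.toRingHom.injective (congrArg Subtype.val hab), fun ⟨y, a, ha⟩ => ⟨a, Subtype.ext ha⟩⟩
      have := isSumSq_map e.symm.toRingHom h
      simpa using this)
    have hzR : z ∈ R := by
      have : z ∈ T := ⟨AdjoinRoot.root f, show φ (AdjoinRoot.root f) = z by simp [φ]⟩
      exact hRmax.2 hT hRT this
    refine natDegree_eq_of_degree_eq_some (degree_eq_one_of_irreducible_of_root Fact.out (x := ⟨z, hzR⟩) ?_)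
    have : algebraMap R Ω (f.eval ⟨z, hzR⟩) = 0 := by
      rw [← aeval_algebraMap_apply_eq_algebraMap_eval]
      exact hz
    exact (algebraMap R Ω).injective (this.trans (map_zero _).symm)
  have hsq : ∀ a : R, 0 ≤ a → ∃ b : R, b ^ 2 = a := by
    intro a ha
    by_contra hns
    push Not at hns
    haveI : Fact (Irreducible (X ^ 2 - C a)) := ⟨X_pow_sub_C_irreducible_of_prime Nat.prime_two hns⟩
    have := hmax _ (not_isSumSq_adjoinRoot_sq a ha hns)
    rw [natDegree_X_pow_sub_C] at this
    omega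
  have hodd : ∀ f : R[X], Irreducible f → f.Monic → Odd f.natDegree → f.natDegree = 1 := fun f hi hm ho =>
    haveI : Fact (Irreducible f) := ⟨hi⟩
    hmax f (not_isSumSq_adjoinRoot_odd _ f rfl ho hm)
  -- the extension by `√-1`
  have hns : ∀ b : R, b ^ 2 ≠ -1 := fun b hb => by nlinarith [sq_nonneg b]
  haveI : Fact (Irreducible (X ^ 2 - C (-1 : R))) := ⟨X_pow_sub_C_irreducible_of_prime Nat.prime_two hns⟩
  let Cf := AdjoinRoot (X ^ 2 - C (-1 : R))
  let pb := AdjoinRoot.powerBasis (K := R) (X_pow_sub_C_ne_zero two_pos (-1 : R))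
  haveI : FiniteDimensional R Cf := pb.finite
  haveI : CharZero R := inferInstance
  haveI : Algebra.IsSeparable R Cf := inferInstance
  have hdeg : Module.finrank R Cf = 2 := by
    rw [pb.finrank, AdjoinRoot.powerBasis_dim, natDegree_X_pow_sub_C]
  haveI : IsGalois R Cf := by
    have htop : IntermediateField.adjoin R {AdjoinRoot.root (X ^ 2 - C (-1 : R))} = ⊤ :=
      IntermediateField.adjoin_eq_top_of_algebra _ _ (AdjoinRoot.adjoinRoot_eq_top)
    have hK : (primitiveRoots (Module.finrank R Cf) R).Nonempty :=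
      ⟨-1, (mem_primitiveRoots Module.finrank_pos).2 (by rw [hdeg]; exact IsPrimitiveRoot.neg_one 0 (by norm_num))⟩
    have hmem : (AdjoinRoot.root (X ^ 2 - C (-1 : R))) ^ Module.finrank R Cf = algebraMap R Cf (-1) := by
      have h0 := AdjoinRoot.eval₂_root (X ^ 2 - C (-1 : R))
      rw [eval₂_sub, eval₂_X_pow, eval₂_C, sub_eq_zero] at h0
      rw [hdeg]; exact h0
    haveI := isSplittingField_X_pow_sub_C_of_root_adjoin_eq_top hK hmem htop
    exact isGalois_of_isSplittingField_X_pow_sub_C hK (irreducible_X_pow_sub_C_of_root_adjoin_eq_top hmem htop) Cf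
  let i : Cf := AdjoinRoot.root (X ^ 2 - C (-1 : R))
  have hi : i ^ 2 = -1 := by
    have h0 := AdjoinRoot.eval₂_root (X ^ 2 - C (-1 : R))
    rw [eval₂_sub, eval₂_X_pow, eval₂_C, sub_eq_zero] at h0
    rw [h0, map_neg, map_one]
  have hsqC : ∀ z : Cf, ∃ w : Cf, w ^ 2 = z := by
    intro z
    obtain ⟨q, rfl⟩ := AdjoinRoot.mk_surjective z
    obtain ⟨a, b, hab⟩ : ∃ a b : R, AdjoinRoot.mk (X ^ 2 - C (-1 : R)) q = algebraMap R Cf a + algebraMap R Cf b * i := by
      refine ⟨(q %ₘ (X ^ 2 - C (-1))).coeff 0, (q %ₘ (X ^ 2 - C (-1))).coeff 1, ?_⟩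
      have hg : AdjoinRoot.mk (X ^ 2 - C (-1 : R)) q = AdjoinRoot.mk _ (q %ₘ (X ^ 2 - C (-1))) :=
        AdjoinRoot.mk_eq_mk.2 ⟨q /ₘ (X ^ 2 - C (-1)), by linear_combination -(modByMonic_add_div q (X ^ 2 - C (-1 : R)))⟩
      have hlt := natDegree_modByMonic_lt q (monic_X_pow_sub_C (-1 : R) two_ne_zero) fun h1 => by
        have := congrArg natDegree h1
        rw [natDegree_X_pow_sub_C, natDegree_one] at this
        omega
      rw [natDegree_X_pow_sub_C] at hlt
      rw [hg, eq_X_add_C_of_natDegree_le_one (p := q %ₘ (X ^ 2 - C (-1))) (by omega)]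
      simp only [map_add, map_mul, AdjoinRoot.mk_C, AdjoinRoot.mk_X, coeff_add, coeff_C_mul, coeff_X_one,
        coeff_X_zero, coeff_C, mul_one, mul_zero, zero_add, if_pos, one_ne_zero, if_false, add_zero]
      exact add_comm _ _
    rw [hab]
    exact exists_sq_eq_adjoin_i i hi hsq a b
  haveI : IsAlgClosed Cf := isAlgClosed_of_sq hdeg hodd hsqC
  -- cohomology
  haveI : NeZero 2 := ⟨two_ne_zero⟩
  have hdR : Van 2 d R := Van.of_cd (CdField.cohDimLEAt_of_isAlgebraic k R hd)
  have hC : Van 2 0 Cf := Van.of_cd (CdField.cohDimLEAt_zero Cf 2)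
  haveI : IsCyclic (Cf ≃ₐ[R] Cf) := isCyclic_of_prime_card (p := 2) (by rw [IsGalois.card_aut_eq_finrank, hdeg])
  have h2R : ((2 : ℕ) : R) ≠ 0 := by norm_num
  obtain ⟨iso⟩ := nonempty_mu_iso R 2 h2R (z := -1) (IsPrimitiveRoot.neg_one 0 (by norm_num))
  obtain ⟨y, hy⟩ := exists_pow_eq_of_subsingleton_H1 R 2 h2R
    (CdLib.ExtVanish.ext_of_iso iso.symm _ 1 (Van.of_cyclic_zero R Cf hdR hC 1 one_pos)) (-1) (by norm_num)
  exact hns y hy

end Groth.Agent.Cd58
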