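import Groth.Agent.Cd58.Embedding
import Groth.Agent.Cd58.Orderable
import Groth.Agent.CdField.Basic
import Groth.Agent.CdField.Transfer
import Mathlib.GroupTheory.IndexNormal
import Mathlib.FieldTheory.Galois.GaloisClosure

/-! Serre's theorem: finite extensions do not decrease the cohomological dimension. -/

set_option autoImplicit false
set_option linter.style.haveILetI false
set_option backward.isDefEq.respectTransparency.types false

universe u

open CategoryTheory AlgebraicGeometry IntermediateField

namespace Groth.Agent.Cd58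

variable {ℓ d : ℕ} [hℓ : Fact ℓ.Prime]

/-- Descent along Galois extensions of `ℓ`-power degree in the presence of the `ℓ²`-th roots of unity. -/
theorem Van.of_pGroup : ∀ (n : ℕ) (F M : Type u) [Field F] [Field M] [Algebra F M] [FiniteDimensional F M]
    [IsGalois F M], Module.finrank F M = ℓ ^ n → (∃ ω : F, IsPrimitiveRoot ω (ℓ ^ 2)) → Van ℓ d M → Van ℓ d F := by
  intro n
  induction n with
  | zero =>
    intro F M _ _ _ _ _ hn _ h
    haveI : NeZero ℓ := ⟨hℓ.out.ne_zero⟩
    exact Van.of_coprime F M (by rw [hn, pow_zero]; exact Nat.coprime_one_right ℓ) h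
  | succ n ih =>
    intro F M _ _ _ _ _ hn hω h
    haveI : NeZero ℓ := ⟨hℓ.out.ne_zero⟩
    obtain ⟨H, hH⟩ := Sylow.exists_subgroup_card_pow_prime (G := M ≃ₐ[F] M) ℓ (n := n)
      (by rw [IsGalois.card_aut_eq_finrank, hn]; exact ⟨ℓ, pow_succ ℓ n⟩)
    have hidx : H.index = ℓ := by
      have h1 := H.card_mul_index
      rw [hH, IsGalois.card_aut_eq_finrank, hn, pow_succ] at h1
      exact Nat.eq_of_mul_eq_mul_left (pow_pos hℓ.out.pos n) h1
    haveI : H.Normal := Subgroup.normal_of_index_eq_minFac_card (by
      rw [hidx, IsGalois.card_aut_eq_finrank, hn, Nat.Prime.pow_minFac hℓ.out n.succ_ne_zero])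
    let L := fixedField H
    haveI : IsGalois F L := IsGalois.of_fixedField_normal_subgroup H
    haveI : IsGalois L M := IsGalois.tower_top_of_isGalois F L M
    haveI : Algebra.IsSeparable F L := Algebra.isSeparable_tower_bot_of_isSeparable F L M
    have hLM : Module.finrank L M = ℓ ^ n := by rw [finrank_fixedField_eq_card, hH]
    have hFL : Module.finrank F L = ℓ := by
      have h1 := Module.finrank_mul_finrank F L M
      rw [hLM, hn, pow_succ'] at h1
      exact Nat.eq_of_mul_eq_mul_right (pow_pos hℓ.out.pos n) h1
    obtain ⟨ω, hω⟩ := hω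
    have hωL : ∃ ω : L, IsPrimitiveRoot ω (ℓ ^ 2) := ⟨_, hω.map_of_injective (algebraMap F L).injective⟩
    exact Van.of_kummer F L hFL ω hω (ih L M hLM hωL h)

/-- Descent along Galois extensions in the presence of the `ℓ²`-th roots of unity. -/
theorem Van.of_galois (E M : Type u) [Field E] [Field M] [Algebra E M] [FiniteDimensional E M] [IsGalois E M]
    (hω : ∃ ω : E, IsPrimitiveRoot ω (ℓ ^ 2)) (h : Van ℓ d M) : Van ℓ d E := by
  haveI : NeZero ℓ := ⟨hℓ.out.ne_zero⟩
  let P : Sylow ℓ (M ≃ₐ[E] M) := default
  let F := fixedField (P : Subgroup (M ≃ₐ[E] M))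
  haveI : IsGalois F M := IsGalois.tower_top_of_isGalois E F M
  haveI : Algebra.IsSeparable E F := Algebra.isSeparable_tower_bot_of_isSeparable E F M
  obtain ⟨n, hn⟩ := IsPGroup.iff_card.1 P.isPGroup'
  have hFM : Module.finrank F M = ℓ ^ n := by rw [finrank_fixedField_eq_card, hn]
  have hEF : ℓ.Coprime (Module.finrank E F) := by
    rw [finrank_eq_fixingSubgroup_index, fixingSubgroup_fixedField]
    exact hℓ.out.coprime_iff_not_dvd.2 P.not_dvd_index
  obtain ⟨ω, hω⟩ := hω
  exact Van.of_coprime E F hEF (Van.of_pGroup n F M hFM ⟨_, hω.map_of_injective (algebraMap E F).injective⟩ h)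

theorem exists_list_sq {F : Type u} [Semiring F] {s : F} (h : IsSumSq s) :
    ∃ l : List F, (l.map fun a => a * a).sum = s := by
  induction h with
  | zero => exact ⟨[], rfl⟩
  | sq_add a _ ih =>
    obtain ⟨l, rfl⟩ := ih
    exact ⟨a :: l, rfl⟩

/-- Serre's theorem: a finite extension of a field that cannot be ordered (or `ℓ` odd) has the same
cohomological dimension; here the inequality that is not formal. -/
theorem cohDimLEAt_of_finite (k k' : Type u) [Field k] [Field k'] [Algebra k k'] [FiniteDimensional k k']
    (hℓk : (ℓ : k) ≠ 0) (hord : ℓ ≠ 2 ∨ IsSumSq (-1 : k))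
    (h : Dix.CohDimLEAt (Spec (CommRingCat.of k')) ℓ d) : Dix.CohDimLEAt (Spec (CommRingCat.of k)) ℓ d := by
  classical
  haveI : NeZero ℓ := ⟨hℓ.out.ne_zero⟩
  let ks := separableClosure k k'
  haveI : IsPurelyInseparable ks k' := separableClosure.isPurelyInseparable k k'
  replace h : Dix.CohDimLEAt (Spec (CommRingCat.of ks)) ℓ d := CdField.cohDimLEAt_of_purelyInseparable ks k' h
  -- fields containing the `ℓ²`-th roots of unity
  have roots : ∀ (E : Type u) [Field E] [Algebra k E] [FiniteDimensional k E] [Algebra.IsSeparable k E],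
      (∃ ω : E, IsPrimitiveRoot ω (ℓ ^ 2)) → Van ℓ d E := by
    intro E _ _ _ _ hω
    let Ω := SeparableClosure E
    let ι : ks →ₐ[k] Ω := IsSepClosed.lift
    let M := FiniteGaloisIntermediateField.adjoin E (Set.range fun i => ι (Module.finBasis k ks i))
    have hmem : ∀ x, ι x ∈ M.toIntermediateField := fun x => by
      rw [← (Module.finBasis k ks).sum_repr x, map_sum]
      refine sum_mem fun i _ => ?_
      rw [map_smul, ← algebraMap_smul E]
      exact M.toIntermediateField.smul_mem (FiniteGaloisIntermediateField.subset_adjoin E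
        (Set.range fun i => ι (Module.finBasis k ks i)) ⟨i, rfl⟩)
    letI : Algebra ks M := (ι.toRingHom.codRestrict M.toIntermediateField hmem).toAlgebra
    haveI : IsScalarTower k ks M := IsScalarTower.of_algebraMap_eq fun c => Subtype.ext (ι.commutes c).symm
    haveI : FiniteDimensional k M := Module.Finite.trans E M
    haveI : Algebra.IsAlgebraic ks M := Algebra.IsAlgebraic.tower_top (K := k) ks
    exact Van.of_galois E M hω (Van.of_cd (CdField.cohDimLEAt_of_isAlgebraic ks M h))
  have transfer : ∀ (E L : Type u) [Field E] [Field L] [Algebra k E] [FiniteDimensional k E]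
      [Algebra.IsSeparable k E] [Algebra E L] [FiniteDimensional E L] [Algebra.IsSeparable E L],
      ∃ _ : Algebra k L, IsScalarTower k E L ∧ FiniteDimensional k L ∧ Algebra.IsSeparable k L := by
    intro E L _ _ _ _ _ _ _ _
    letI : Algebra k L := ((algebraMap E L).comp (algebraMap k E)).toAlgebra
    haveI : IsScalarTower k E L := IsScalarTower.of_algebraMap_eq fun _ => rfl
    exact ⟨inferInstance, inferInstance, Module.Finite.trans E L, Algebra.IsSeparable.trans k E L⟩
  suffices all : ∀ (E : Type u) [Field E] [Algebra k E] [FiniteDimensional k E] [Algebra.IsSeparable k E],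
      Van ℓ d E from CdField.cohDimLEAt_of_const d fun E _ _ _ _ => all E _ d.lt_succ_self
  rcases eq_or_ne ℓ 2 with h2 | hodd
  · subst h2
    obtain ⟨l₀, hl₀⟩ := exists_list_sq (hord.resolve_left (not_not.2 rfl))
    suffices ∀ (n : ℕ) (E : Type u) [Field E] [Algebra k E] [FiniteDimensional k E] [Algebra.IsSeparable k E]
        (l : List E), l.length ≤ n → (l.map fun a => a * a).sum = -1 → Van 2 d E by
      intro E _ _ _ _
      refine this l₀.length E (l₀.map (algebraMap k E)) (by rw [List.length_map]) ?_
      rw [List.map_map, ← map_one (algebraMap k E), ← map_neg, ← hl₀, map_list_sum, List.map_map]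
      exact congrArg List.sum (List.map_congr_left fun a _ => (map_mul (algebraMap k E) a a).symm)
    intro n
    induction n with
    | zero =>
      intro E _ _ _ _ l hl hsum
      rw [List.length_eq_zero_iff.1 (Nat.le_zero.1 hl)] at hsum
      simp at hsum
    | succ n ih =>
      intro E _ _ _ _ l hl hsum
      have h2E : (2 : E) ≠ 0 := fun h0 => hℓk ((algebraMap k E).injective (by
        rw [map_zero, map_natCast]; exact_mod_cast h0))
      match l, hl, hsum with
      | [], _, hsum => simp at hsum
      | [a], _, hsum =>
        refine roots E ⟨a, ?_⟩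
        have ha : a * a = -1 := by simpa using hsum
        rw [IsPrimitiveRoot.iff_orderOf]
        refine orderOf_eq_prime_pow ?_ ?_
        · intro h1
          rw [pow_one, sq, ha] at h1
          exact h2E (by linear_combination -h1)
        · show a ^ (2 ^ 2) = 1
          linear_combination (a * a - 1) * ha
      | u :: v :: rest, hl, hsum =>
        simp only [List.length_cons] at hl
        simp only [List.map_cons, List.sum_cons] at hsum
        by_cases hex : ∃ b : E, b ^ 2 = u ^ 2 + v ^ 2
        · obtain ⟨b, hb⟩ := hex
          refine ih E (b :: rest) (by simp only [List.length_cons]; omega) ?_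
          simp only [List.map_cons, List.sum_cons]
          linear_combination hsum + hb
        · push Not at hex
          refine Van.of_two_squares E h2E u v hex fun L _ _ _ _ ⟨α, hα⟩ => ?_
          obtain ⟨_, hT, _, _⟩ := transfer E L
          refine ih L (α :: rest.map (algebraMap E L)) (by simp only [List.length_cons, List.length_map]; omega) ?_
          have h1 : ((rest.map (algebraMap E L)).map fun a => a * a).sum =
              algebraMap E L (rest.map fun a => a * a).sum := by
            rw [map_list_sum, List.map_map, List.map_map]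
            exact congrArg List.sum (List.map_congr_left fun a _ => (map_mul (algebraMap E L) a a).symm)
          simp only [List.map_cons, List.sum_cons, h1]
          have h3 := congrArg (algebraMap E L) hsum
          simp only [map_add, map_mul, map_neg, map_one, map_pow] at h3 hα
          linear_combination hα + h3
  · intro E _ _ _ _
    have hℓE : (ℓ : E) ≠ 0 := fun h0 => hℓk ((algebraMap k E).injective (by rw [map_zero, map_natCast, h0]))
    haveI : NeZero (ℓ : E) := ⟨hℓE⟩
    let L := CyclotomicField ℓ E
    haveI : FiniteDimensional E L := IsCyclotomicExtension.finiteDimensional {ℓ} E L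
    haveI : IsGalois E L := IsCyclotomicExtension.isGalois {ℓ} E L
    obtain ⟨ζ, hζ⟩ := IsCyclotomicExtension.exists_isPrimitiveRoot E L (Set.mem_singleton ℓ) hℓ.out.ne_zero
    have hcop : ℓ.Coprime (Module.finrank E L) := by
      refine hℓ.out.coprime_iff_not_dvd.2 (Nat.not_dvd_of_pos_of_lt Module.finrank_pos ?_)
      rw [← IsGalois.card_aut_eq_finrank]
      refine (Nat.card_le_card_of_injective _ (hζ.autToPow_injective E)).trans_lt ?_
      rw [Nat.card_eq_fintype_card, ZMod.card_units_eq_totient, Nat.totient_prime hℓ.out]
      exact Nat.sub_lt hℓ.out.pos one_pos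
    obtain ⟨_, hT, _, _⟩ := transfer E L
    refine Van.of_coprime E L hcop (Van.of_cyclotomic hodd L ?_ ζ hζ fun L' _ _ _ _ hω => ?_)
    · exact fun h0 => hℓE ((algebraMap E L).injective (by rw [map_zero, map_natCast, h0]))
    · obtain ⟨_, hT', _, _⟩ := transfer L L'
      exact roots L' hω

end Groth.Agent.Cd58
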