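import Groth.Agent.Cd58.CyclicPeriod
import Groth.Agent.CdField.Torsion
import Groth.Agent.CdLib.ExtVanish
import Groth.Agent.GalCd.CdOne

/-! Descent of the vanishing of cohomology of `ℤ/ℓ` along extensions of fields. -/

set_option autoImplicit false
set_option linter.style.haveILetI false
set_option backward.isDefEq.respectTransparency.types false

universe u

open CategoryTheory CategoryTheory.Limits CategoryTheory.Abelian AlgebraicGeometry Opposite

namespace Groth.Agent.Cd58

open Groth.Agent.DixBrauer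

/-- `H^q(E, ℤ/ℓ) = 0` above degree `d`. -/
def Van (ℓ d : ℕ) (E : Type u) [Field E] : Prop :=
  ∀ q, d < q → Subsingleton (EtCoh.H (Spec (CommRingCat.of E)) (EtCoh.const (Spec (CommRingCat.of E)) (ZMod ℓ)) q)

variable {ℓ d : ℕ}

theorem Van.of_cd [NeZero ℓ] {E : Type u} [Field E] (h : Dix.CohDimLEAt (Spec (CommRingCat.of E)) ℓ d) :
    Van ℓ d E := fun q hq =>
  h _ (CdField.isPrimaryTorsion_of_nsmul_eq_zero ℓ 1 (by rw [pow_one]; exact GalCd.nsmul_const _ ℓ)) q hq

variable (E L : Type u) [Field E] [Field L] [Algebra E L] [FiniteDimensional E L] [Algebra.IsSeparable E L]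

/-- Cohomology of `ℤ/ℓ` over an extension as extensions of the free sheaf. -/
theorem subsingleton_ext_P_of_H {q : ℕ}
    (h : Subsingleton (EtCoh.H (Spec (CommRingCat.of L)) (EtCoh.const (Spec (CommRingCat.of L)) (ZMod ℓ)) q)) :
    Subsingleton (Ext (CohTriv.P (K := E) L) (EtCoh.const (Spec (CommRingCat.of E)) (ZMod ℓ)) q) := by
  let j := GalDual.fieldMap E L
  haveI := EtFound.pull_preservesFiniteLimits j
  haveI := EtFound.extZero_preservesFiniteLimits j
  haveI : (EtShriek.extZero j).PreservesMonomorphisms := inferInstance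
  have h' := CdLib.ExtVanish.ext_of_iso (EtCore.pullConst j (ZMod ℓ)).symm
    (EtCoh.const (Spec (CommRingCat.of L)) ℤ) q h
  exact (EtMVLib.adjExtMap_bijective (GalDual.shrAdj j) _ _ q).1.subsingleton

/-- Extensions of degree prime to `ℓ`. -/
theorem Van.of_coprime (hℓ : ℓ.Coprime (Module.finrank E L)) [NeZero ℓ] (h : Van ℓ d L) : Van ℓ d E := by
  intro q hq
  haveI := subsingleton_ext_P_of_H E L (h q hq)
  refine subsingleton_of_forall_eq 0 fun x => ?_
  have hd : GalDual.Dies E L x := Subsingleton.elim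
    (α := Ext (CohTriv.P (K := E) L) (EtCoh.const (Spec (CommRingCat.of E)) (ZMod ℓ)) q) _ _
  exact GalDual.eq_zero_of_coprime_nsmul (GalCd.nsmul_H_const E ℓ x) (hd.finrank_nsmul L) hℓ

/-- Cyclic extensions of degree `ℓ` inside a cyclic extension of degree `ℓ²`. -/
theorem Van.of_cyclic_sq [IsGalois E L] (M : Type u) [Field M] [Algebra E M] [Algebra L M] [IsScalarTower E L M]
    [FiniteDimensional E M] [IsGalois E M] [IsCyclic (M ≃ₐ[E] M)] (hℓ : Module.finrank L M = ℓ) [NeZero ℓ]
    (h : Van ℓ d L) : Van ℓ d E := by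
  intro q hq
  obtain ⟨σ, hσ⟩ := IsCyclic.exists_generator (α := M ≃ₐ[E] M)
  haveI := subsingleton_ext_P E L M σ hσ (EtCoh.const (Spec (CommRingCat.of E)) (ZMod ℓ)) ℓ hℓ
    (GalCd.nsmul_const _ ℓ) d (fun q hq => subsingleton_ext_P_of_H E L (h q hq)) q hq
  refine subsingleton_of_forall_eq 0 fun x => GalDual.Dies.eq_zero ?_
  exact Subsingleton.elim
    (α := Ext (CohTriv.P (K := E) E) (EtCoh.const (Spec (CommRingCat.of E)) (ZMod ℓ)) q) _ _

end Groth.Agent.Cd58
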