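import Groth.Agent.Cd58.Wild
import Groth.Agent.CdField.C1Fields
import Groth.Agent.GalCd.CdOne

/-! `cd_ℓ ≤ 1` for the fraction field of a strictly henselian discrete valuation ring. -/

set_option autoImplicit false
set_option linter.style.haveILetI false
set_option backward.isDefEq.respectTransparency.types false

universe u

open CategoryTheory CategoryTheory.Limits AlgebraicGeometry Opposite

namespace Groth.Agent.Cd58

open Groth.Agent.DixBrauer

/-- Norms are surjective in the cyclic extensions of degree `ℓ` of all finite separable extensions containing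
the `ℓ`-th roots of unity. -/
def CyclicNorms (ℓ : ℕ) (E : Type u) [Field E] : Prop :=
  ∀ (F M : Type u) [Field F] [Field M] [Algebra E F] [FiniteDimensional E F] [Algebra.IsSeparable E F]
    [Algebra F M] [FiniteDimensional F M] [IsGalois F M], (∃ ζ : F, IsPrimitiveRoot ζ ℓ) →
      Module.finrank F M = ℓ →
      ∀ x : F, x ≠ 0 → ∃ y : M, Algebra.norm F y = x

theorem CyclicNorms.of_finite {ℓ : ℕ} {E : Type u} [Field E] (h : CyclicNorms ℓ E) (E' : Type u) [Field E']
    [Algebra E E'] [FiniteDimensional E E'] [Algebra.IsSeparable E E'] : CyclicNorms ℓ E' := by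
  intro F M _ _ _ _ _ _ _ _
  letI : Algebra E F := ((algebraMap E' F).comp (algebraMap E E')).toAlgebra
  haveI : IsScalarTower E E' F := IsScalarTower.of_algebraMap_eq fun _ => rfl
  haveI : FiniteDimensional E F := Module.Finite.trans E' F
  haveI : Algebra.IsSeparable E F := Algebra.IsSeparable.trans E E' F
  exact h F M

theorem eq_zero_of_isPGroup (p : ℕ) [hp : Fact p.Prime] :
    ∀ (N : ℕ) (E M : Type u) [Field E] [Field M] [Algebra E M] [FiniteDimensional E M] [IsGalois E M],
      Module.finrank E M = N → IsPGroup p (M ≃ₐ[E] M) → CyclicNorms p E → (∃ ζ : E, IsPrimitiveRoot ζ p) →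
      ∀ η : EtCoh.H (Spec (CommRingCat.of E)) (EtCoh.Gm (Spec (CommRingCat.of E))) 2,
      (∀ [PreservesFiniteLimits (EtCoh.pull (BrauerC1.π E M))], EtLim.HGmPull (BrauerC1.π E M) 2 η = 0) →
      η = 0 := by
  intro N
  induction N using Nat.strong_induction_on with
  | _ N ih =>
    intro E M _ _ _ _ _ hN hP hC hz η hη
    haveI := EtFound.pull_preservesFiniteLimits (BrauerC1.π E M)
    rcases subsingleton_or_nontrivial (M ≃ₐ[E] M) with hs | hnt
    · refine CyclicGal.eq_zero_of_dies (σ := 1) (fun τ => by rw [Subsingleton.elim τ 1]; exact one_mem _)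
        (fun x _ => ⟨algebraMap E M x, ?_⟩) η hη
      rw [Algebra.norm_algebraMap, ← IsGalois.card_aut_eq_finrank, Nat.card_of_subsingleton 1, pow_one]
    · haveI := hP.center_nontrivial
      obtain ⟨z₀, hz₀⟩ : ∃ z₀ : Subgroup.center (M ≃ₐ[E] M), orderOf z₀ = p := by
        refine exists_prime_orderOf_dvd_card' p ?_
        obtain ⟨k, hk, hc⟩ := (hP.to_subgroup (Subgroup.center (M ≃ₐ[E] M))).nontrivial_iff_card.1 inferInstance
        exact hc ▸ dvd_pow_self p hk.ne'
      have hzp : orderOf (z₀ : M ≃ₐ[E] M) = p := (Subgroup.orderOf_coe z₀).trans hz₀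
      let H := Subgroup.zpowers (z₀ : M ≃ₐ[E] M)
      haveI hHn : H.Normal := by
        refine ⟨fun h hh g => ?_⟩
        obtain ⟨i, rfl⟩ := hh
        have hc : g * (z₀ : M ≃ₐ[E] M) ^ i = (z₀ : M ≃ₐ[E] M) ^ i * g :=
          Subgroup.mem_center_iff.1 (zpow_mem z₀.2 i) g
        rw [hc, mul_inv_cancel_right]
        exact Subgroup.mem_zpowers_iff.2 ⟨i, rfl⟩
      let F := IntermediateField.fixedField H
      haveI : IsGalois E F := IsGalois.of_fixedField_normal_subgroup H
      haveI : IsGalois F M := IsGalois.tower_top_of_isGalois E F M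
      haveI : Algebra.IsSeparable F M := Algebra.isSeparable_tower_top_of_isSeparable E F M
      have hzF : ∃ ζ : F, IsPrimitiveRoot ζ p :=
        let ⟨w, hw⟩ := hz; ⟨algebraMap E F w, hw.map_of_injective (algebraMap E F).injective⟩
      have h2 : Module.finrank F M = p := by
        rw [IntermediateField.finrank_fixedField_eq_card, Nat.card_zpowers, hzp]
      have hlt : Module.finrank E F < N := by
        have hmul := Module.finrank_mul_finrank E F M
        rw [← hN, ← hmul, h2]
        exact lt_mul_of_one_lt_right Module.finrank_pos hp.out.one_lt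
      haveI := EtFound.pull_preservesFiniteLimits (BrauerC1.π E F)
      haveI := EtFound.pull_preservesFiniteLimits (BrauerC1.π F M)
      haveI := EtFound.pull_preservesFiniteLimits (BrauerC1.π F M ≫ BrauerC1.π E F)
      have hcomp : BrauerC1.π F M ≫ BrauerC1.π E F = BrauerC1.π E M := by
        rw [← Spec.map_comp, ← CommRingCat.ofHom_comp, ← IsScalarTower.algebraMap_eq]
      have hF : EtLim.HGmPull (BrauerC1.π E F) 2 η = 0 := by
        let gen : M ≃ₐ[F] M := (IntermediateField.fixingSubgroupEquiv F)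
          ⟨z₀, by rw [IntermediateField.fixingSubgroup_fixedField]; exact Subgroup.mem_zpowers _⟩
        refine CyclicGal.eq_zero_of_dies (E := F) (L := M) (σ := gen) (fun τ => ?_)
          (fun x hx => hC F M hzF h2 x hx) _ ?_
        · have hτ : ((IntermediateField.fixingSubgroupEquiv F).symm τ : M ≃ₐ[E] M) ∈ H :=
            SetLike.le_def.1 (IntermediateField.fixingSubgroup_fixedField H).le
              ((IntermediateField.fixingSubgroupEquiv F).symm τ).2
          obtain ⟨i, hi⟩ := hτ
          refine ⟨i, (IntermediateField.fixingSubgroupEquiv F).symm.injective ?_⟩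
          refine Eq.trans (map_zpow (IntermediateField.fixingSubgroupEquiv F).symm gen i) ?_
          rw [MulEquiv.symm_apply_apply]
          exact Subtype.ext hi
        · rw [← GmComp.HGmPull_comp (BrauerC1.π F M) (BrauerC1.π E F)]
          convert hη using 3
      refine ih _ hlt E F rfl ?_ hC hz η hF
      exact hP.of_surjective (AlgEquiv.restrictNormalHom F) (AlgEquiv.restrictNormalHom_surjective M)

/-- The `ℓ`-primary torsion of `H²(K, G_m)` vanishes. -/
theorem brNoTors (K : Type u) [Field K] (ℓ : ℕ) [hℓ : Fact ℓ.Prime] (hK : CyclicNorms ℓ K)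
    (hz : ∃ ζ : K, IsPrimitiveRoot ζ ℓ) : GalCd.BrNoTors K ℓ := by
  rintro ξ ⟨m, hξ⟩
  obtain ⟨L, _, _, _, _, hL⟩ := GalDual.exists_dies ξ
  let M := IntermediateField.normalClosure K L (SeparableClosure L)
  haveI : IsSepClosure K (SeparableClosure L) := ⟨inferInstance, Algebra.IsSeparable.trans K L _⟩
  haveI : IsGalois K (SeparableClosure L) := IsSepClosure.isGalois
  let ι : L →ₐ[K] M := (IsScalarTower.toAlgHom K L (SeparableClosure L)).codRestrict M.toSubalgebra
    fun x => AlgHom.fieldRange_le_normalClosure (IsScalarTower.toAlgHom K L (SeparableClosure L)) ⟨x, rfl⟩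
  have hM := hL.of_algHom ι
  let P : Sylow ℓ (M ≃ₐ[K] M) := default
  let E := IntermediateField.fixedField (P : Subgroup (M ≃ₐ[K] M))
  haveI : IsGalois E M := IsGalois.tower_top_of_isGalois K E M
  haveI : Algebra.IsSeparable K E := Algebra.isSeparable_tower_bot_of_isSeparable K E M
  haveI := EtFound.pull_preservesFiniteLimits (BrauerC1.π K E)
  haveI := EtFound.pull_preservesFiniteLimits (BrauerC1.π K M)
  haveI := EtFound.pull_preservesFiniteLimits (BrauerC1.π E M ≫ BrauerC1.π K E)
  have hcomp : BrauerC1.π E M ≫ BrauerC1.π K E = BrauerC1.π K M := by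
    rw [← Spec.map_comp, ← CommRingCat.ofHom_comp, ← IsScalarTower.algebraMap_eq]
  have hE : EtLim.HGmPull (BrauerC1.π K E) 2 ξ = 0 := by
    refine eq_zero_of_isPGroup ℓ _ E M rfl ?_ (hK.of_finite E)
      (let ⟨w, hw⟩ := hz; ⟨algebraMap K E w, hw.map_of_injective (algebraMap K E).injective⟩) _ ?_
    · exact P.isPGroup'.of_equiv ((MulEquiv.subgroupCongr
        (IntermediateField.fixingSubgroup_fixedField (P : Subgroup (M ≃ₐ[K] M))).symm).trans
        (IntermediateField.fixingSubgroupEquiv E))
    · intro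
      rw [← GmComp.HGmPull_comp (BrauerC1.π E M) (BrauerC1.π K E)]
      have h0 := GmComp.HGmPull_eq_zero (BrauerC1.π K M) 2 ξ ((GalDual.dies_iff_Hpull M ξ).1 hM)
      convert h0 using 3
  haveI : Module.Finite K E := inferInstance
  haveI : IsFinite (BrauerC1.π K E) := (IsFinite.SpecMap_iff _).2 (RingHom.finite_algebraMap.2 inferInstance)
  haveI : Flat (BrauerC1.π K E) := Flat.SpecMap_iff.2 (RingHom.flat_algebraMap_iff.2 inferInstance)
  haveI : AlgebraicGeometry.Etale (BrauerC1.π K E) := GalCover.etale_specExt (L := K) E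
  have hd : ∀ y, (BrauerC1.π K E).finrank y = Module.finrank K E := fun y => by
    show Scheme.Hom.finrank (Spec.map (CommRingCat.ofHom (algebraMap K E))) y = _
    rw [Scheme.Hom.finrank_SpecMap_algebraMap, Module.rankAtStalk_eq_finrank_of_free]
    rfl
  have hkill := FinitePush.nsmul_eq_zero_of_HGmPull (BrauerC1.π K E) hd ξ hE
  refine GalDual.eq_zero_of_coprime_nsmul hξ hkill ?_
  rw [IntermediateField.finrank_eq_fixingSubgroup_index, IntermediateField.fixingSubgroup_fixedField]
  exact (hℓ.out.coprime_iff_not_dvd.2 P.not_dvd_index).pow_left m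

/-- `H²(K, ℤ/ℓ) = 0`. -/
theorem subsingleton_H2_const (K : Type u) [Field K] (ℓ : ℕ) [hℓ : Fact ℓ.Prime] (hℓK : (ℓ : K) ≠ 0)
    (hK : CyclicNorms ℓ K) :
    Subsingleton (EtCoh.H (Spec (CommRingCat.of K)) (EtCoh.const (Spec (CommRingCat.of K)) (ZMod ℓ)) 2) := by
  haveI : NeZero (ℓ : K) := ⟨hℓK⟩
  haveI : NeZero ℓ := ⟨hℓ.out.ne_zero⟩
  haveI : IsCyclotomicExtension {ℓ} K (CyclotomicField ℓ K) := CyclotomicField.isCyclotomicExtension ℓ K
  let E := CyclotomicField ℓ K
  haveI : FiniteDimensional K E := IsCyclotomicExtension.finiteDimensional {ℓ} K E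
  haveI : IsGalois K E := IsCyclotomicExtension.isGalois {ℓ} K E
  have hE : (ℓ : E) ≠ 0 := fun h => hℓK ((algebraMap K E).injective (by rw [map_natCast, h, map_zero]))
  haveI := GalCd.subsingleton_H2_of_root E ℓ hE _ (IsCyclotomicExtension.zeta_spec ℓ K E)
    (brNoTors E ℓ (hK.of_finite E) ⟨_, IsCyclotomicExtension.zeta_spec ℓ K E⟩)
  refine subsingleton_of_forall_eq 0 fun x => ?_
  let π := GalDual.fieldMap K E
  haveI := EtFound.pull_preservesFiniteLimits π
  have hdies : GalDual.Dies K E x := (GalDual.dies_iff_Hpull E x).2 (by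
    have := CdLib.ExtVanish.ext_of_iso (EtCore.pullConst π (ZMod ℓ)).symm (EtCoh.const _ ℤ) 2 inferInstance
    exact @Subsingleton.elim _ this _ _)
  refine GalDual.eq_zero_of_coprime_nsmul (GalCd.nsmul_H_const K ℓ x) (hdies.finrank_nsmul E) ?_
  refine (hℓ.out.coprime_iff_not_dvd).2 fun hdvd => ?_
  have hle : Module.finrank K E ≤ ℓ - 1 := by
    have := (IsCyclotomicExtension.zeta_spec ℓ K E).powerBasis K |>.finrank
    rw [this, IsPrimitiveRoot.powerBasis_dim]
    calc (minpoly K (IsCyclotomicExtension.zeta ℓ K E)).natDegree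
        ≤ (Polynomial.cyclotomic ℓ K).natDegree := by
          refine Polynomial.natDegree_le_of_dvd (minpoly.dvd _ _ ?_) (Polynomial.cyclotomic_ne_zero ℓ K)
          rw [Polynomial.aeval_def, Polynomial.eval₂_eq_eval_map, Polynomial.map_cyclotomic]
          exact (IsCyclotomicExtension.zeta_spec ℓ K E).isRoot_cyclotomic hℓ.out.pos
      _ = ℓ - 1 := by rw [Polynomial.natDegree_cyclotomic, Nat.totient_prime hℓ.out]
  have := Nat.le_of_dvd Module.finrank_pos hdvd
  have := hℓ.out.two_le
  omega

variable (R : Type u) [CommRing R] [IsDomain R] [IsDiscreteValuationRing R] [HenselianLocalRing R]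
  (K : Type u) [Field K] [Algebra R K] [IsFractionRing R K]

open IsLocalRing in
/-- The fraction field of a strictly henselian discrete valuation ring has `cd_ℓ ≤ 1`. -/
theorem cohDimLEAt_one_strict [IsSepClosed (ResidueField R)] (ℓ : ℕ) [hℓ : Fact ℓ.Prime] (hℓK : (ℓ : K) ≠ 0)
    (hcond : (ℓ : ResidueField R) ≠ 0 ∨ IsAlgClosed (ResidueField R)) :
    Dix.CohDimLEAt (Spec (CommRingCat.of K)) ℓ 1 := by
  refine CdField.cohDimLEAt_one fun E _ _ _ _ => ?_
  have hℓE : (ℓ : E) ≠ 0 := fun h => hℓK ((algebraMap K E).injective (by rw [map_natCast, h, map_zero]))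
  refine subsingleton_H2_const E ℓ hℓE ?_
  intro F M _ _ _ _ _ _ _ _ ⟨ζ, hζ⟩ hM x hx
  letI : Algebra K F := ((algebraMap E F).comp (algebraMap K E)).toAlgebra
  haveI : IsScalarTower K E F := IsScalarTower.of_algebraMap_eq fun _ => rfl
  haveI : FiniteDimensional K F := Module.Finite.trans E F
  haveI : Algebra.IsSeparable K F := Algebra.IsSeparable.trans K E F
  letI : Algebra R F := ((algebraMap K F).comp (algebraMap R K)).toAlgebra
  haveI : IsScalarTower R K F := IsScalarTower.of_algebraMap_eq fun _ => rfl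
  obtain ⟨S, _, _, _, _, _, _, _, _, _, halg⟩ := exists_dvr (R := R) (K := K) (L := F)
  haveI : IsSepClosed (ResidueField S) := Algebra.IsAlgebraic.isSepClosed (F := ResidueField R)
  by_cases hres : (ℓ : ResidueField R) = 0
  · haveI : IsAlgClosed (ResidueField R) := hcond.resolve_left (not_not.2 hres)
    haveI : IsAlgClosed (ResidueField S) := IsAlgClosed.of_ringEquiv _ _ (RingEquiv.ofBijective (algebraMap (ResidueField R) (ResidueField S))
      IsAlgClosed.algebraMap_bijective_of_isIntegral)
    have hS : (ℓ : ResidueField S) = 0 := by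
      rw [← map_natCast (algebraMap (ResidueField R) (ResidueField S)), hres, map_zero]
    have hF : (ℓ : F) ≠ 0 := fun h => hℓK ((algebraMap K F).injective (by rw [map_natCast, h, map_zero]))
    exact exists_norm_eq_of_residueChar ℓ hS hF hζ M hM x hx
  · exact exists_norm_eq_of_invertible ℓ
      (by rw [← map_natCast (algebraMap (ResidueField R) (ResidueField S))]; exact fun h =>
        hres ((algebraMap _ _).injective (h.trans (map_zero _).symm))) M hM x hx

end Groth.Agent.Cd58
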