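import Groth.Agent.Hensel.Local
import Mathlib.RingTheory.DiscreteValuationRing.Basic
import Mathlib.RingTheory.DedekindDomain.IntegralClosure
import Mathlib.RingTheory.DedekindDomain.PID
import Mathlib.FieldTheory.KummerExtension
import Mathlib.Data.Nat.Prime.Int
import Mathlib.RingTheory.Polynomial.Cyclotomic.Roots
import Mathlib.FieldTheory.IsSepClosed
import Mathlib.FieldTheory.PurelyInseparable.Basic
import Mathlib.FieldTheory.Perfect
import Mathlib.RingTheory.Norm.Transitivity

/-! Fraction fields of henselian discrete valuation rings with separably closed residue field: finite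
separable extensions and norms of Kummer extensions. -/

set_option autoImplicit false

universe u

open Polynomial IsLocalRing

noncomputable section

namespace Groth.Agent.Cd58

variable (R : Type u) [CommRing R] [IsDomain R] [IsDiscreteValuationRing R] [HenselianLocalRing R]
  (K : Type u) [Field K] [Algebra R K] [IsFractionRing R K]
  (L : Type u) [Field L] [Algebra K L] [FiniteDimensional K L] [Algebra.IsSeparable K L]
  [Algebra R L] [IsScalarTower R K L]

include K in
theorem finite_integralClosure : Module.Finite R ↥(integralClosure R L) :=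
  IsIntegralClosure.finite R K L ↥(integralClosure R L)

include K in
theorem isLocalRing_integralClosure : IsLocalRing ↥(integralClosure R L) := by
  haveI := finite_integralClosure R K L
  obtain ⟨_, e, he, hM⟩ := Hensel.exists_idempotents_of_henselian R ↥(integralClosure R L)
  obtain ⟨M, hMax⟩ := Ideal.exists_maximal ↥(integralClosure R L)
  refine IsLocalRing.of_unique_max_ideal ⟨M, hMax, fun N hN => ?_⟩
  by_contra hne
  let m : MaximalSpectrum ↥(integralClosure R L) := ⟨M, hMax⟩
  let n : MaximalSpectrum ↥(integralClosure R L) := ⟨N, hN⟩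
  have h1 : e m = 1 := (IsIdempotentElem.iff_eq_zero_or_one.1 (he.idem m)).resolve_left
    fun h => (hM m).1 (by rw [h]; exact zero_mem _)
  have h2 := (hM m).2 n fun h => hne congr(($h).asIdeal)
  rw [h1] at h2
  exact hN.ne_top ((Ideal.eq_top_iff_one _).2 h2)

include K in
/-- The integral closure in a finite separable extension is again a henselian discrete valuation
ring, with residue field algebraic over the residue field. -/
theorem exists_dvr :
    ∃ (S : Type u) (_ : CommRing S) (_ : IsDomain S) (_ : IsDiscreteValuationRing S)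
      (_ : HenselianLocalRing S) (_ : Algebra R S) (_ : IsLocalHom (algebraMap R S)) (_ : Algebra S L)
      (_ : IsFractionRing S L) (_ : IsScalarTower R S L),
      Algebra.IsAlgebraic (ResidueField R) (ResidueField S) := by
  let S := ↥(integralClosure R L)
  haveI := finite_integralClosure R K L
  haveI := isLocalRing_integralClosure R K L
  haveI : HenselianLocalRing S := Hensel.henselianLocalRing_of_finite R S
  haveI : IsDedekindDomain S := IsIntegralClosure.isDedekindDomain R K L S
  haveI : IsFractionRing S L := IsIntegralClosure.isFractionRing_of_finite_extension R K L S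
  haveI : IsPrincipalIdealRing S := IsPrincipalIdealRing.of_finite_maximals
    (Set.Subsingleton.finite fun P hP Q hQ =>
      (IsLocalRing.eq_maximalIdeal hP).trans (IsLocalRing.eq_maximalIdeal hQ).symm)
  haveI : Algebra.IsIntegral R S := Algebra.IsIntegral.of_finite R S
  have hmax : (maximalIdeal S).comap (algebraMap R S) = maximalIdeal R :=
    eq_maximalIdeal (Ideal.isMaximal_comap_of_isIntegral_of_isMaximal _)
  haveI : IsLocalHom (algebraMap R S) := ((local_hom_TFAE (algebraMap R S)).out 4 0).1 hmax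
  have hnf : maximalIdeal S ≠ ⊥ := fun h => IsDiscreteValuationRing.not_a_field R (by
    have hinj : Function.Injective (algebraMap R S) := fun a b hab =>
      IsFractionRing.injective R K ((algebraMap K L).injective (by
        rw [← IsScalarTower.algebraMap_apply, ← IsScalarTower.algebraMap_apply]
        exact congrArg Subtype.val hab))
    rw [← hmax, h]
    exact (RingHom.injective_iff_ker_eq_bot _).1 hinj)
  haveI : IsDiscreteValuationRing S := { not_a_field' := hnf }
  haveI : Module.Finite (ResidueField R) (ResidueField S) := inferInstance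
  exact ⟨S, inferInstance, inferInstance, inferInstance, inferInstance, inferInstance, inferInstance,
    inferInstance, inferInstance, inferInstance, inferInstance⟩

variable {R K}

/-- A non-zero element is a unit times a power of a uniformizer. -/
theorem exists_eq_unit_mul_zpow {π : R} (hπ : Irreducible π) {x : K} (hx : x ≠ 0) :
    ∃ (n : ℤ) (v : Rˣ), x = algebraMap R K v * algebraMap R K π ^ n := by
  obtain ⟨a, b, hb, rfl⟩ := IsFractionRing.div_surjective R x
  have ha : a ≠ 0 := fun h => hx (by rw [h, map_zero, zero_div])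
  obtain ⟨m, v, rfl⟩ := IsDiscreteValuationRing.eq_unit_mul_pow_irreducible ha hπ
  obtain ⟨n, w, rfl⟩ := IsDiscreteValuationRing.eq_unit_mul_pow_irreducible (nonZeroDivisors.ne_zero hb) hπ
  have hπ0 : algebraMap R K π ≠ 0 := (map_ne_zero_iff _ (IsFractionRing.injective R K)).2 hπ.ne_zero
  refine ⟨(m : ℤ) - n, v * w⁻¹, ?_⟩
  rw [map_mul, map_mul, map_pow, map_pow, Units.val_mul, map_mul, map_units_inv, zpow_sub₀ hπ0,
    zpow_natCast, zpow_natCast]
  ring

/-- A uniformizer is not a power. -/
theorem pow_ne_uniformizer {π : R} (hπ : Irreducible π) {ℓ : ℕ} (hℓ : ℓ ≠ 1) (x : K) :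
    x ^ ℓ ≠ algebraMap R K π := by
  intro h
  have hint : IsIntegral R x := by
    rcases Nat.eq_zero_or_pos ℓ with rfl | hpos
    · rw [pow_zero, ← map_one (algebraMap R K)] at h
      exact absurd (IsFractionRing.injective R K h) (fun h1 => hπ.not_isUnit (h1 ▸ isUnit_one))
    exact IsIntegral.of_pow hpos (h ▸ isIntegral_algebraMap)
  obtain ⟨y, rfl⟩ := IsIntegrallyClosed.isIntegral_iff.1 hint
  rw [← map_pow] at h
  have h' := IsFractionRing.injective R K h
  rcases Nat.lt_or_ge ℓ 2 with h2 | h2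
  · interval_cases ℓ
    · exact hπ.not_isUnit (h' ▸ by simp)
    · exact hℓ rfl
  obtain ⟨m, rfl⟩ : ∃ m, ℓ = m + 2 := ⟨ℓ - 2, by omega⟩
  rw [pow_succ] at h'
  have hy : ¬ IsUnit y := fun hy => hπ.not_isUnit (h' ▸ (hy.pow _).mul hy)
  rcases hπ.isUnit_or_isUnit h'.symm with h1 | h1
  · exact hy ((isUnit_pow_iff (by omega)).1 h1)
  · exact hy h1

section cyclic

variable (ℓ : ℕ) [hℓ : Fact ℓ.Prime] (M : Type u) [Field M] [Algebra K M] [FiniteDimensional K M] [IsGalois K M]

/-- In a Kummer extension of prime degree, every element is a norm as soon as all units are norms and the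
extension is generated by a root of an element of valuation prime to the degree. -/
theorem exists_norm_eq_of_units {π : R} (hπ : Irreducible π) (hM : Module.finrank K M = ℓ)
    (hu : ∀ v : Rˣ, ∃ y : M, Algebra.norm K y = algebraMap R K v)
    (α : M) (n : ℤ) (v : Rˣ) (hn : ¬ (ℓ : ℤ) ∣ n) (hα : α ^ ℓ = algebraMap K M (algebraMap R K v * algebraMap R K π ^ n))
    (x : K) (hx : x ≠ 0) : ∃ y : M, Algebra.norm K y = x := by
  let N : Subgroup Kˣ := (Units.map (Algebra.norm K : M →* K)).range
  have hmem : ∀ z : Kˣ, z ∈ N ↔ ∃ y : M, Algebra.norm K y = (z : K) := fun z => by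
    constructor
    · rintro ⟨y, rfl⟩
      exact ⟨y, rfl⟩
    · rintro ⟨y, hy⟩
      have hy0 : y ≠ 0 := fun h => z.ne_zero (by rw [← hy, h, Algebra.norm_zero])
      exact ⟨Units.mk0 y hy0, Units.ext hy⟩
  have hπ0 : algebraMap R K π ≠ 0 := (map_ne_zero_iff _ (IsFractionRing.injective R K)).2 hπ.ne_zero
  let p : Kˣ := Units.mk0 _ hπ0
  let ι : Rˣ →* Kˣ := Units.map (algebraMap R K : R →* K)
  have hι : ∀ w : Rˣ, ι w ∈ N := fun w => (hmem _).2 (hu w)
  -- the `ℓ`-th power of the generator has norm of valuation `n`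
  have hα0 : α ≠ 0 := fun h => by
    rw [h, zero_pow hℓ.out.ne_zero, eq_comm, map_eq_zero] at hα
    exact mul_ne_zero ((v.isUnit.map _).ne_zero) (zpow_ne_zero _ hπ0) hα
  have hN : (Units.mk0 (Algebra.norm K α) (by rwa [Algebra.norm_ne_zero_iff]) : Kˣ) ∈ N :=
    (hmem _).2 ⟨α, rfl⟩
  obtain ⟨k, w, hk⟩ := exists_eq_unit_mul_zpow hπ (K := K) (x := Algebra.norm K α)
    (by rwa [Algebra.norm_ne_zero_iff])
  have hkey : k = n := by
    have h := congrArg (Algebra.norm K) hα
    rw [map_pow, Algebra.norm_algebraMap, hM, hk, mul_pow, mul_pow] at h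
    by_contra hne
    have h' : algebraMap R K ↑(v ^ ℓ * (w ^ ℓ)⁻¹) = algebraMap R K π ^ ((k - n) * (ℓ : ℤ)) := by
      rw [Units.val_mul, map_mul, map_units_inv, Units.val_pow_eq_pow_val, Units.val_pow_eq_pow_val,
        map_pow, map_pow, ← zpow_natCast (algebraMap R K π ^ n), ← zpow_natCast (algebraMap R K π ^ k),
        ← zpow_mul, ← zpow_mul] at *
      rw [sub_mul, zpow_sub₀ hπ0, eq_div_iff (zpow_ne_zero _ hπ0)]
      have hw : (algebraMap R K w) ^ ℓ ≠ 0 := pow_ne_zero _ (w.isUnit.map _).ne_zero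
      field_simp
      linear_combination -h
    obtain ⟨j, hj⟩ := Int.eq_nat_or_neg ((k - n) * (ℓ : ℤ))
    have hj0 : j ≠ 0 := fun h0 => hne (by
      have : (k - n) * (ℓ : ℤ) = 0 := by rcases hj with hj | hj <;> simp [hj, h0]
      rcases mul_eq_zero.1 this with h1 | h1
      · omega
      · exact absurd (by exact_mod_cast h1) hℓ.out.ne_zero)
    rcases hj with hj | hj <;> rw [hj] at h'
    · rw [zpow_natCast, ← map_pow] at h'
      exact hπ.not_isUnit ((isUnit_pow_iff hj0).1 (IsFractionRing.injective R K h' ▸ Units.isUnit _))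
    · rw [zpow_neg, zpow_natCast, ← map_pow] at h'
      have h'' : algebraMap R K ↑(v ^ ℓ * (w ^ ℓ)⁻¹)⁻¹ = algebraMap R K (π ^ j) := by
        rw [map_units_inv, h', inv_inv]
      exact hπ.not_isUnit ((isUnit_pow_iff hj0).1 (IsFractionRing.injective R K h'' ▸ Units.isUnit _))
  subst hkey
  have hpn : p ^ k ∈ N := by
    have h := N.mul_mem (N.inv_mem (hι w)) hN
    refine (iff_of_eq (congrArg (· ∈ N) (Units.ext ?_))).1 h
    rw [Units.val_mul, Units.val_mk0, hk, Units.val_zpow_eq_zpow_val, ← mul_assoc]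
    show (↑(ι w)⁻¹ : K) * ↑(ι w) * _ = _
    rw [Units.inv_mul, one_mul]
    rfl
  have hpl : p ^ (ℓ : ℤ) ∈ N := (hmem _).2 ⟨algebraMap K M (algebraMap R K π), by
    rw [Algebra.norm_algebraMap, hM, Units.val_zpow_eq_zpow_val, zpow_natCast]
    rfl⟩
  have hp : p ∈ N := by
    have hcop : Int.gcd k ℓ = 1 :=
      Int.isCoprime_iff_gcd_eq_one.1 ((Nat.prime_iff_prime_int.1 hℓ.out).coprime_iff_not_dvd.2 hn).symm
    have hb := Int.gcd_eq_gcd_ab k ℓ
    rw [hcop] at hb
    rw [← zpow_one p, show (1 : ℤ) = k * Int.gcdA k ℓ + ℓ * Int.gcdB k ℓ from hb, zpow_add, zpow_mul,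
      zpow_mul]
    exact N.mul_mem (N.zpow_mem hpn _) (N.zpow_mem hpl _)
  obtain ⟨m, u, rfl⟩ := exists_eq_unit_mul_zpow hπ (K := K) hx
  obtain ⟨y, hy⟩ := (hmem _).1 (N.mul_mem (hι u) (N.zpow_mem hp m))
  refine ⟨y, hy.trans ?_⟩
  rw [Units.val_mul, Units.val_zpow_eq_zpow_val]
  rfl

end cyclic

section tame

variable [IsSepClosed (ResidueField R)] (ℓ : ℕ) [hℓ : Fact ℓ.Prime] (hℓR : (ℓ : ResidueField R) ≠ 0)

include hℓR

/-- Units are `ℓ`-th powers when `ℓ` is invertible. -/
theorem exists_unit_pow_eq (v : Rˣ) : ∃ w : Rˣ, w ^ ℓ = v := by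
  haveI : NeZero (ℓ : ResidueField R) := ⟨hℓR⟩
  obtain ⟨z, hz⟩ := IsSepClosed.exists_pow_nat_eq (residue R v) ℓ
  obtain ⟨z, rfl⟩ := residue_surjective z
  have hz0 : IsUnit z := residue_ne_zero_iff_isUnit z |>.1 fun h => by
    rw [h, zero_pow hℓ.out.ne_zero] at hz
    exact (residue_ne_zero_iff_isUnit _).2 v.isUnit hz.symm
  obtain ⟨a, ha, ha'⟩ := HenselianLocalRing.is_henselian (X ^ ℓ - C (v : R)) (monic_X_pow_sub_C _ hℓ.out.ne_zero) z
    (by rw [← residue_eq_zero_iff]; simp [hz]) (by
      simp only [derivative_sub, derivative_X_pow, derivative_C, sub_zero, eval_mul, eval_C, eval_pow, eval_X]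
      refine IsUnit.mul ((residue_ne_zero_iff_isUnit _).1 ?_) (hz0.pow _)
      rwa [map_natCast])
  have ha0 : a ^ ℓ = v := by simpa [IsRoot, sub_eq_zero] using ha
  have hau : IsUnit a := (isUnit_pow_iff hℓ.out.ne_zero).1 (ha0 ▸ v.isUnit)
  exact ⟨hau.unit, Units.ext (by simpa using ha0)⟩

/-- The fraction field contains the `ℓ`-th roots of unity. -/
theorem exists_primitiveRoot : ∃ ζ : K, IsPrimitiveRoot ζ ℓ := by
  haveI : NeZero (ℓ : ResidueField R) := ⟨hℓR⟩
  obtain ⟨z, hz⟩ := IsSepClosed.exists_root (cyclotomic ℓ (ResidueField R))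
    (degree_cyclotomic_pos ℓ _ hℓ.out.pos).ne' (separable_cyclotomic ℓ _)
  obtain ⟨z, rfl⟩ := residue_surjective z
  have hmap : (cyclotomic ℓ R).map (residue R) = cyclotomic ℓ (ResidueField R) := map_cyclotomic _ _
  obtain ⟨a, ha, -⟩ := HenselianLocalRing.is_henselian (cyclotomic ℓ R) (cyclotomic.monic ℓ R) z
    (by rw [← residue_eq_zero_iff, ← eval₂_at_apply, ← eval_map, hmap]; exact hz) (by
      rw [← residue_ne_zero_iff_isUnit, ← eval₂_at_apply, ← eval_map, ← derivative_map, hmap]
      exact (separable_cyclotomic ℓ _).eval₂_derivative_ne_zero (RingHom.id _) (by rwa [eval₂_id]))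
  haveI : NeZero (ℓ : K) := ⟨fun h => hℓR (by
    have h0 : (ℓ : R) = 0 := IsFractionRing.injective R K (by rw [map_natCast, map_zero, h])
    rw [← map_natCast (residue R), h0, map_zero])⟩
  refine ⟨algebraMap R K a, isRoot_cyclotomic_iff.1 ?_⟩
  rw [← map_cyclotomic ℓ (algebraMap R K)]
  exact ha.map

/-- Norms are surjective in cyclic extensions of degree `ℓ`, when `ℓ` is invertible in the residue field. -/
theorem exists_norm_eq_of_invertible (M : Type u) [Field M] [Algebra K M] [FiniteDimensional K M]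
    [IsGalois K M] (hM : Module.finrank K M = ℓ) (x : K) (hx : x ≠ 0) :
    ∃ y : M, Algebra.norm K y = x := by
  obtain ⟨π, hπ⟩ := IsDiscreteValuationRing.exists_irreducible R
  obtain ⟨ζ, hζ⟩ := exists_primitiveRoot (R := R) (K := K) ℓ hℓR
  haveI : IsCyclic (M ≃ₐ[K] M) := isCyclic_of_prime_card (p := ℓ) (by rw [IsGalois.card_aut_eq_finrank, hM])
  obtain ⟨α, ⟨a, ha⟩, htop⟩ := exists_root_adjoin_eq_top_of_isCyclic K M
    (by rw [hM]; exact ⟨ζ, (mem_primitiveRoots hℓ.out.pos).2 hζ⟩)
  rw [hM] at ha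
  have hu : ∀ v : Rˣ, ∃ y : M, Algebra.norm K y = algebraMap R K v := fun v => by
    obtain ⟨w, rfl⟩ := exists_unit_pow_eq ℓ hℓR v
    refine ⟨algebraMap K M (algebraMap R K w), ?_⟩
    rw [Algebra.norm_algebraMap, hM, Units.val_pow_eq_pow_val, map_pow]
  have hirr := irreducible_X_pow_sub_C_of_root_adjoin_eq_top (a := a) (by rw [hM]; exact ha.symm) htop
  rw [hM] at hirr
  have hnot : ∀ b : K, b ^ ℓ ≠ a := fun b hb =>
    not_irreducible_of_degree_eq_one_dvd b hirr hb
  have ha0 : a ≠ 0 := fun h => hnot 0 (by rw [h, zero_pow hℓ.out.ne_zero])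
  obtain ⟨n, v, hav⟩ := exists_eq_unit_mul_zpow hπ (K := K) ha0
  refine exists_norm_eq_of_units ℓ M hπ hM hu α n v (fun hdvd => ?_) (by rw [← ha, hav]) x hx
  obtain ⟨m, rfl⟩ := hdvd
  obtain ⟨w, rfl⟩ := exists_unit_pow_eq ℓ hℓR v
  refine hnot (algebraMap R K w * algebraMap R K π ^ m) ?_
  rw [hav, mul_pow, Units.val_pow_eq_pow_val, map_pow, ← zpow_natCast (_ ^ m), ← zpow_mul, mul_comm m]
where
  not_irreducible_of_degree_eq_one_dvd {a : K} (b : K) (h : Irreducible (X ^ ℓ - C a)) (hb : b ^ ℓ = a) :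
      False := by
    have hdvd : (X - C b) ∣ (X ^ ℓ - C a) := by
      rw [dvd_iff_isRoot]
      simp [hb]
    have h1 := natDegree_eq_of_degree_eq (degree_eq_degree_of_associated
      (((irreducible_X_sub_C b).associated_of_dvd h hdvd)))
    rw [natDegree_X_sub_C, natDegree_X_pow_sub_C] at h1
    exact hℓ.out.one_lt.ne h1

end tame

end Groth.Agent.Cd58
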