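import Groth.Agent.Cd58.DvrPush
import Groth.Agent.CdField.LerayLeft
import Groth.Agent.S3073

/-! `cd_ℓ K ≤ cd_ℓ k + 1` for the fraction field of a henselian discrete valuation ring. -/

set_option autoImplicit false
set_option linter.style.haveILetI false
set_option backward.isDefEq.respectTransparency.types false

universe u

open CategoryTheory CategoryTheory.Limits AlgebraicGeometry Opposite IsLocalRing

namespace Groth.Agent.Cd58

open Groth.Agent.CdLib Groth.Agent.EtFound

variable (R : Type u) [CommRing R] [IsDomain R] [IsDiscreteValuationRing R]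
  (K : Type u) [Field K] [Algebra R K] [IsFractionRing R K]

theorem geomPt_base (s : Spec (CommRingCat.of R)) (T : Type u) [CommRing T] [IsLocalRing T]
    [Algebra ((Spec (CommRingCat.of R)).presheaf.stalk s) T]
    [IsLocalHom (algebraMap ((Spec (CommRingCat.of R)).presheaf.stalk s) T)] :
    (Hens2.geomPt (Spec (CommRingCat.of R)) s T).base (closedPoint (ResidueField T)) = s := by
  have h1 : (Spec.map (CommRingCat.ofHom (residue T))).base (closedPoint (ResidueField T)) = closedPoint T :=
    IsLocalRing.comap_closedPoint (residue T)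
  have h2 : (Spec.map (CommRingCat.ofHom (algebraMap ((Spec (CommRingCat.of R)).presheaf.stalk s) T))).base
      (closedPoint T) = closedPoint _ :=
    IsLocalRing.comap_closedPoint (algebraMap ((Spec (CommRingCat.of R)).presheaf.stalk s) T)
  rw [Scheme.Hom.comp_base, TopCat.comp_app, h1, Scheme.Hom.comp_base, TopCat.comp_app, h2]
  exact Scheme.fromSpecStalk_closedPoint

/-- The strict localization at the closed point computes the stalks of higher direct images. -/
theorem exists_stalk_closed :
    ∃ (T : Type u) (_ : CommRing T) (_ : IsDomain T) (_ : IsDiscreteValuationRing T) (_ : HenselianLocalRing T)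
      (_ : IsSepClosed (ResidueField T)) (_ : Algebra R T) (L : Type u) (_ : Field L) (_ : Algebra T L)
      (_ : IsFractionRing T L) (_ : Algebra K L),
      (∀ r : R, algebraMap T L (algebraMap R T r) = algebraMap K L (algebraMap R K r)) ∧
      (∀ π : R, Irreducible π → Irreducible (algebraMap R T π)) ∧
      (∀ n : ℕ, (n : ResidueField R) ≠ 0 → (n : ResidueField T) ≠ 0) ∧
      (PerfectField (ResidueField R) → IsAlgClosed (ResidueField T)) ∧
      (Spec.map (CommRingCat.ofHom (residue T)) ≫ Spec.map (CommRingCat.ofHom (algebraMap R T))).base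
        (closedPoint (ResidueField T)) = closedPoint R ∧
      ∀ (n : ℕ) (G : EtCoh.Ab (Spec (CommRingCat.of K))),
        Nonempty ((EtCoh.stalk
            (Spec.map (CommRingCat.ofHom (residue T)) ≫ Spec.map (CommRingCat.ofHom (algebraMap R T)))).obj
              ((EtCoh.Rpush (genPt R K) n).obj G) ≃+
          EtCoh.H (Spec (CommRingCat.of L))
            ((EtCoh.pull (Spec.map (CommRingCat.ofHom (algebraMap K L)))).obj G) n) := by
  let s : Spec (CommRingCat.of R) := closedPoint R
  obtain ⟨T, _, _, _, _, hsh, _, hT, hinj, -, hclosed⟩ := exists_strictHenz R s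
  have hs : s.asIdeal ≠ ⊥ := IsDiscreteValuationRing.not_a_field R
  obtain ⟨_, hdvr, hirr⟩ := hclosed hs
  let A := (Spec (CommRingCat.of R)).presheaf.stalk s
  letI : Algebra R A := (StructureSheaf.toStalk R s).hom.toAlgebra
  haveI : IsLocalization.AtPrime A s.asIdeal := StructureSheaf.IsLocalization.to_stalk R s
  haveI := Hensel.IsStrictHenselization.henselian (R := A) (S := T)
  have hsep := Hensel.IsStrictHenselization.isSepClosure (R := A) (S := T)
  haveI := hsep.sep_closed
  haveI := hsep.separable
  let eA : R ≃+* A := (IsLocalization.atUnits R s.asIdeal.primeCompl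
    (S := A) (fun x hx => not_not.1 hx)).toRingEquiv
  let ek : ResidueField R ≃+* ResidueField A := ResidueField.mapEquiv eA
  let L := FractionRing T
  have hTL : Function.Injective ((algebraMap T L).comp (algebraMap R T)) := fun x y h =>
    hinj (IsFractionRing.injective T L h)
  letI : Algebra K L := (IsFractionRing.lift (K := K) (A := R)
    (g := (algebraMap T L).comp (algebraMap R T)) hTL).toAlgebra
  have hRL : ∀ r : R, algebraMap T L (algebraMap R T r) = algebraMap K L (algebraMap R K r) := fun r =>
    (IsFractionRing.lift_algebraMap hTL r).symm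
  have hgeom : Hens2.geomPt (Spec (CommRingCat.of R)) s T =
      Spec.map (CommRingCat.ofHom (residue T)) ≫ Spec.map (CommRingCat.ofHom (algebraMap R T)) := by
    refine congrArg (Spec.map (CommRingCat.ofHom (residue T)) ≫ ·) ?_
    show Spec.map _ ≫ (Spec (CommRingCat.of R)).fromSpecStalk s = _
    rw [Spec.fromSpecStalk_eq']
    exact (Spec.map_comp _ _).symm.trans
      (congrArg Spec.map (CommRingCat.hom_ext (RingHom.ext fun r => (hT r).symm)))
  refine ⟨T, inferInstance, inferInstance, hdvr, inferInstance, inferInstance, inferInstance, L, inferInstance,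
    inferInstance, inferInstance, inferInstance, hRL, hirr, fun n hn h => hn ?_, fun hperf => ?_,
    ?_, fun n G => ?_⟩
  · refine ek.injective ((algebraMap (ResidueField A) (ResidueField T)).injective ?_)
    rw [map_natCast, map_natCast, h, map_zero, map_zero]
  · letI : Algebra (ResidueField R) (ResidueField A) := ek.toRingHom.toAlgebra
    haveI : Algebra.IsAlgebraic (ResidueField R) (ResidueField A) :=
      ⟨fun x => by obtain ⟨y, rfl⟩ := ek.surjective x; exact isAlgebraic_algebraMap y⟩
    haveI : PerfectField (ResidueField A) := Algebra.IsAlgebraic.perfectField (K := ResidueField R)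
    haveI : PerfectField (ResidueField T) := Algebra.IsAlgebraic.perfectField (K := ResidueField A)
    infer_instance
  · rw [← hgeom]
    exact geomPt_base R s T
  · rw [← hgeom]
    refine nonempty_stalk_equiv R K s T hT L hRL hinj (fun b hb => ?_) n G
    obtain ⟨π, hπ⟩ := IsDiscreteValuationRing.exists_irreducible R
    obtain ⟨m, v, rfl⟩ := IsDiscreteValuationRing.eq_unit_mul_pow_irreducible hb (hirr π hπ)
    exact ⟨↑v⁻¹, π ^ m, pow_ne_zero _ hπ.ne_zero, by rw [map_pow, mul_assoc, mul_comm, mul_assoc,
      Units.inv_mul, mul_one]⟩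

/-- Higher direct images from the generic point vanish at the generic point. -/
theorem subsingleton_stalk_generic (s : Spec (CommRingCat.of R)) (hs : s.asIdeal = ⊥) (b : ℕ)
    (G : EtCoh.Ab (Spec (CommRingCat.of K))) :
    s ∉ EtPBC.supp ((EtCoh.Rpush (genPt R K) (b + 1)).obj G) := by
  obtain ⟨T, _, _, _, _, hsh, _, hT, hinj, hfield, -⟩ := exists_strictHenz R s
  haveI := (Hensel.IsStrictHenselization.isSepClosure
    (R := (Spec (CommRingCat.of R)).presheaf.stalk s) (S := T)).sep_closed
  letI := (hfield hs).toField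
  haveI : IsDomain T := inferInstance
  let L := FractionRing T
  have hTL : Function.Injective ((algebraMap T L).comp (algebraMap R T)) := fun x y h =>
    hinj (IsFractionRing.injective T L h)
  letI : Algebra K L := (IsFractionRing.lift (K := K) (A := R)
    (g := (algebraMap T L).comp (algebraMap R T)) hTL).toAlgebra
  obtain ⟨e⟩ := nonempty_stalk_equiv R K s T hT L
    (fun r => (IsFractionRing.lift_algebraMap hTL r).symm) hinj
    (fun b hb => ⟨b⁻¹, 1, one_ne_zero, by rw [mul_inv_cancel₀ hb, map_one]⟩) (b + 1) G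
  haveI : IsSepClosed L := by
    haveI : IsSepClosed T := by
      have hmax : maximalIdeal T = ⊥ := IsLocalRing.isField_iff_maximalIdeal_eq.1 (hfield hs)
      exact Hensel.isSepClosed_of_ringEquiv
        ((RingEquiv.ofBijective (residue T) ⟨RingHom.injective _, residue_surjective⟩).symm)
    exact Hensel.isSepClosed_of_ringEquiv (FractionRing.algEquiv T T).symm.toRingEquiv
  have h := @SepAcyclic.subsingleton_H_integral L _ ‹_› _ (𝟙 (Spec (CommRingCat.of L)))
    (MorphismProperty.id_mem @IsIntegralHom _) b ((EtCoh.pull (Spec.map (CommRingCat.ofHom (algebraMap K L)))).obj G)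
  have hne := notMem_supp_of_stalk _ (Hens2.geomPt (Spec (CommRingCat.of R)) s T)
    (@Equiv.subsingleton _ _ e.toEquiv h)
  rwa [geomPt_base] at hne

variable [HenselianLocalRing R] (ℓ : ℕ) [hℓ : Fact ℓ.Prime] (hℓK : (ℓ : K) ≠ 0)
  (hcond : (ℓ : ResidueField R) ≠ 0 ∨ PerfectField (ResidueField R))

include hℓK hcond

/-- `R^b j_* = 0` on `ℓ`-primary torsion sheaves for `b ≥ 2`. -/
theorem isZero_Rpush (b : ℕ) (G : EtCoh.Ab (Spec (CommRingCat.of K))) (hG : Dix.IsPrimaryTorsion ℓ G) :
    IsZero ((EtCoh.Rpush (genPt R K) (b + 2)).obj G) := by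
  refine Supp.isZero_of_supp_eq_empty _ (Set.eq_empty_iff_forall_notMem.2 fun s => ?_)
  by_cases hs : s.asIdeal = ⊥
  · exact subsingleton_stalk_generic R K s hs (b + 1) G
  · obtain ⟨T, _, _, _, _, _, _, L, _, _, _, _, hRL, hirr, hchar, hperf, hξ, he⟩ :=
      exists_stalk_closed R K
    have hℓL : (ℓ : L) ≠ 0 := by
      rw [← map_natCast (algebraMap K L)]
      exact (map_ne_zero _).2 hℓK
    have hcd : Dix.CohDimLEAt (Spec (CommRingCat.of L)) ℓ 1 :=
      cohDimLEAt_one_strict T L ℓ hℓL (hcond.imp (hchar ℓ) hperf)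
    obtain ⟨e⟩ := he (b + 2) G
    have h := notMem_supp_of_stalk _ (Spec.map (CommRingCat.ofHom (residue T)) ≫ Spec.map (CommRingCat.ofHom (algebraMap R T)))
      (@Equiv.subsingleton _ _ e.toEquiv (hcd _ (Supp.isPrimaryTorsion_pull ℓ _ hG) (b + 2) (by omega)))
    rw [show s = closedPoint R from PrimeSpectrum.ext (IsLocalRing.eq_maximalIdeal (IsPrime.to_maximal_ideal hs)),
      ← hξ]
    exact h

omit hℓK hcond hℓ in
/-- Cohomology of the spectrum of a henselian ring is that of the residue field. -/
theorem subsingleton_H_of_residue {d q : ℕ}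
    (hd : Dix.CohDimLEAt (Spec (CommRingCat.of (ResidueField R))) ℓ d) (hq : d < q)
    (F : EtCoh.Ab (Spec (CommRingCat.of R))) (hF : Dix.IsPrimaryTorsion ℓ F) :
    Subsingleton (EtCoh.H (Spec (CommRingCat.of R)) F q) := by
  let i := Spec.map (CommRingCat.ofHom (residue R))
  haveI := EtFound.pull_preservesFiniteLimits i
  haveI := hd _ (Supp.isPrimaryTorsion_pull ℓ i hF) q hq
  exact (S3073.result R F q).1.subsingleton

/-- `cd_ℓ K ≤ cd_ℓ k + 1`. -/
theorem cohDimLEAt_succ (d : ℕ) (hd : Dix.CohDimLEAt (Spec (CommRingCat.of (ResidueField R))) ℓ d) :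
    Dix.CohDimLEAt (Spec (CommRingCat.of K)) ℓ (d + 1) := by
  intro F hF q hq
  obtain ⟨m, rfl⟩ : ∃ m, q = m + 1 := ⟨q - 1, by omega⟩
  haveI : QuasiCompact (genPt R K) := quasiCompact_of_compactSpace _
  haveI := EtFound.pull_preservesFiniteLimits (genPt R K)
  refine CdField.subsingleton_H_of_push (genPt R K) F m
    (subsingleton_H_of_residue R ℓ hd (by omega) _ (TorsionClass.isPrimaryTorsion_push ℓ _ hF)) fun a b hab => ?_
  cases b with
  | zero =>
    exact subsingleton_H_of_residue R ℓ hd (by omega) _ (TorsionClass.isPrimaryTorsion_Rpush ℓ _ 0 F hF)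
  | succ b => exact Devissage.subsingleton_H_of_isZero _ (isZero_Rpush R K ℓ hℓK hcond b F hF) a

end Groth.Agent.Cd58
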