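import Groth.Agent.Cd58.StrictDvr
import Groth.Agent.Cd58.Kummer
import Mathlib.FieldTheory.IsAlgClosed.Basic

/-! Norms in cyclic extensions of degree equal to the residue characteristic, for henselian discrete valuation
rings of mixed characteristic with algebraically closed residue field. -/

set_option autoImplicit false

universe u

open Polynomial IsLocalRing

noncomputable section

namespace Groth.Agent.Cd58

/-- `(1 + y)^p = 1 + y^p + p y r(y)` with `r(0) = 1`. -/
theorem exists_binom (p : ℕ) [hp : Fact p.Prime] :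
    ∃ r : ℤ[X], r.coeff 0 = 1 ∧ (1 + X) ^ p = 1 + X ^ p + C (p : ℤ) * X * r := by
  obtain ⟨r, hr⟩ := exists_add_pow_prime_eq hp.out (1 : ℤ[X]) X
  refine ⟨r, ?_, by rw [hr, one_pow, map_natCast]; ring⟩
  have h := congrArg (fun f : ℤ[X] => f.coeff 1) hr
  simp only [one_pow, coeff_add, coeff_one, coeff_X_pow, mul_one, if_neg one_ne_zero,
    if_neg hp.out.one_lt.ne, zero_add] at h
  rw [mul_assoc, coeff_natCast_mul, coeff_X_mul] at h
  rw [coeff_one_add_X_pow, Nat.choose_one_right] at h
  have hp0 : (p : ℤ) ≠ 0 := by exact_mod_cast hp.out.ne_zero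
  exact mul_left_cancel₀ hp0 (by rw [mul_one]; exact_mod_cast h.symm)

theorem exists_residue_root {R : Type u} [CommRing R] [IsLocalRing R] [IsAlgClosed (ResidueField R)]
    (f : (ResidueField R)[X]) (hf : f.degree ≠ 0) : ∃ d : R, f.eval (residue R d) = 0 := by
  obtain ⟨z, hz⟩ := IsAlgClosed.exists_root f hf
  obtain ⟨d, rfl⟩ := residue_surjective z
  exact ⟨d, hz⟩

variable {R : Type u} [CommRing R] [IsDomain R] [IsDiscreteValuationRing R] [HenselianLocalRing R]
  [IsAlgClosed (ResidueField R)] {K : Type u} [Field K] [Algebra R K] [IsFractionRing R K]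
  (p : ℕ) [hp : Fact p.Prime] (hpR : (p : ResidueField R) = 0) (hpK : (p : K) ≠ 0)

theorem aeval_congr_mod {A : Type u} [CommRing A] (r : ℤ[X]) (x y : A) (d : A) (h : d ∣ x - y) :
    d ∣ aeval x r - aeval y r := by
  rw [← eval_map_algebraMap r x, ← eval_map_algebraMap r y]
  exact h.trans (sub_dvd_eval_sub x y _)

include hpR hpK

/-- Units are norms from an extension generated by a root of a uniformizer. -/
theorem exists_norm_eq_unit {ζ : K} (hζ : IsPrimitiveRoot ζ p) (M : Type u) [Field M] [Algebra K M]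
    [FiniteDimensional K M] [IsGalois K M] (hM : Module.finrank K M = p) {π : R} (hπ : Irreducible π)
    (γ : M) (hγ : γ ^ p = algebraMap K M (algebraMap R K π)) (v : Rˣ) :
    ∃ y : M, Algebra.norm K y = algebraMap R K v := by
  classical
  obtain ⟨r, hr0, hr⟩ := exists_binom p
  have binom : ∀ y : R, (1 + y) ^ p = 1 + y ^ p + (p : R) * y * aeval y r := fun y => by
    have h := congrArg (aeval y) hr
    simp only [map_pow, map_add, map_one, map_mul, aeval_X, aeval_C] at h
    rw [h]
    simp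
  have hπm : maximalIdeal R = Ideal.span {π} := hπ.maximalIdeal_eq
  have hdvd : ∀ a : R, π ∣ a ↔ residue R a = 0 := fun a => by
    rw [residue_eq_zero_iff, hπm, Ideal.mem_span_singleton]
  have hp0 : (p : R) ≠ 0 := fun h => hpK (by rw [← map_natCast (algebraMap R K), h, map_zero])
  obtain ⟨e, u0, hpe⟩ := IsDiscreteValuationRing.eq_unit_mul_pow_irreducible hp0 hπ
  have he : 1 ≤ e := Nat.one_le_iff_ne_zero.2 fun h => by
    rw [h, pow_zero, mul_one] at hpe
    have := (u0.isUnit.map (residue R)).ne_zero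
    rw [← hpe, map_natCast] at this
    exact this hpR
  have hπK : algebraMap R K π ≠ 0 := (map_ne_zero_iff _ (IsFractionRing.injective R K)).2 hπ.ne_zero
  -- the units which are norms
  let S : Set R := {w | IsUnit w ∧ ∃ y : M, Algebra.norm K y = algebraMap R K w}
  have hSmul : ∀ {a b : R}, a ∈ S → b ∈ S → a * b ∈ S := fun ⟨ha, y, hy⟩ ⟨hb, z, hz⟩ =>
    ⟨ha.mul hb, y * z, by rw [map_mul, hy, hz, map_mul]⟩
  have hSpow : ∀ a : R, IsUnit a → a ^ p ∈ S := fun a ha => ⟨ha.pow _, algebraMap K M (algebraMap R K a), by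
    rw [Algebra.norm_algebraMap, hM, map_pow]⟩
  have hSnorm : ∀ (x : R) (j : ℕ), 0 < j → j < p → 1 - x ^ p * π ^ j ∈ S := by
    intro x j hj hjp
    refine ⟨(IsLocalRing.notMem_maximalIdeal).1 fun h => ?_, ?_⟩
    · have : (1 : R) ∈ maximalIdeal R := by
        have h2 : x ^ p * π ^ j ∈ maximalIdeal R :=
          Ideal.mul_mem_left _ _ (by rw [hπm, Ideal.mem_span_singleton]; exact dvd_pow_self π hj.ne')
        simpa using add_mem h h2
      exact (maximalIdeal.isMaximal R).ne_top ((Ideal.eq_top_iff_one _).2 this)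
    rcases eq_or_ne x 0 with rfl | hx
    · exact ⟨1, by rw [map_one, zero_pow hp.out.ne_zero, zero_mul, sub_zero, map_one]⟩
    refine ⟨1 - algebraMap K M (algebraMap R K x) * γ ^ j, ?_⟩
    rw [norm_one_sub hζ hM (c := algebraMap R K (x ^ p * π ^ j)) ?_ ?_, map_sub, map_one]
    · rw [mul_pow, ← pow_mul, mul_comm j p, pow_mul, hγ, map_mul, map_mul, map_pow, map_pow, map_pow, map_pow]
    · rintro ⟨c, hc⟩
      have hx0 : algebraMap R K x ≠ 0 := (map_ne_zero_iff _ (IsFractionRing.injective R K)).2 hx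
      have h1 : algebraMap K M ((c / algebraMap R K x) ^ p) = algebraMap K M (algebraMap R K π ^ j) := by
        rw [map_pow, map_div₀, hc, mul_div_cancel_left₀ _ ((_root_.map_ne_zero _).2 hx0), ← pow_mul, mul_comm j p,
          pow_mul, hγ, map_pow]
      have h2 := (algebraMap K M).injective h1
      -- a Bézout combination is a `p`-th root of the uniformizer
      have hb := Nat.gcd_eq_gcd_ab j p
      rw [(hp.out.coprime_iff_not_dvd.2 (Nat.not_dvd_of_pos_of_lt hj hjp)).symm, Nat.cast_one] at hb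
      refine pow_ne_uniformizer hπ hp.out.one_lt.ne' ((c / algebraMap R K x) ^ Nat.gcdA j p *
        algebraMap R K π ^ Nat.gcdB j p) ?_
      rw [mul_pow, ← zpow_natCast (_ ^ Nat.gcdA j p), ← zpow_natCast (_ ^ Nat.gcdB j p), ← zpow_mul,
        ← zpow_mul, mul_comm (Nat.gcdA j p), zpow_mul, zpow_natCast, h2, ← zpow_natCast _ j, ← zpow_mul,
        ← zpow_add₀ hπK, mul_comm (Nat.gcdB j p), ← hb, zpow_one]
  -- `1 + π^s` consists of `p`-th powers for `s` large
  have hbig : ∀ t : ℕ, e < (p - 1) * t → ∀ c : R, 1 + c * π ^ (e + t) ∈ S := by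
    intro t ht c
    obtain ⟨q, hq⟩ : ∃ q, p * t = e + t + (q + 1) := by
      refine ⟨p * t - (e + t) - 1, ?_⟩
      rw [Nat.sub_mul, one_mul] at ht
      omega
    let f : R[X] := C (π ^ (q + 1)) * X ^ p + C (u0 : R) * X * (r.map (algebraMap ℤ R)).comp (C (π ^ t) * X) - C c
    have hr' : ∀ z : R, residue R (aeval (π ^ t * z) r) = 1 := by
      intro z
      have ht0 : t ≠ 0 := fun h => by simp [h] at ht
      have h := aeval_congr_mod r (π ^ t * z) 0 π
        (by rw [sub_zero]; exact (dvd_pow_self π ht0).mul_right z)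
      rw [← coeff_zero_eq_aeval_zero', hr0, map_one, hdvd, map_sub, map_one, sub_eq_zero] at h
      exact h
    have hev : ∀ z : R, f.eval z = π ^ (q + 1) * z ^ p + u0 * z * aeval (π ^ t * z) r - c := fun z => by
      simp only [f, eval_sub, eval_add, eval_mul, eval_pow, eval_X, eval_C, eval_comp, eval_map_algebraMap]
    obtain ⟨z, hz, -⟩ := Hensel.exists_root_lift (maximalIdeal R) f ((↑u0⁻¹ : R) * c)
      (by
        rw [← residue_eq_zero_iff, hev, map_sub, map_add, map_mul, map_mul, map_mul, hr',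
          map_pow, show residue R π = 0 from (hdvd π).1 dvd_rfl, zero_pow (Nat.succ_ne_zero q), zero_mul,
          zero_add, mul_one, ← map_mul, ← mul_assoc, Units.mul_inv, one_mul, sub_self])
      (by
        have hcast : ∀ z : R, eval z (r.map (Int.castRingHom R)) = aeval z r := fun z => by
          rw [← eval_map_algebraMap, algebraMap_int_eq]
        have hd : residue R (f.derivative.eval ((↑u0⁻¹ : R) * c)) = residue R (u0 : R) := by
          have hπ0 : residue R π = 0 := (hdvd π).1 dvd_rfl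
          have ht0 : t ≠ 0 := fun h => by simp [h] at ht
          simp [f, derivative_comp, derivative_pow, derivative_mul, hπ0, zero_pow ht0, hcast, hr']
        show IsUnit (residue R (f.derivative.eval ((↑u0⁻¹ : R) * c)))
        rw [hd]
        exact u0.isUnit.map _)
    rw [IsRoot, hev, sub_eq_zero] at hz
    have : 1 + c * π ^ (e + t) = (1 + π ^ t * z) ^ p := by
      rw [binom, mul_pow, ← pow_mul, mul_comm t p, hq, hpe, ← hz]
      ring
    rw [this]
    refine hSpow _ ((residue_ne_zero_iff_isUnit _).1 ?_)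
    rw [map_add, map_one, map_mul, map_pow, show residue R π = 0 from (hdvd π).1 dvd_rfl,
      zero_pow (fun h => by simp [h] at ht), zero_mul, add_zero]
    exact one_ne_zero
  -- every class of `1 + π^s` modulo `1 + π^(s+1)` is that of a norm
  have hstep : ∀ (s : ℕ), 1 ≤ s → ∀ c : R, ∃ w ∈ S, π ^ (s + 1) ∣ w - (1 + c * π ^ s) := by
    intro s hs c
    have hpw : ∀ m : ℕ, 0 < m → ∀ d : R, (1 + d * π ^ m) ^ p ∈ S := fun m hm d => hSpow _
      ((residue_ne_zero_iff_isUnit _).1 (by
        rw [map_add, map_one, map_mul, map_pow, show residue R π = 0 from (hdvd π).1 dvd_rfl,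
          zero_pow hm.ne', mul_zero, add_zero]
        exact one_ne_zero))
    by_cases hps : p ∣ s
    · obtain ⟨t, rfl⟩ := hps
      have ht : 0 < t := Nat.pos_of_ne_zero fun h => by simp [h] at hs
      rcases lt_trichotomy (e + t) (p * t) with hlt | heq | hgt
      · obtain ⟨t', ht'⟩ : ∃ t', p * t = e + t' := ⟨p * t - e, by omega⟩
        refine ⟨_, hbig t' ?_ c, ⟨0, by rw [ht', sub_self, mul_zero]⟩⟩
        have : (p - 1) * t ≤ (p - 1) * t' := Nat.mul_le_mul_left _ (by omega)
        have h1 : e < (p - 1) * t := by rw [Nat.sub_mul, one_mul]; omega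
        omega
      · obtain ⟨d, hd⟩ := exists_residue_root (R := R)
          (X ^ p + (C (residue R (u0 : R)) * X - C (residue R c))) (by
            rw [degree_add_eq_left_of_degree_lt, degree_X_pow]
            · exact_mod_cast hp.out.ne_zero
            · rw [degree_X_pow]
              refine lt_of_le_of_lt (degree_sub_le_of_le (degree_C_mul_X_le _) degree_C_le) ?_
              rw [max_eq_left zero_le_one]
              exact_mod_cast hp.out.one_lt)
        simp only [eval_add, eval_pow, eval_X, eval_sub, eval_mul, eval_C] at hd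
        refine ⟨_, hpw t ht d, ?_⟩
        rw [binom, mul_pow, ← pow_mul, mul_comm t p, hpe]
        obtain ⟨g, hg⟩ : π ∣ d ^ p + (u0 : R) * d * aeval (d * π ^ t) r - c := by
          rw [hdvd, map_sub, map_add, map_mul, map_mul, map_pow]
          have h1 := aeval_congr_mod r (d * π ^ t) 0 π
            (by rw [sub_zero]; exact (dvd_pow_self π ht.ne').mul_left d)
          rw [← coeff_zero_eq_aeval_zero', hr0, map_one, hdvd, map_sub, map_one, sub_eq_zero] at h1
          rw [h1, mul_one]
          linear_combination hd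
        refine ⟨g, ?_⟩
        have h2 : π ^ e * π ^ t = π ^ (p * t) := by rw [← pow_add, heq]
        linear_combination π ^ (p * t) * hg + (u0 : R) * d * aeval (d * π ^ t) r * h2
      · obtain ⟨d, hd⟩ := exists_residue_root (R := R) (X ^ p - C (residue R c))
          (by rw [degree_X_pow_sub_C hp.out.pos]; exact_mod_cast hp.out.ne_zero)
        simp only [eval_sub, eval_pow, eval_X, eval_C] at hd
        refine ⟨_, hpw t ht d, ?_⟩
        rw [binom, mul_pow, ← pow_mul, mul_comm t p, hpe]
        obtain ⟨g, hg⟩ : π ∣ d ^ p - c := by rw [hdvd, map_sub, map_pow]; exact hd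
        obtain ⟨k, hk⟩ : ∃ k, e + t = p * t + 1 + k := ⟨e + t - (p * t + 1), by omega⟩
        refine ⟨g + u0 * d * π ^ k * aeval (d * π ^ t) r, ?_⟩
        have h2 : π ^ e * π ^ t = π ^ (p * t + 1) * π ^ k := by rw [← pow_add, hk, pow_add]
        linear_combination (π ^ (p * t)) * hg + (u0 : R) * d * aeval (d * π ^ t) r * h2
    · obtain ⟨d, hd⟩ := exists_residue_root (R := R) (X ^ p + C (residue R c))
        (by rw [degree_X_pow_add_C hp.out.pos]; exact_mod_cast hp.out.ne_zero)
      simp only [eval_add, eval_pow, eval_X, eval_C] at hd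
      refine ⟨_, hSnorm (d * π ^ (s / p)) (s % p)
        (Nat.pos_of_ne_zero fun h => hps (Nat.dvd_of_mod_eq_zero h)) (Nat.mod_lt _ hp.out.pos), ?_⟩
      rw [mul_pow, ← pow_mul, mul_assoc, ← pow_add, Nat.div_add_mod']
      obtain ⟨g, hg⟩ : π ∣ d ^ p + c := by rw [hdvd, map_add, map_pow]; exact hd
      exact ⟨-g, by linear_combination -(π ^ s) * hg⟩
  -- successive approximation
  have happ : ∀ s, ∃ w ∈ S, π ^ (s + 1) ∣ w - (v : R) := by
    intro s
    induction s with
    | zero =>
      obtain ⟨d, hd⟩ := exists_residue_root (R := R) (X ^ p - C (residue R (v : R)))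
        (by rw [degree_X_pow_sub_C hp.out.pos]; exact_mod_cast hp.out.ne_zero)
      simp only [eval_sub, eval_pow, eval_X, eval_C] at hd
      refine ⟨d ^ p, hSpow d ((residue_ne_zero_iff_isUnit _).1 fun h => ?_), ?_⟩
      · rw [h, zero_pow hp.out.ne_zero, zero_sub, neg_eq_zero] at hd
        exact (v.isUnit.map (residue R)).ne_zero hd
      · rw [pow_one, hdvd, map_sub, map_pow]
        exact hd
    | succ s ih =>
      obtain ⟨w, hw, g, hg⟩ := ih
      obtain ⟨w', hw', h'⟩ := hstep (s + 1) (Nat.le_add_left 1 s) (-(↑(hw.1.unit⁻¹) : R) * g)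
      refine ⟨w * w', hSmul hw hw', ?_⟩
      obtain ⟨k, hk⟩ := h'
      refine ⟨w * k, ?_⟩
      have hu : w * (↑(hw.1.unit⁻¹) : R) = 1 := hw.1.mul_val_inv
      linear_combination w * hk + hg + (-g * π ^ (s + 1)) * hu
  have hN : p * (e + 1) = e + ((p - 1) * (e + 1) + 1) := by
    rw [Nat.sub_mul, one_mul]
    have : e + 1 ≤ p * (e + 1) := Nat.le_mul_of_pos_left _ hp.out.pos
    omega
  obtain ⟨w, hw, g, hg⟩ := happ (p * (e + 1) - 1)
  rw [Nat.sub_add_cancel (Nat.one_le_iff_ne_zero.2 (Nat.mul_ne_zero hp.out.ne_zero (Nat.succ_ne_zero e))), hN] at hg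
  have hlt : e < (p - 1) * ((p - 1) * (e + 1) + 1) := by
    have h1 : 1 ≤ p - 1 := by have := hp.out.two_le; omega
    have h2 : e + 1 ≤ (p - 1) * (e + 1) := Nat.le_mul_of_pos_left _ h1
    have h3 : (p - 1) * (e + 1) + 1 ≤ (p - 1) * ((p - 1) * (e + 1) + 1) := Nat.le_mul_of_pos_left _ h1
    omega
  have hwv : (v : R) = w * (1 + (-(↑(hw.1.unit⁻¹) : R) * g) * π ^ (e + ((p - 1) * (e + 1) + 1))) := by
    have hu : w * (↑(hw.1.unit⁻¹) : R) = 1 := hw.1.mul_val_inv
    linear_combination -hg + g * π ^ (e + ((p - 1) * (e + 1) + 1)) * hu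
  obtain ⟨-, y, hy⟩ := hSmul hw (hbig _ hlt (-(↑(hw.1.unit⁻¹) : R) * g))
  exact ⟨y, by rw [hy, ← hwv]⟩

/-- Norms are surjective in cyclic extensions of degree `p`. -/
theorem exists_norm_eq_of_residueChar {ζ : K} (hζ : IsPrimitiveRoot ζ p) (M : Type u) [Field M] [Algebra K M]
    [FiniteDimensional K M] [IsGalois K M] (hM : Module.finrank K M = p) (x : K) (hx : x ≠ 0) :
    ∃ y : M, Algebra.norm K y = x := by
  classical
  obtain ⟨π, hπ⟩ := IsDiscreteValuationRing.exists_irreducible R
  haveI : IsCyclic (M ≃ₐ[K] M) := isCyclic_of_prime_card (p := p) (by rw [IsGalois.card_aut_eq_finrank, hM])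
  obtain ⟨α, ⟨a, ha⟩, htop⟩ := exists_root_adjoin_eq_top_of_isCyclic K M
    (by rw [hM]; exact ⟨ζ, (mem_primitiveRoots hp.out.pos).2 hζ⟩)
  rw [hM] at ha
  have hαK : α ∉ Set.range (algebraMap K M) := fun hα => by
    rw [← IntermediateField.mem_bot] at hα
    rw [IntermediateField.adjoin_simple_eq_bot_iff.2 hα] at htop
    have h1 : Module.finrank K M = 1 := by
      rw [← IntermediateField.finrank_top', ← htop, IntermediateField.finrank_bot]
    exact hp.out.one_lt.ne' (hM.symm.trans h1)
  have hα0 : α ≠ 0 := fun h => hαK ⟨0, by rw [h, map_zero]⟩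
  have ha0 : a ≠ 0 := fun h => hα0 (eq_zero_of_pow_eq_zero (by rw [← ha, h, map_zero]))
  by_cases hcase : ∃ (γ : M) (π' : R), Irreducible π' ∧ γ ^ p = algebraMap K M (algebraMap R K π')
  · obtain ⟨γ, π', hπ', hγ⟩ := hcase
    refine exists_norm_eq_of_units p M hπ' hM (fun v => exists_norm_eq_unit p hpR hpK hζ M hM hπ' γ hγ v) γ 1 1
      (fun h => hp.out.one_lt.ne' ?_) (by rw [hγ, Units.val_one, map_one, one_mul, zpow_one]) x hx
    exact Nat.dvd_one.1 (Int.natCast_dvd_natCast.1 h)
  push Not at hcase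
  -- every uniformizer is a norm
  have hunif : ∀ π' : R, Irreducible π' → ∃ t : M, Algebra.norm K t = algebraMap R K π' := by
    intro π' hπ'
    let b : K := algebraMap R K π'
    have hbK : ∀ c : K, c ^ p ≠ b := fun c => pow_ne_uniformizer hπ' hp.out.one_lt.ne' c
    have hirr : Irreducible (X ^ p - C b) := X_pow_sub_C_irreducible_of_prime hp.out hbK
    haveI : Fact (Irreducible (X ^ p - C b)) := ⟨hirr⟩
    let E := AdjoinRoot (X ^ p - C b)
    haveI : FiniteDimensional K E := (AdjoinRoot.powerBasis hirr.ne_zero).finite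
    have hdeg : Module.finrank K E = p := by
      rw [(AdjoinRoot.powerBasis hirr.ne_zero).finrank, AdjoinRoot.powerBasis_dim, natDegree_X_pow_sub_C]
    have hne : (primitiveRoots p K).Nonempty := ⟨_, (mem_primitiveRoots hp.out.pos).2 hζ⟩
    haveI : IsSplittingField K E (X ^ p - C b) := isSplittingField_AdjoinRoot_X_pow_sub_C hne hirr
    haveI : IsGalois K E := isGalois_of_isSplittingField_X_pow_sub_C hne hirr E
    let β : E := AdjoinRoot.root _
    have hβ : β ^ p = algebraMap K E b := by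
      have h := AdjoinRoot.eval₂_root (X ^ p - C b)
      simp only [eval₂_sub, eval₂_pow, eval₂_X, eval₂_C, sub_eq_zero] at h
      exact h
    have hβK : β ∉ Set.range (algebraMap K E) := fun ⟨c, hc⟩ =>
      hbK c ((algebraMap K E).injective (by rw [map_pow, hc, hβ]))
    obtain ⟨y, hy⟩ := exists_norm_eq_of_units p E hπ' hdeg
      (fun v => exists_norm_eq_unit p hpR hpK hζ E hdeg hπ' β hβ v) β 1 1
      (fun h => hp.out.one_lt.ne' (Nat.dvd_one.1 (Int.natCast_dvd_natCast.1 h)))
      (by rw [hβ, Units.val_one, map_one, one_mul, zpow_one]) a ha0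
    obtain ⟨Y, hY⟩ := AdjoinRoot.mk_surjective (g := X ^ p - C b) y
    refine exists_norm_of_symm hζ hM ha.symm hαK (fun z => hcase z π' hπ') Y fun F _ _ β' hβ' _ => ?_
    -- transport the norm along `E → F`
    let ψ : E →ₐ[K] F := AdjoinRoot.liftAlgHom _ (Algebra.ofId K F) β' (by simp [hβ', b])
    obtain ⟨f, hf, hfz⟩ := bijective_conj hζ hdeg hβ hβK
    have h1 := congrArg ψ (Algebra.norm_eq_prod_automorphisms K y)
    rw [hy, AlgHom.commutes, map_prod] at h1
    rw [h1, Finset.prod_range]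
    refine (Fintype.prod_bijective f hf (fun σ => ψ (σ y)) _ fun σ => ?_).symm
    show ψ (σ y) = _
    have hyY : y = aeval β Y := by rw [AdjoinRoot.aeval_eq]; exact hY.symm
    rw [hyY]
    show ψ (σ.toAlgHom (aeval β Y)) = _
    rw [← aeval_algHom_apply σ.toAlgHom β Y, ← aeval_algHom_apply ψ]
    refine congrArg (fun w => aeval w Y) ?_
    show ψ (σ β) = _
    rw [hfz σ, map_mul, map_pow, AlgHom.commutes]
    exact congrArg _ (AdjoinRoot.liftAlgHom_root _ _ _ _)
  have hu : ∀ v : Rˣ, ∃ y : M, Algebra.norm K y = algebraMap R K v := by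
    intro v
    obtain ⟨t₁, h₁⟩ := hunif (π * v) (irreducible_mul_units v |>.2 hπ)
    obtain ⟨t₂, h₂⟩ := hunif π hπ
    have hπ0 : algebraMap R K π ≠ 0 := (map_ne_zero_iff _ (IsFractionRing.injective R K)).2 hπ.ne_zero
    have ht₂ : t₂ ≠ 0 := fun h => hπ0 (by rw [← h₂, h, Algebra.norm_zero])
    refine ⟨t₁ / t₂, mul_right_cancel₀ hπ0 ?_⟩
    conv_lhs => rw [← h₂]
    rw [← map_mul, div_mul_cancel₀ _ ht₂, h₁, map_mul, mul_comm]
  obtain ⟨m, v, rfl⟩ := exists_eq_unit_mul_zpow hπ (K := K) hx
  obtain ⟨y, hy⟩ := hu v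
  obtain ⟨t, ht⟩ := hunif π hπ
  have ht0 : t ≠ 0 := fun h => (map_ne_zero_iff _ (IsFractionRing.injective R K)).2 hπ.ne_zero
    (by rw [← ht, h, Algebra.norm_zero])
  have hnu : Algebra.norm K (t ^ m) = Algebra.norm K t ^ m := by
    have h := congrArg Units.val (map_zpow (Units.map (Algebra.norm K : M →* K)) (Units.mk0 t ht0) m)
    rw [Units.coe_map, Units.val_zpow_eq_zpow_val, Units.val_zpow_eq_zpow_val, Units.coe_map] at h
    exact h
  exact ⟨y * t ^ m, by rw [map_mul, hnu, hy, ht]⟩

end Groth.Agent.Cd58
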